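import Cfsg.Agent.H685.AcdNab
import Cfsg.Agent.S0866
import Cfsg.Agent.S0886
import Cfsg.Agent.CharactersDeep.ExtUnique
import Cfsg.Agent.H235.ExtOut
import Cfsg.Prelude.Def_KGroupFacts
import Cfsg.Agent.H481.TBound
import Cfsg.Agent.H954.OutAllD
import Cfsg.Agent.H681.DegBasic
import Cfsg.Agent.H748.PalfyClifford
import Cfsg.Agent.H936.PSMain_m3
import Cfsg.Agent.H671.Frame
import Cfsg.Agent.H671.Tensor
import Cfsg.Agent.H597.PsuDeg
import Cfsg.Agent.Characters.GaloisIrr
import Cfsg.Agent.S0144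
import Cfsg.Agent.H595.AvgTwoG
import Cfsg.Agent.Blocks.Deflate
import Cfsg.Agent.S0205
import Cfsg.Agent.H907.ExtFree
import Cfsg.Agent.H934.OutCl
import Cfsg.Agent.S2600
import Cfsg.Agent.S2602
import Cfsg.Agent.S2603
import Cfsg.Agent.S2604
import Cfsg.Agent.S2605
import Cfsg.Agent.S2606
import Cfsg.Agent.H254.CopCard_m3
import Cfsg.Agent.H565.TwField
import Cfsg.Agent.H69.OutCount
import Cfsg.Agent.S2121
import Cfsg.Agent.S2122
import Cfsg.Agent.S2124
import Cfsg.Agent.S2125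
import Cfsg.Agent.S2130
import Cfsg.Agent.H69.OutTwD4
import Cfsg.Agent.S2127
import Cfsg.Agent.S2128
import Cfsg.Agent.H70.SzOut
import Cfsg.Agent.LieRecognition.FieldSemilinear
import Cfsg.Agent.H113.PSL.Main
import Cfsg.Agent.S2601
import Cfsg.Agent.H183.OutPSU
import Cfsg.Agent.S0280
import Cfsg.Agent.H477.HC.Rk3Chars_m3
import Cfsg.Agent.S0817
import Cfsg.Agent.H167.HasStLie
import Cfsg.Agent.UGT.U2.Rec.Congr
import Cfsg.Agent.PermutationGroups.FieldCoord
import Cfsg.Agent.H53.HC.BigFacts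
import Cfsg.Agent.Lib.Zsigmondy
import Cfsg.Agent.S1063
import Cfsg.Agent.S2123
import Cfsg.Agent.H954.OutLinB
import Cfsg.Agent.H53.HC.ExcIM
import Cfsg.Agent.S0254
import Cfsg.Agent.H954.OutAllL
import Cfsg.Agent.H671.FactRows
import Cfsg.Agent.FastGrp
import Cfsg.Agent.Prune
set_option linter.all false

section
prune_inst 0x7ff1fef81ba825dedfff7e3ffed1dffe13c0cfffefdffb43ffe0e9bf8f9f030239e5ab851de050fd0ed6603630b87813f97eceffe063dc7ffffd5fb41ffbee1fe5f6350911d48834062c2fff03f15f0a6f3ffff7ffffffffffffffffffffffbeffffebfeffff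

-- part: H404/Avg/Good
section
prune_inst 0xe0107a440c80100000000010e00002003000010200408001d06406040a0790600500000140002d10184c888000040008110000f082000000000404000004010018a80600b1580d9920000600220b580000008000000000000000000000041000010000000
set_option linter.all false
open scoped Cfsg.Agent.FastGrp

-- part: H404/Avg/Ext
section
/-!
# Ramification of the characters of a simple group in its automorphism group (helper404, for S4831)

* `EBd α c`   : every group `Inn S ≤ B ≤ Aut S` which stabilises `α` has an irreducible character over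
  `α` with ramification index `e ≤ c`;
* `OutIdx S c`: `Out S` has a cyclic subgroup of index at most `c`;
* `Good p S`  : some `α` of degree divisible by `p` has `EBd α c` with `(c + 1) p ≤ 2 α(1)`.
-/

set_option autoImplicit false
set_option linter.unusedSectionVars false

namespace Cfsg.Agent.H404.Avg

open Cfsg
open scoped ComplexConjugate commutatorElement
open Cfsg.Agent.Characters.Core
open Cfsg.Agent.OddOrderCharacters.NormalInduced (conjFn)
open Cfsg.Agent.OddOrderCharacters.IndRes (res)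
open Cfsg.Agent.OddOrderCharacters.PF9.CliffGen (resTo isCharacter_resTo res_of_invariant
  degree_le_of_constituent)

universe u v

/-- Ramification bound: see the module docstring. -/
def EBd {S : Type u} [Group S] (α : S → ℂ) (c : ℕ) : Prop :=
  ∀ B : Subgroup (MulAut S), ∀ hB : (MulAut.conj : S →* MulAut S).range ≤ B,
    (∀ b ∈ B, ∀ s, α (b s) = α s) →
    ∃ (β : B → ℂ) (e : ℕ), IsIrrCharacter B β ∧ e ≠ 0 ∧ e ≤ c ∧
      ∀ s, β ⟨MulAut.conj s, hB ⟨s, rfl⟩⟩ = e * α s

/-- `Out S` has a cyclic subgroup of index at most `c`. -/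
def OutIdx (S : Type u) [Group S] (c : ℕ) : Prop :=
  ∃ g : MulAut S, ((MulAut.conj : S →* MulAut S).range ⊔ Subgroup.zpowers g).index ≤ c

/-- See the module docstring. -/
def Good (p : ℕ) (S : Type u) [Group S] : Prop :=
  ∃ (α : IrrCharacter S) (c : ℕ), p ∣ charDegree (α : S → ℂ) ∧ EBd (α : S → ℂ) c ∧
    (c + 1) * p ≤ 2 * charDegree (α : S → ℂ)

theorem EBd.mono {S : Type u} [Group S] {α : S → ℂ} {c d : ℕ} (h : EBd α c) (hcd : c ≤ d) :
    EBd α d := by
  intro B hB hinv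
  obtain ⟨β, e, h1, h2, h3, h4⟩ := h B hB hinv
  exact ⟨β, e, h1, h2, h3.trans hcd, h4⟩

/-- An irreducible character over an invariant character which extends to `U`. -/
theorem exists_over_of_ext {B : Type u} [Group B] [Fintype B] (N U : Subgroup B) [hN : N.Normal]
    [Fintype N] [Fintype U] (hNU : N ≤ U) {θ : N → ℂ} (hθ : IsIrrCharacter N θ)
    (hinv : ∀ b, conjFn N θ b = θ) {η : U → ℂ} (hη : IsIrrCharacter U η)
    (hηθ : ∀ n : N, η ⟨n, hNU n.2⟩ = θ n) :
    ∃ (β : B → ℂ) (e : ℕ), IsIrrCharacter B β ∧ e ≠ 0 ∧ e ≤ U.index ∧ ∀ n : N, β n = e * θ n := by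
  classical
  have hind : IsCharacter B (indFun U η) :=
    Cfsg.Agent.OddOrderCharacters.IndRes.isCharacter_indFun U (isIrr_isCharacter hη)
  have hone := Cfsg.Agent.OddOrderCharacters.IndRes.indFun_apply_one (H := U) η
  have hne : indFun U η ≠ 0 := by
    intro h
    have h1 := congrFun h 1
    rw [hone] at h1
    rcases mul_eq_zero.1 h1 with h2 | h2
    · exact Subgroup.index_ne_zero_of_finite (H := U) (by exact_mod_cast h2)
    · exact isIrr_apply_one_ne_zero hη h2
  obtain ⟨β, hβ, h1⟩ := Cfsg.Agent.OddOrderCharacters.PF4Type.exists_irr_constituent hind hne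
  have h1' := h1
  rw [Cfsg.Agent.OddOrderCharacters.IndRes.classInner_indFun_left U η
    (isIrr_isClassFunction hβ)] at h1
  have h0 : classInner (res U β) η ≠ 0 := by
    rw [← classInner_conj_symm]
    exact (map_ne_zero _).2 h1
  have hrU : IsCharacter U (res U β) :=
    Cfsg.Agent.OddOrderCharacters.IndRes.isCharacter_res U (isIrr_isCharacter hβ)
  have hrest := Cfsg.Agent.OddOrderCharacters.Clifford.isCharacter_sub_irr hrU hη h0
  obtain ⟨k, hk⟩ := classInner_isNat (isCharacter_resTo hNU hrest) (isIrr_isCharacter hθ)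
  have h2 : res N β = resTo hNU (res U β - η) + θ := by
    funext n
    show β n = (β n - η ⟨n, hNU n.2⟩) + θ n
    rw [hηθ]
    ring
  have h3 : classInner (res N β) θ ≠ 0 := by
    rw [h2, classInner_add_left, hk, classInner_irr_self hθ]
    exact_mod_cast Nat.succ_ne_zero k
  have hrc : IsCharacter N (res N β) :=
    Cfsg.Agent.OddOrderCharacters.IndRes.isCharacter_res N (isIrr_isCharacter hβ)
  obtain ⟨e, he⟩ := classInner_isNat hrc (isIrr_isCharacter hθ)
  have hθ1 := isIrr_apply_one_ne_zero hθ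
  have hmul := fun n => res_of_invariant (N := N) hθ hinv hβ h3 n
  have hsm : res N β = (β 1 / θ 1) • θ := by
    funext n
    show β n = β 1 / θ 1 * θ n
    have h2 := hmul n
    field_simp
    linear_combination h2
  have hc : (e : ℂ) = β 1 / θ 1 := by
    rw [← he, hsm, classInner_smul_left, classInner_irr_self hθ, mul_one]
  have hβe : ∀ n : N, β n = e * θ n := by
    intro n
    rw [hc]
    exact congrFun hsm n
  have he0 : e ≠ 0 := by
    rintro rfl
    rw [he] at h3
    simp at h3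
  refine ⟨β, e, hβ, he0, ?_, hβe⟩
  obtain ⟨d, hd0, hd⟩ := isIrr_apply_one hθ
  have h4 : β 1 = ((e * d : ℕ) : ℂ) := by
    have h5 := hβe 1
    rw [hd] at h5
    rw [show β 1 = β ((1 : N) : B) from rfl, h5]
    push_cast
    rfl
  have h5 : indFun U η 1 = ((U.index * d : ℕ) : ℂ) := by
    rw [hone, show η 1 = θ 1 from hηθ 1, hd]
    push_cast
    rfl
  have h6 := degree_le_of_constituent hind hβ h1' h5 h4
  exact Nat.le_of_mul_le_mul_right h6 hd0

/-- The same for an injective homomorphism with normal range. -/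
theorem exists_over_hom_of_ext {S : Type v} {B : Type u} [Group S] [Finite S] [Group B] [Finite B]
    (j : S →* B) (hj : Function.Injective j) (hjn : j.range.Normal) {α : S → ℂ}
    (hα : IsIrrCharacter S α) (hinv : ∀ (b : B) (s s' : S), j s' = b * j s * b⁻¹ → α s' = α s)
    (U : Subgroup B) (hU : j.range ≤ U) {η : U → ℂ} (hη : IsIrrCharacter U η)
    (hηα : ∀ s, η ⟨j s, hU ⟨s, rfl⟩⟩ = α s) :
    ∃ (β : B → ℂ) (e : ℕ), IsIrrCharacter B β ∧ e ≠ 0 ∧ e ≤ U.index ∧
      ∀ s : S, β (j s) = e * α s := by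
  classical
  have := Fintype.ofFinite B
  have := Fintype.ofFinite j.range
  have := Fintype.ofFinite U
  let E : S ≃* j.range := MonoidHom.ofInjective hj
  have hEj : ∀ s, ((E s : j.range) : B) = j s := fun s => rfl
  have hθ : IsIrrCharacter j.range (α ∘ E.symm.toMonoidHom) :=
    isIrr_comp E.symm.toMonoidHom E.symm.surjective hα
  obtain ⟨β, e, hβ, he0, he, h⟩ := exists_over_of_ext j.range U hU hθ (by
    intro b
    funext n
    show α (E.symm ⟨b * n * b⁻¹, _⟩) = α (E.symm n)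
    refine hinv b _ _ ?_
    rw [← hEj, ← hEj, E.apply_symm_apply, E.apply_symm_apply]) hη (by
    intro n
    obtain ⟨s, rfl⟩ := E.surjective n
    show η ⟨j s, _⟩ = α (E.symm (E s))
    rw [E.symm_apply_apply, hηα])
  refine ⟨β, e, hβ, he0, he, fun s => ?_⟩
  have h1 := h (E s)
  rw [hEj] at h1
  rw [h1]
  show (e : ℂ) * α (E.symm (E s)) = _
  rw [E.symm_apply_apply]

section simple

variable {S : Type u} [Group S] [Finite S] [IsSimpleGroup S]

/-- The inclusion of `Inn S ≅ S` into `B`. -/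
noncomputable def jB (B : Subgroup (MulAut S)) (hB : (MulAut.conj : S →* MulAut S).range ≤ B) :
    S →* B := (MulAut.conj : S →* MulAut S).codRestrict B fun s => hB ⟨s, rfl⟩

theorem jB_val (B : Subgroup (MulAut S)) (hB : (MulAut.conj : S →* MulAut S).range ≤ B) (s : S) :
    ((jB B hB s : B) : MulAut S) = MulAut.conj s := rfl

theorem jB_injective (hna : ¬ IsMulCommutative S) (B : Subgroup (MulAut S))
    (hB : (MulAut.conj : S →* MulAut S).range ≤ B) : Function.Injective (jB B hB) := fun a b h =>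
  Cfsg.Agent.H235.ExtOut.conj_injective hna (congrArg Subtype.val h)

theorem conj_apply_eq (b : MulAut S) (s : S) : b * MulAut.conj s * b⁻¹ = MulAut.conj (b s) := by
  ext x
  simp [MulAut.conj_apply]

theorem jB_conj (B : Subgroup (MulAut S)) (hB : (MulAut.conj : S →* MulAut S).range ≤ B) (b : B)
    (s : S) : b * jB B hB s * b⁻¹ = jB B hB ((b : MulAut S) s) :=
  Subtype.ext (conj_apply_eq (b : MulAut S) s)

theorem jB_normal (B : Subgroup (MulAut S)) (hB : (MulAut.conj : S →* MulAut S).range ≤ B) :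
    (jB B hB).range.Normal := by
  refine ⟨?_⟩
  rintro _ ⟨s, rfl⟩ b
  exact ⟨(b : MulAut S) s, (jB_conj B hB b s).symm⟩

theorem jB_range (B : Subgroup (MulAut S)) (hB : (MulAut.conj : S →* MulAut S).range ≤ B) :
    (jB B hB).range = (MulAut.conj : S →* MulAut S).range.subgroupOf B := by
  ext b
  constructor
  · rintro ⟨s, rfl⟩
    exact ⟨s, (jB_val B hB s).symm⟩
  · rintro ⟨s, hs⟩
    exact ⟨s, Subtype.ext ((jB_val B hB s).trans hs)⟩

theorem jB_inv (hna : ¬ IsMulCommutative S) (B : Subgroup (MulAut S))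
    (hB : (MulAut.conj : S →* MulAut S).range ≤ B) {α : S → ℂ} (h : ∀ b ∈ B, ∀ s, α (b s) = α s)
    (b : B) (s s' : S) (hs : jB B hB s' = b * jB B hB s * b⁻¹) : α s' = α s := by
  rw [jB_conj] at hs
  rw [jB_injective hna B hB hs]
  exact h b b.2 s

/-- The general bound `e ^ 2 ≤ |Out S|`. -/
theorem ebd_of_sq (hna : ¬ IsMulCommutative S) {α : S → ℂ} (hα : IsIrrCharacter S α) {c : ℕ}
    (hc : Nat.card (Cfsg.Out S) < (c + 1) ^ 2) : EBd α c := by
  intro B hB hinv
  obtain ⟨β, e, hβ, he0, he, h⟩ := Cfsg.Agent.H685.Acd.exists_over_hom (jB B hB)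
    (jB_injective hna B hB) (jB_normal B hB) hα (jB_inv hna B hB hinv)
  refine ⟨β, e, hβ, he0, ?_, h⟩
  have h1 : (jB B hB).range.index ≤ Nat.card (Cfsg.Out S) := by
    rw [jB_range]
    have h2 := Subgroup.relIndex_le_of_le_right (H := (MulAut.conj : S →* MulAut S).range)
      (K := B) (L := ⊤) le_top (by
        rw [Subgroup.relIndex_top_right]
        exact Subgroup.index_ne_zero_of_finite)
    rw [Subgroup.relIndex_top_right] at h2
    exact h2
  have h2 : e ^ 2 < (c + 1) ^ 2 := (he.trans h1).trans_lt hc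
  exact Nat.lt_succ_iff.1 (lt_of_pow_lt_pow_left₀ 2 (Nat.zero_le _) h2)

/-- The bound from a cyclic subgroup of `Out S`. -/
theorem ebd_of_outIdx (hna : ¬ IsMulCommutative S) {α : S → ℂ} (hα : IsIrrCharacter S α) {c : ℕ}
    (hc : OutIdx S c) : EBd α c := by
  intro B hB hinv
  obtain ⟨g, hg⟩ := hc
  set W : Subgroup (MulAut S) := (MulAut.conj : S →* MulAut S).range ⊔ Subgroup.zpowers g with hW
  have hIW : (MulAut.conj : S →* MulAut S).range ≤ W := le_sup_left
  let U : Subgroup B := W.subgroupOf B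
  have hjU : (jB B hB).range ≤ U := by
    rw [jB_range]
    exact fun x hx => hIW hx
  -- the cyclic quotient
  let f : U →* Cfsg.Out S := (QuotientGroup.mk' (Inn S)).comp (B.subtype.comp U.subtype)
  have hf : ∀ u : U, f u = QuotientGroup.mk' (Inn S) ((u : B) : MulAut S) := fun u => rfl
  have hfker : ∀ u : U, u ∈ f.ker ↔ ((u : B) : MulAut S) ∈ (MulAut.conj : S →* MulAut S).range := by
    intro u
    rw [MonoidHom.mem_ker, hf, QuotientGroup.mk'_apply, QuotientGroup.eq_one_iff]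
  have hrange : f.range ≤ Subgroup.zpowers (QuotientGroup.mk' (Inn S) g) := by
    rintro _ ⟨u, rfl⟩
    rw [hf]
    have h1 : ((u : B) : MulAut S) ∈ W := u.2
    have h2 : W.map (QuotientGroup.mk' (Inn S)) ≤
        Subgroup.zpowers (QuotientGroup.mk' (Inn S) g) := by
      rw [hW, Subgroup.map_sup]
      refine sup_le ?_ ?_
      · rintro _ ⟨_, ⟨s, rfl⟩, rfl⟩
        have h3 : QuotientGroup.mk' (Inn S) (MulAut.conj s) = 1 := by
          rw [QuotientGroup.mk'_apply, QuotientGroup.eq_one_iff]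
          exact ⟨s, rfl⟩
        rw [h3]
        exact Subgroup.one_mem _
      · rw [MonoidHom.map_zpowers]
    exact h2 ⟨_, h1, rfl⟩
  have hcyc : IsCyclic (U ⧸ f.ker) := by
    have h1 : IsCyclic f.range := by
      have h2 := Subgroup.inclusion_injective hrange
      exact isCyclic_of_injective (Subgroup.inclusion hrange) h2
    exact isCyclic_of_surjective (QuotientGroup.quotientKerEquivRange f).symm.toMonoidHom
      (QuotientGroup.quotientKerEquivRange f).symm.surjective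
  -- `S` as the kernel
  let k : S →* f.ker := ((jB B hB).codRestrict U fun s => hjU ⟨s, rfl⟩).codRestrict f.ker
    fun s => (hfker _).2 ⟨s, rfl⟩
  have hkv : ∀ s, (((k s : f.ker) : U) : B) = jB B hB s := fun s => rfl
  have hkb : Function.Bijective k := by
    constructor
    · intro a b hab
      apply jB_injective hna B hB
      rw [← hkv, ← hkv, hab]
    · rintro ⟨u, hu⟩
      obtain ⟨s, hs⟩ := (hfker u).1 hu
      refine ⟨s, ?_⟩
      apply Subtype.ext
      apply Subtype.ext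
      apply Subtype.ext
      exact hs
  let E : S ≃* f.ker := MulEquiv.ofBijective k hkb
  have hE : ∀ s, E s = k s := fun s => rfl
  obtain ⟨η, hη, hηE⟩ := Cfsg.Agent.S0886.result f.ker hcyc (α ∘ E.symm)
    (isIrr_comp (E.symm : f.ker →* S) E.symm.surjective hα) (by
      intro u n
      obtain ⟨s, rfl⟩ := E.surjective n
      have h1 : (⟨u * (E s : f.ker) * u⁻¹, (inferInstance : f.ker.Normal).conj_mem _ (E s).2 u⟩ :
          f.ker) = E (((u : B) : MulAut S) s) := by
        apply Subtype.ext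
        apply Subtype.ext
        exact jB_conj B hB (u : B) s
      rw [h1]
      show α (E.symm (E _)) = α (E.symm (E s))
      rw [E.symm_apply_apply, E.symm_apply_apply]
      exact hinv _ (u : B).2 s)
  obtain ⟨β, e, hβ, he0, he, h⟩ := exists_over_hom_of_ext (jB B hB) (jB_injective hna B hB)
    (jB_normal B hB) hα (jB_inv hna B hB hinv) U hjU hη (by
      intro s
      have h1 := hηE (E s)
      rw [hE] at h1
      rw [show (⟨jB B hB s, hjU ⟨s, rfl⟩⟩ : U) = ((k s : f.ker) : U) from rfl, h1, ← hE]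
      show α (E.symm (E s)) = α s
      rw [E.symm_apply_apply])
  refine ⟨β, e, hβ, he0, he.trans ?_, h⟩
  have h2 := Subgroup.relIndex_le_of_le_right (H := W) (K := B) (L := ⊤) le_top (by
        rw [Subgroup.relIndex_top_right]
        exact Subgroup.index_ne_zero_of_finite)
  rw [Subgroup.relIndex_top_right] at h2
  exact (show U.index ≤ W.index from h2).trans hg

/-- Coprime degree: the character extends. -/
theorem ebd_of_coprime (hna : ¬ IsMulCommutative S) {α : S → ℂ} (hα : IsIrrCharacter S α) {d : ℕ}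
    (hd : α 1 = d) (hcop : Nat.Coprime (Nat.card (Cfsg.Out S)) d) : EBd α 1 := by
  classical
  intro B hB hinv
  have hnorm := jB_normal B hB
  let E : S ≃* (jB B hB).range := MonoidHom.ofInjective (jB_injective hna B hB)
  have hE : ∀ s, ((E s : (jB B hB).range) : B) = jB B hB s := fun s => rfl
  have hθ : IsIrrCharacter (jB B hB).range (α ∘ E.symm) :=
    isIrr_comp (E.symm : (jB B hB).range →* S) E.symm.surjective hα
  have hidx : (jB B hB).range.index ∣ Nat.card (Cfsg.Out S) := by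
    rw [jB_range]
    exact Subgroup.relIndex_dvd_index_of_normal (MulAut.conj : S →* MulAut S).range B
  have hcop' : Nat.Coprime (jB B hB).range.index d := Nat.Coprime.coprime_dvd_left hidx hcop
  have hdet : ∀ n : (jB B hB).range, detChar (α ∘ E.symm) n = 1 := by
    intro n
    obtain ⟨δ, hδ⟩ := Cfsg.Agent.CharactersDeep.ExtUnique.exists_hom_detChar hθ
    rw [hδ]
    obtain ⟨s, rfl⟩ := E.surjective n
    let δ' : S →* ℂˣ := δ.comp E.toMonoidHom
    have h1 : δ' s = 1 := by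
      rcases (inferInstance : δ'.ker.Normal).eq_bot_or_eq_top with h | h
      · exfalso
        apply hna
        refine ⟨⟨fun a b => ?_⟩⟩
        have hinj : Function.Injective δ' := (MonoidHom.ker_eq_bot_iff δ').1 h
        apply hinj
        rw [map_mul, map_mul, mul_comm]
      · exact MonoidHom.mem_ker.1 (h ▸ Subgroup.mem_top s)
    have h2 : δ (E s) = 1 := h1
    rw [h2, Units.val_one]
  obtain ⟨χ, hχ, hres⟩ := (Cfsg.Agent.S0866.result (jB B hB).range (α ∘ E.symm) hθ (by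
      intro b n
      obtain ⟨s, rfl⟩ := E.surjective n
      have h1 : (⟨b * (E s : (jB B hB).range) * b⁻¹, hnorm.conj_mem _ (E s).2 b⟩ :
          (jB B hB).range) = E ((b : MulAut S) s) := by
        apply Subtype.ext
        exact jB_conj B hB b s
      rw [h1]
      show α (E.symm (E _)) = α (E.symm (E s))
      rw [E.symm_apply_apply, E.symm_apply_apply]
      exact hinv _ b.2 s) d (by
      show α (E.symm 1) = d
      rw [map_one, hd]) hcop').2
    ⟨1, isCharacter_one, rfl, fun n => (hdet n).symm⟩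
  refine ⟨χ, 1, hχ, one_ne_zero, le_rfl, fun s => ?_⟩
  have h1 := hres (E s)
  rw [hE] at h1
  rw [Nat.cast_one, one_mul, show (⟨MulAut.conj s, hB ⟨s, rfl⟩⟩ : B) = jB B hB s from rfl, h1]
  show α (E.symm (E s)) = α s
  rw [E.symm_apply_apply]

end simple

end Cfsg.Agent.H404.Avg
end

-- part: H404/Avg/Good
section
/-!
# `Good p S`: criteria (helper404, for S4831)

* `Good.congr`, `OutIdx.congr` : transport along isomorphisms;
* `good_of` : `p ∣ α(1)`, `|Out S| < (c + 1) ^ 2`, `(c + 1) p ≤ 2 α(1)`;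
* `good_of_im` : if `p` divides some degree, `|Out S| < χ(1)` for all `χ ≠ 1` and `|Out S| ≤ 15` or `Out S`
  has a cyclic subgroup of index at most three, then `Good p S`.
-/

set_option autoImplicit false
set_option linter.unusedSectionVars false

namespace Cfsg.Agent.H404.Avg

open Cfsg
open Cfsg.Agent.Characters.Core

universe u v

/-- `|Out S| < χ(1)` for all nonlinear irreducible characters. -/
def OutLin (S : Type u) [Group S] : Prop :=
  ∀ χ : IrrCharacter S, charDegree (χ : S → ℂ) ≠ 1 → Nat.card (Cfsg.Out S) < charDegree (χ : S → ℂ)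

section congr

variable {S : Type u} {S' : Type v} [Group S] [Group S']

theorem conj_range_map (e : S ≃* S') : (MulAut.conj : S →* MulAut S).range.map
    (MulAut.congr e).toMonoidHom = (MulAut.conj : S' →* MulAut S').range := by
  ext x
  constructor
  · rintro ⟨_, ⟨s, rfl⟩, rfl⟩
    refine ⟨e s, ?_⟩
    ext y
    show e s * y * (e s)⁻¹ = e (s * e.symm y * s⁻¹)
    rw [map_mul, map_mul, map_inv, e.apply_symm_apply]
  · rintro ⟨s, rfl⟩
    refine ⟨MulAut.conj (e.symm s), ⟨_, rfl⟩, ?_⟩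
    ext y
    show e (e.symm s * e.symm y * (e.symm s)⁻¹) = s * y * s⁻¹
    rw [map_mul, map_mul, map_inv, e.apply_symm_apply, e.apply_symm_apply]

theorem OutIdx.congr {c : ℕ} (h : OutIdx S c) (e : S ≃* S') : OutIdx S' c := by
  obtain ⟨g, hg⟩ := h
  refine ⟨MulAut.congr e g, ?_⟩
  have h1 : (MulAut.conj : S' →* MulAut S').range ⊔ Subgroup.zpowers (MulAut.congr e g) =
      ((MulAut.conj : S →* MulAut S).range ⊔ Subgroup.zpowers g).map
        (MulAut.congr e).toMonoidHom := by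
    rw [Subgroup.map_sup, conj_range_map, MonoidHom.map_zpowers]
    rfl
  rw [h1, Subgroup.index_map_of_bijective (f := (MulAut.congr e).toMonoidHom)
    (MulAut.congr e).bijective]
  exact hg

theorem EBd.congr {α : S → ℂ} {c : ℕ} (h : EBd α c) (e : S ≃* S') : EBd (α ∘ e.symm) c := by
  intro B hB hinv
  let F : MulAut S ≃* MulAut S' := MulAut.congr e
  have hF : ∀ (a : MulAut S) (y : S'), F a y = e (a (e.symm y)) := fun a y => rfl
  let B' : Subgroup (MulAut S) := B.comap F.toMonoidHom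
  have hB' : (MulAut.conj : S →* MulAut S).range ≤ B' := by
    rintro _ ⟨s, rfl⟩
    show F (MulAut.conj s) ∈ B
    apply hB
    rw [← conj_range_map e]
    exact ⟨_, ⟨s, rfl⟩, rfl⟩
  obtain ⟨β, k, hβ, hk0, hk, hval⟩ := h B' hB' (by
    intro b hb s
    have h1 := hinv (F b) hb (e s)
    rw [hF, e.symm_apply_apply] at h1
    show α (b s) = α s
    have h2 : α (e.symm (e (b s))) = α (e.symm (e s)) := h1
    rwa [e.symm_apply_apply, e.symm_apply_apply] at h2)
  let G : B ≃* B' :=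
    { toFun := fun b => ⟨F.symm b, by
        show F (F.symm b) ∈ B
        rw [F.apply_symm_apply]
        exact b.2⟩
      invFun := fun b => ⟨F b, b.2⟩
      left_inv := fun b => Subtype.ext (F.apply_symm_apply _)
      right_inv := fun b => Subtype.ext (F.symm_apply_apply _)
      map_mul' := fun a b => Subtype.ext (map_mul F.symm _ _) }
  refine ⟨β ∘ G, k, isIrr_comp (G : B →* B') G.surjective hβ, hk0, hk, fun s => ?_⟩
  have h1 := hval (e.symm s)
  have h2 : G ⟨MulAut.conj s, hB ⟨s, rfl⟩⟩ = ⟨MulAut.conj (e.symm s), hB' ⟨e.symm s, rfl⟩⟩ := by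
    apply Subtype.ext
    show F.symm (MulAut.conj s) = MulAut.conj (e.symm s)
    rw [MulEquiv.symm_apply_eq]
    ext y
    show s * y * s⁻¹ = e (e.symm s * e.symm y * (e.symm s)⁻¹)
    rw [map_mul, map_mul, map_inv, e.apply_symm_apply, e.apply_symm_apply]
  show β (G _) = _
  rw [h2, h1]
  rfl

theorem charDegree_congr (α : S → ℂ) (e : S ≃* S') : charDegree (α ∘ e.symm) = charDegree α := by
  unfold charDegree
  rw [Function.comp_apply, map_one]

theorem Good.congr {p : ℕ} (h : Good p S) (e : S ≃* S') : Good p S' := by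
  obtain ⟨α, c, h1, h2, h3⟩ := h
  refine ⟨⟨(α : S → ℂ) ∘ e.symm, isIrr_comp (e.symm : S' →* S) e.symm.surjective α.2⟩, c, ?_,
    h2.congr e, ?_⟩
  · show p ∣ charDegree ((α : S → ℂ) ∘ e.symm)
    rwa [charDegree_congr]
  · show _ ≤ 2 * charDegree ((α : S → ℂ) ∘ e.symm)
    rwa [charDegree_congr]

theorem OutLin.congr (h : OutLin S) (e : S ≃* S') : OutLin S' := by
  intro χ hχ
  have h1 : IsIrrCharacter S ((χ : S' → ℂ) ∘ e.symm.symm) :=
    isIrr_comp (e : S →* S') e.surjective χ.2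
  have h2 := charDegree_congr (χ : S' → ℂ) e.symm
  have h3 := h ⟨_, h1⟩ (by rw [h2]; exact hχ)
  rwa [h2, Cfsg.Agent.H934.OutB.card_out_congr e] at h3

end congr

section simple

variable {S : Type u} [Group S] [Finite S] [IsSimpleGroup S]

theorem good_of (hna : ¬ IsMulCommutative S) {p : ℕ} (α : IrrCharacter S)
    (hp : p ∣ charDegree (α : S → ℂ)) {c : ℕ} (hc : Nat.card (Cfsg.Out S) < (c + 1) ^ 2)
    (h : (c + 1) * p ≤ 2 * charDegree (α : S → ℂ)) : Good p S :=
  ⟨α, c, hp, ebd_of_sq hna α.2 hc, h⟩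

theorem good_of_idx (hna : ¬ IsMulCommutative S) {p : ℕ} (α : IrrCharacter S)
    (hp : p ∣ charDegree (α : S → ℂ)) {c : ℕ} (hc : OutIdx S c)
    (h : (c + 1) * p ≤ 2 * charDegree (α : S → ℂ)) : Good p S :=
  ⟨α, c, hp, ebd_of_outIdx hna α.2 hc, h⟩

theorem good_of_im (hna : ¬ IsMulCommutative S) {p : ℕ} (hp : p.Prime)
    (hIM : ∃ χ : IrrCharacter S, p ∣ charDegree (χ : S → ℂ)) (hOL : OutLin S)
    (h : OutIdx S 3 ∨ Nat.card (Cfsg.Out S) ≤ 15) : Good p S := by
  obtain ⟨α, hα⟩ := hIM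
  have hα1 : charDegree (α : S → ℂ) ≠ 1 := by
    intro h1
    rw [h1] at hα
    exact hp.one_lt.not_ge (Nat.le_of_dvd one_pos hα)
  have hlt := hOL α hα1
  have hone : (α : S → ℂ) 1 = (charDegree (α : S → ℂ) : ℂ) :=
    Cfsg.Agent.Blocks.Basic.irr_one_eq_charDegree α.2
  by_cases h1 : charDegree (α : S → ℂ) = p
  · refine ⟨α, 1, hα, ebd_of_coprime hna α.2 hone ?_, by rw [h1]⟩
    rw [h1]
    rw [h1] at hlt
    have h0 : 0 < Nat.card (Cfsg.Out S) := Nat.card_pos
    refine Nat.Coprime.symm ((Nat.Prime.coprime_iff_not_dvd hp).2 fun h2 => ?_)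
    exact absurd (Nat.le_of_dvd h0 h2) (not_le.2 hlt)
  · obtain ⟨m, hm⟩ := hα
    have hm2 : 2 ≤ m := by
      rcases Nat.lt_or_ge m 2 with h2 | h2
      · exfalso
        interval_cases m
        · rw [hm] at hlt
          exact absurd hlt (by simp)
        · exact h1 (by rw [hm, mul_one])
      · exact h2
    refine ⟨α, 3, ⟨m, hm⟩, ?_, ?_⟩
    · rcases h with h | h
      · exact ebd_of_outIdx hna α.2 h
      · exact ebd_of_sq hna α.2 (by omega)
    · rw [hm]
      nlinarith [hp.pos]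

end simple

end Cfsg.Agent.H404.Avg
end
end

-- part: H404/Avg/OddMain
section
prune_inst 0xe00002000c80020000000012000000004000000000000000502004040003106005002800008029001028800000000000020000a0000000000000000000000000880006000140000c040009802002000000000000000000000000000000041000000000000
set_option linter.all false
open scoped Cfsg.Agent.FastGrp

-- part: H404/Avg/Wt
section
/-!
# Weighted sums over the irreducible characters of degree divisible by `p` (helper404, for S4831)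

`Wt w p G` : the sum of `w (χ 1)` over the irreducible characters of degree divisible by `p`.
-/

set_option autoImplicit false
set_option linter.unusedSectionVars false

namespace Cfsg.Agent.H404.Avg

open Cfsg
open scoped ComplexConjugate commutatorElement
open Cfsg.Agent.Characters.Core
open Cfsg.Agent.H685.Acd (charDegree_comp finite_hom card_le_of_fiber)

universe u v

/-- The sum over the irreducible characters of degree `d` divisible by `p` of `w d`. -/
noncomputable def Wt (w : ℕ → ℕ) (p : ℕ) (G : Type u) [Group G] : ℕ :=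
  ∑ᶠ χ : {χ : IrrCharacter G // p ∣ charDegree (χ : G → ℂ)}, w (charDegree (χ.1 : G → ℂ))

theorem Wt_eq (w : ℕ → ℕ) (p : ℕ) (G : Type u) [Group G] [Fintype (IrrCharacter G)]
    [DecidablePred fun χ : IrrCharacter G => p ∣ charDegree (χ : G → ℂ)] :
    Wt w p G = ∑ χ ∈ Finset.univ.filter (fun χ : IrrCharacter G => p ∣ charDegree (χ : G → ℂ)),
      w (charDegree (χ : G → ℂ)) := by
  unfold Wt
  rw [finsum_eq_sum_of_fintype]
  rw [← Finset.sum_subtype_eq_sum_filter, Finset.subtype_univ]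

theorem W_eq_Wt (p L : ℕ) (G : Type u) [Group G] :
    Cfsg.Agent.H685.Acd.W p L G = Wt (fun d => d * (L + 1) - 2 * L) p G := rfl

theorem Wt_mono {w w' : ℕ → ℕ} {p : ℕ} (G : Type u) [Group G] [Finite G]
    (h : ∀ d, 0 < d → p ∣ d → w d ≤ w' d) : Wt w p G ≤ Wt w' p G := by
  classical
  have hfG : Finite (IrrCharacter G) := finite_irr
  have := Fintype.ofFinite (IrrCharacter G)
  rw [Wt_eq, Wt_eq]
  exact Finset.sum_le_sum fun χ hχ => h _ (Cfsg.Agent.Blocks.Basic.charDegree_pos χ.2)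
    (Finset.mem_filter.1 hχ).2

theorem Wt_mul (w : ℕ → ℕ) (c p : ℕ) (G : Type u) [Group G] [Finite G] :
    Wt (fun d => c * w d) p G = c * Wt w p G := by
  classical
  have hfG : Finite (IrrCharacter G) := finite_irr
  have := Fintype.ofFinite (IrrCharacter G)
  rw [Wt_eq, Wt_eq, Finset.mul_sum]

/-- A lower bound from a set of characters of one degree. -/
theorem card_mul_le {w : ℕ → ℕ} {p d : ℕ} {G : Type u} [Group G] [Finite G] (hd : p ∣ d)
    (Q : IrrCharacter G → Prop) :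
    Nat.card {χ : IrrCharacter G // charDegree (χ : G → ℂ) = d ∧ Q χ} * w d ≤ Wt w p G := by
  classical
  have hfG : Finite (IrrCharacter G) := finite_irr
  have := Fintype.ofFinite (IrrCharacter G)
  rw [Wt_eq, Nat.card_eq_fintype_card, Fintype.card_subtype]
  calc (Finset.univ.filter fun χ : IrrCharacter G => charDegree (χ : G → ℂ) = d ∧ Q χ).card * w d
      = ∑ χ ∈ (Finset.univ.filter fun χ : IrrCharacter G => charDegree (χ : G → ℂ) = d ∧ Q χ),
        w (charDegree (χ : G → ℂ)) := by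
        rw [Finset.sum_congr rfl (g := fun _ => w d)]
        · rw [Finset.sum_const, smul_eq_mul]
        · intro χ hχ
          rw [(Finset.mem_filter.1 hχ).2.1]
    _ ≤ _ := by
        refine Finset.sum_le_sum_of_subset ?_
        intro χ hχ
        rw [Finset.mem_filter] at hχ ⊢
        exact ⟨hχ.1, hχ.2.1.symm ▸ hd⟩

/-- Injective maps between the irreducible characters. -/
theorem Wt_le_of_injective {w w' : ℕ → ℕ} {p : ℕ} {G : Type u} {H : Type v} [Group G] [Group H]
    [Finite G] [Finite H] (i : IrrCharacter H → IrrCharacter G) (hi : Function.Injective i)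
    (hw : ∀ χ : IrrCharacter H, p ∣ charDegree (χ : H → ℂ) → p ∣ charDegree (i χ : G → ℂ) ∧
      w' (charDegree (χ : H → ℂ)) ≤ w (charDegree (i χ : G → ℂ))) : Wt w' p H ≤ Wt w p G := by
  classical
  have hfG : Finite (IrrCharacter G) := finite_irr
  have := Fintype.ofFinite (IrrCharacter G)
  have hfH : Finite (IrrCharacter H) := finite_irr
  have := Fintype.ofFinite (IrrCharacter H)
  rw [Wt_eq, Wt_eq]
  calc ∑ χ ∈ Finset.univ.filter (fun χ : IrrCharacter H => p ∣ charDegree (χ : H → ℂ)),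
      w' (charDegree (χ : H → ℂ))
      ≤ ∑ χ ∈ Finset.univ.filter (fun χ : IrrCharacter H => p ∣ charDegree (χ : H → ℂ)),
        w (charDegree (i χ : G → ℂ)) :=
        Finset.sum_le_sum fun χ hχ => (hw χ (Finset.mem_filter.1 hχ).2).2
    _ = ∑ χ ∈ (Finset.univ.filter (fun χ : IrrCharacter H => p ∣ charDegree (χ : H → ℂ))).map
        ⟨i, hi⟩, w (charDegree (χ : G → ℂ)) := by
        rw [Finset.sum_map]
        rfl
    _ ≤ _ := by
        refine Finset.sum_le_sum_of_subset ?_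
        intro χ hχ
        rw [Finset.mem_map] at hχ
        obtain ⟨ξ, hξ, rfl⟩ := hχ
        rw [Finset.mem_filter]
        exact ⟨Finset.mem_univ _, (hw ξ (Finset.mem_filter.1 hξ).2).1⟩

theorem charDegree_hom_mul {G : Type u} [Group G] (f : G →* ℂˣ) (χ : G → ℂ) :
    charDegree (fun g => (f g : ℂ) * χ g) = charDegree χ := by
  show ⌊((f 1 : ℂˣ) * χ 1 : ℂ).re⌋₊ = ⌊(χ 1).re⌋₊
  rw [map_one, Units.val_one, one_mul]

/-- **Scaling**: the weights of `G` and of a homomorphic image `H`, per linear character. -/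
theorem Wt_scale {w : ℕ → ℕ} {p : ℕ} {G : Type u} {H : Type v} [Group G] [Group H] [Finite G]
    (f : G →* H) (hf : Function.Surjective f) :
    Nat.card (G →* ℂˣ) * Wt w p H ≤ Nat.card (H →* ℂˣ) * Wt w p G := by
  classical
  have : Finite H := Finite.of_surjective f hf
  have hfG : Finite (IrrCharacter G) := finite_irr
  have := Fintype.ofFinite (IrrCharacter G)
  have hfH : Finite (IrrCharacter H) := finite_irr
  have := Fintype.ofFinite (IrrCharacter H)
  have hlG := finite_hom G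
  have := Fintype.ofFinite (G →* ℂˣ)
  have hlH := finite_hom H
  rw [Wt_eq, Wt_eq]
  let F : (G →* ℂˣ) × IrrCharacter H → IrrCharacter G := fun x =>
    ⟨fun g => (x.1 g : ℂ) * (x.2 : H → ℂ) (f g),
      Cfsg.Agent.OddOrderCharacters.InertiaAbelian.isIrr_mul_hom _ (isIrr_comp f hf x.2.2)⟩
  have hdeg : ∀ x, charDegree (F x : G → ℂ) = charDegree (x.2 : H → ℂ) := fun x =>
    (charDegree_hom_mul x.1 ((x.2 : H → ℂ) ∘ f)).trans (charDegree_comp f _)
  -- the fibres
  have hfib : ∀ χ : IrrCharacter G, (Finset.univ.filter fun x => F x = χ).card ≤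
      Nat.card (H →* ℂˣ) := by
    intro χ
    rcases (Finset.univ.filter fun x => F x = χ).eq_empty_or_nonempty with h | ⟨x₀, hx₀⟩
    · rw [h, Finset.card_empty]
      exact Nat.zero_le _
    · rw [← Fintype.card_subtype, ← Nat.card_eq_fintype_card]
      -- the first components agree on the kernel of `f`
      have hker : ∀ (x y : (G →* ℂˣ) × IrrCharacter H), F x = χ → F y = χ → ∀ g, f g = 1 →
          x.1 g = y.1 g := by
        intro x y hx hy g hg
        have h1 : ∀ z : (G →* ℂˣ) × IrrCharacter H, F z = χ →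
            (χ : G → ℂ) g = (z.1 g : ℂ) * (χ : G → ℂ) 1 := by
          rintro z rfl
          show (z.1 g : ℂ) * (z.2 : H → ℂ) (f g) = (z.1 g : ℂ) * ((z.1 1 : ℂ) *
            (z.2 : H → ℂ) (f 1))
          rw [hg, map_one, map_one, Units.val_one, one_mul]
        have h2 := (h1 x hx).symm.trans (h1 y hy)
        exact Units.ext (mul_right_cancel₀ (isIrr_apply_one_ne_zero χ.2) h2)
      have hF₀ : F x₀ = χ := (Finset.mem_filter.1 hx₀).2
      -- `x ↦ x.1 * x₀.1⁻¹` factors through `H`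
      refine Nat.card_le_card_of_injective (fun x : {x // F x = χ} =>
        (f.liftOfSurjective hf ⟨x.1.1 * x₀.1⁻¹, fun g hg => ?_⟩ : H →* ℂˣ)) ?_
      · rw [MonoidHom.mem_ker] at hg ⊢
        rw [MonoidHom.mul_apply, MonoidHom.inv_apply, hker x.1 x₀ x.2 hF₀ g hg, mul_inv_cancel]
      · intro x y hxy
        have h1 : x.1.1 = y.1.1 := by
          ext g
          have h2 := DFunLike.congr_fun hxy (f g)
          simp only [MonoidHom.liftOfSurjective] at h2
          rw [MonoidHom.liftOfRightInverse_comp_apply, MonoidHom.liftOfRightInverse_comp_apply]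
            at h2
          have h3 : x.1.1 g = y.1.1 g := by
            have h4 : (x.1.1 * x₀.1⁻¹) g = (y.1.1 * x₀.1⁻¹) g := h2
            rw [MonoidHom.mul_apply, MonoidHom.mul_apply] at h4
            exact mul_right_cancel h4
          rw [h3]
        apply Subtype.ext
        refine Prod.ext h1 (Subtype.ext ?_)
        funext z
        obtain ⟨g, rfl⟩ := hf z
        have h2 : F x.1 = F y.1 := x.2.trans y.2.symm
        have h3 : (x.1.1 g : ℂ) * (x.1.2 : H → ℂ) (f g) = (y.1.1 g : ℂ) * (y.1.2 : H → ℂ) (f g) :=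
          congrFun (congrArg Subtype.val h2) g
        rw [h1] at h3
        exact mul_left_cancel₀ (Units.ne_zero _) h3
  have hsum : Nat.card (G →* ℂˣ) * ∑ χ ∈ Finset.univ.filter
      (fun χ : IrrCharacter H => p ∣ charDegree (χ : H → ℂ)), w (charDegree (χ : H → ℂ)) =
      ∑ χ ∈ Finset.univ.filter (fun χ : IrrCharacter G => p ∣ charDegree (χ : G → ℂ)),
        (Finset.univ.filter fun x => F x = χ).card * w (charDegree (χ : G → ℂ)) := by
    have h1 : ∀ χ : IrrCharacter G, (Finset.univ.filter fun x => F x = χ).card *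
        w (charDegree (χ : G → ℂ)) = ∑ x ∈ Finset.univ.filter (fun x => F x = χ),
          w (charDegree (x.2 : H → ℂ)) := by
      intro χ
      rw [Finset.sum_congr rfl (g := fun _ => w (charDegree (χ : G → ℂ)))]
      · rw [Finset.sum_const, smul_eq_mul]
      · intro x hx
        rw [← hdeg, (Finset.mem_filter.1 hx).2]
    rw [Finset.sum_congr rfl fun χ _ => h1 χ]
    rw [Nat.card_eq_fintype_card, ← Finset.card_univ, ← smul_eq_mul, ← Finset.sum_const]
    rw [← Finset.sum_product (s := Finset.univ) (f := fun x : (G →* ℂˣ) × IrrCharacter H =>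
      w (charDegree (x.2 : H → ℂ)))]
    rw [← Finset.sum_fiberwise_of_maps_to (g := F) (t := Finset.univ.filter
      (fun χ : IrrCharacter G => p ∣ charDegree (χ : G → ℂ)))]
    · refine Finset.sum_congr rfl fun χ hχ => Finset.sum_congr ?_ fun _ _ => rfl
      ext x
      rw [Finset.mem_filter, Finset.mem_filter, Finset.mem_product, Finset.mem_filter]
      constructor
      · rintro ⟨-, h⟩
        exact ⟨Finset.mem_univ _, h⟩
      · rintro ⟨-, h⟩
        refine ⟨⟨Finset.mem_univ _, Finset.mem_univ _, ?_⟩, h⟩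
        rw [← hdeg, h]
        exact (Finset.mem_filter.1 hχ).2
    · intro x hx
      rw [Finset.mem_filter, hdeg]
      exact ⟨Finset.mem_univ _, (Finset.mem_filter.1 (Finset.mem_product.1 hx).2).2⟩
  rw [hsum, Finset.mul_sum]
  exact Finset.sum_le_sum fun χ _ => Nat.mul_le_mul_right _ (hfib χ)

/-- **Gallagher**: `χ` irreducible on the normal subgroup `K`, in the kernel of `π : G → Q`. -/
theorem Wt_gallagher {w : ℕ → ℕ} {p : ℕ} {G : Type u} {Q : Type v} [Group G] [Group Q] [Finite G]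
    (π : G →* Q) (hπ : Function.Surjective π) (K : Subgroup G) [hK : K.Normal]
    (hKπ : ∀ k ∈ K, π k = 1) (χ : IrrCharacter G)
    (hχK : IsIrrCharacter K (fun k : K => (χ : G → ℂ) k)) :
    Wt (fun b => w (charDegree (χ : G → ℂ) * b)) p Q ≤ Wt w p G := by
  classical
  have := Fintype.ofFinite G
  have := Fintype.ofFinite K
  have : Finite Q := Finite.of_surjective π hπ
  have hχc : IsClassFunction G (χ : G → ℂ) := isIrr_isClassFunction χ.2
  have hone : ((fun _ => 1) * (fun k : K => (χ : G → ℂ) k) : K → ℂ) =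
      fun k : K => (χ : G → ℂ) k := by
    funext k; simp
  have key := S0856.result K (fun _ => 1) (fun k : K => (χ : G → ℂ) k) isIrr_one hχK
    (fun g n => rfl) (fun g n => hχc n g) (by rw [hone]; exact hχK) χ χ.2 (fun n => rfl)
  have hmem : ∀ β : IrrCharacter Q, ((β : Q → ℂ) ∘ π) ∈ {β : G → ℂ | IsIrrCharacter G β ∧
      classInner (indFun K (fun _ => 1)) β ≠ 0} := by
    intro β
    have hb := Cfsg.Agent.Blocks.Basic.irr_one_eq_charDegree β.2
    refine ⟨isIrr_comp π hπ β.2, ?_⟩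
    rw [Cfsg.Agent.CharactersDeep.NormalInd.classInner_indFun K (fun _ => 1) _
      (isIrr_isClassFunction (isIrr_comp π hπ β.2))]
    have h1 : (fun k : K => ((β : Q → ℂ) ∘ π) (k : G)) =
        (charDegree (β : Q → ℂ) : ℂ) • (fun _ => 1 : K → ℂ) := by
      funext k
      simp [hKπ k k.2, hb]
    rw [h1, classInner_smul_right]
    have h2 : classInner (fun _ => 1 : K → ℂ) (fun _ => 1 : K → ℂ) = 1 :=
      classInner_irr_self isIrr_one
    rw [h2, mul_one]
    simp only [Complex.conj_natCast, ne_eq, Nat.cast_eq_zero]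
    exact (Cfsg.Agent.Blocks.Basic.charDegree_pos β.2).ne'
  let i : IrrCharacter Q → IrrCharacter G := fun β => ⟨((β : Q → ℂ) ∘ π) * (χ : G → ℂ),
    (key.mapsTo (hmem β)).1⟩
  have hdeg : ∀ β, charDegree (i β : G → ℂ) = charDegree (χ : G → ℂ) * charDegree (β : Q → ℂ) := by
    intro β
    apply Cfsg.Agent.Blocks.Basic.charDegree_of_eq
    show (β : Q → ℂ) (π 1) * (χ : G → ℂ) 1 = _
    rw [map_one, Cfsg.Agent.Blocks.Basic.irr_one_eq_charDegree β.2,
      Cfsg.Agent.Blocks.Basic.irr_one_eq_charDegree χ.2, mul_comm]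
    push_cast
    rfl
  refine Wt_le_of_injective i ?_ fun β hβ => ?_
  · intro β β' h
    have h1 := key.injOn (hmem β) (hmem β') (congrArg Subtype.val h)
    apply Subtype.ext
    funext x
    obtain ⟨g, rfl⟩ := hπ x
    exact congrFun h1 g
  · rw [hdeg]
    exact ⟨Dvd.dvd.mul_left hβ _, le_rfl⟩

/-- The hypothesis on the average degree in terms of `Wt`. -/
theorem lt_of_avg {G : Type u} [Group G] [Finite G] {p A B : ℕ} (hp : 2 ≤ p) (hAB : B ≤ A * p)
    (h : A * (∑ᶠ χ : {χ : IrrCharacter G // charDegree (χ : G → ℂ) = 1 ∨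
      p ∣ charDegree (χ : G → ℂ)}, charDegree (χ.1 : G → ℂ)) < B *
        Nat.card {χ : IrrCharacter G // charDegree (χ : G → ℂ) = 1 ∨ p ∣ charDegree (χ : G → ℂ)}) :
    Wt (fun d => A * d - B) p G < (B - A) * Nat.card (G →* ℂˣ) := by
  classical
  have hfG : Finite (IrrCharacter G) := finite_irr
  have := Fintype.ofFinite (IrrCharacter G)
  rw [finsum_eq_sum_of_fintype,
    show (∑ χ : {χ : IrrCharacter G // charDegree (χ : G → ℂ) = 1 ∨ p ∣ charDegree (χ : G → ℂ)},
      charDegree (χ.1 : G → ℂ)) = ∑ χ ∈ Finset.univ.filter (fun χ : IrrCharacter G =>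
      charDegree (χ : G → ℂ) = 1 ∨ p ∣ charDegree (χ : G → ℂ)), charDegree (χ : G → ℂ) by
      rw [← Finset.sum_subtype_eq_sum_filter, Finset.subtype_univ],
    Nat.card_eq_fintype_card, Fintype.card_subtype, Finset.filter_or] at h
  have hdisj : Disjoint (Finset.univ.filter (fun χ : IrrCharacter G => charDegree (χ : G → ℂ) = 1))
      (Finset.univ.filter (fun χ : IrrCharacter G => p ∣ charDegree (χ : G → ℂ))) := by
    rw [Finset.disjoint_left]
    intro χ h1 h2
    rw [Finset.mem_filter] at h1 h2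
    rw [h1.2] at h2
    have := Nat.le_of_dvd one_pos h2.2
    omega
  rw [Finset.sum_union hdisj, Finset.card_union_of_disjoint hdisj] at h
  have h1 : ∑ χ ∈ Finset.univ.filter (fun χ : IrrCharacter G => charDegree (χ : G → ℂ) = 1),
      charDegree (χ : G → ℂ) = Nat.card (G →* ℂˣ) := by
    rw [Finset.sum_congr rfl (g := fun _ => 1) (fun χ hχ => (Finset.mem_filter.1 hχ).2),
      Finset.sum_const, smul_eq_mul, mul_one, ← Cfsg.Agent.H685.Acd.card_linear,
      Nat.card_eq_fintype_card, Fintype.card_subtype]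
  have h1' : (Finset.univ.filter (fun χ : IrrCharacter G => charDegree (χ : G → ℂ) = 1)).card =
      Nat.card (G →* ℂˣ) := by
    rw [← Cfsg.Agent.H685.Acd.card_linear, Nat.card_eq_fintype_card, Fintype.card_subtype]
  have h2 : Wt (fun d => A * d - B) p G + B *
      (Finset.univ.filter (fun χ : IrrCharacter G => p ∣ charDegree (χ : G → ℂ))).card =
      A * ∑ χ ∈ Finset.univ.filter (fun χ : IrrCharacter G => p ∣ charDegree (χ : G → ℂ)),
        charDegree (χ : G → ℂ) := by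
    rw [Wt_eq, Finset.mul_sum]
    have h3 : B * (Finset.univ.filter
        (fun χ : IrrCharacter G => p ∣ charDegree (χ : G → ℂ))).card =
        ∑ χ ∈ Finset.univ.filter (fun χ : IrrCharacter G => p ∣ charDegree (χ : G → ℂ)), B := by
      rw [Finset.sum_const, smul_eq_mul, mul_comm]
    rw [h3, ← Finset.sum_add_distrib]
    refine Finset.sum_congr rfl fun χ hχ => ?_
    have h4 := (Finset.mem_filter.1 hχ).2
    have h5 : 0 < charDegree (χ : G → ℂ) := Cfsg.Agent.Blocks.Basic.charDegree_pos χ.2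
    have h7 : B ≤ A * charDegree (χ : G → ℂ) :=
      hAB.trans (Nat.mul_le_mul_left _ (Nat.le_of_dvd h5 h4))
    exact Nat.sub_add_cancel h7
  rw [h1, h1', mul_add, mul_add, ← h2] at h
  have h8 : A * Nat.card (G →* ℂˣ) + Wt (fun d => A * d - B) p G < B * Nat.card (G →* ℂˣ) := by
    omega
  rw [Nat.sub_mul]
  omega

end Cfsg.Agent.H404.Avg
end

-- part: H404/Avg/NabB
section
/-!
# Characters of `G` from a character of a simple factor of `M`: refined counting (helper404, for S4831)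
-/

set_option autoImplicit false
set_option linter.unusedSectionVars false

namespace Cfsg.Agent.H404.Avg

open Cfsg
open scoped ComplexConjugate commutatorElement
open Cfsg.Agent.Characters.Core
open Cfsg.Agent.OddOrderCharacters.NormalInduced (conjFn)
open Cfsg.Agent.OddOrderCharacters.IndRes (res)
open Cfsg.Agent.OddOrderCharacters.PF9.CliffGen (resTo inertia le_inertia)
open Cfsg.Agent.H612.MinNormal (cj mem_cj mem_normalizer_iff_cj)
open Cfsg.Agent.H685.Acd (count eq_one_of_central charDegree_eq_one_of_ker exists_over_normal)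

universe u v

section proj

variable {G : Type u} [Group G] {M S : Subgroup G}

/-- The projection commutes with conjugation. -/
theorem pi_conj [hM : M.Normal] [IsSimpleGroup S] (hSna : ¬ IsMulCommutative S) (π : M →* S)
    (hπ1 : ∀ (m : M) (x : S), (m : G) * x * (m : G)⁻¹ = (π m : G) * x * (π m : G)⁻¹)
    {g : G} (hg : g ∈ Subgroup.normalizer (S : Set G)) (m : M) :
    π ⟨g * m * g⁻¹, hM.conj_mem m m.2 g⟩ =
      ⟨g * π m * g⁻¹, (Subgroup.mem_normalizer_iff.1 hg (π m)).1 (π m).2⟩ := by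
  rw [← inv_mul_eq_one]
  apply eq_one_of_central hSna
  intro x
  apply Subtype.ext
  -- conjugation by both elements is the same
  have h1 := hπ1 ⟨g * m * g⁻¹, hM.conj_mem m m.2 g⟩ x
  have hx : g⁻¹ * x * g ∈ S := by
    have h2 := (Subgroup.mem_normalizer_iff.1 ((Subgroup.normalizer (S : Set G)).inv_mem hg) x).1
      x.2
    rwa [inv_inv] at h2
  have h3 := hπ1 m ⟨g⁻¹ * x * g, hx⟩
  have h4 : (g * m * g⁻¹) * x * (g * m * g⁻¹)⁻¹ =
      (g * π m * g⁻¹) * x * (g * π m * g⁻¹)⁻¹ := by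
    have h5 : (m : G) * (g⁻¹ * x * g) * (m : G)⁻¹ = (π m : G) * (g⁻¹ * x * g) * (π m : G)⁻¹ := h3
    calc (g * m * g⁻¹) * x * (g * m * g⁻¹)⁻¹ = g * ((m : G) * (g⁻¹ * x * g) * (m : G)⁻¹) * g⁻¹ := by
          group
      _ = g * ((π m : G) * (g⁻¹ * x * g) * (π m : G)⁻¹) * g⁻¹ := by rw [h5]
      _ = _ := by group
  set a : S := π ⟨g * m * g⁻¹, hM.conj_mem m m.2 g⟩ with ha
  have h6 : (a : G) * x * (a : G)⁻¹ = (g * π m * g⁻¹) * x * (g * π m * g⁻¹)⁻¹ := by
    rw [← h1]
    exact h4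
  show ((a : G)⁻¹ * (g * π m * g⁻¹)) * x = x * ((a : G)⁻¹ * (g * π m * g⁻¹))
  calc ((a : G)⁻¹ * (g * π m * g⁻¹)) * x
      = (a : G)⁻¹ * ((g * π m * g⁻¹) * x * (g * π m * g⁻¹)⁻¹) * (g * π m * g⁻¹) := by group
    _ = (a : G)⁻¹ * ((a : G) * x * (a : G)⁻¹) * (g * π m * g⁻¹) := by rw [h6]
    _ = x * ((a : G)⁻¹ * (g * π m * g⁻¹)) := by group

end proj

/-- The group of automorphisms of `S` induced by the subgroup `T` of the normalizer. -/
def img {G : Type u} [Group G] {S T : Subgroup G} (hTN : T ≤ Subgroup.normalizer (S : Set G)) :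
    Subgroup (MulAut S) :=
  ((Subgroup.normalizerMonoidHom S).comp (Subgroup.inclusion hTN)).range

/-- Characters of `G` from a character `α` of a simple factor of `M`, for a given source `hR` of
characters over `α` of the groups between `Inn S` and `Aut S`. -/
theorem nab_gen {G : Type u} [Group G] [Fintype G] (M : Subgroup G) [hM : M.Normal] [Fintype M]
    (hMG : M ≤ commutator G) {S : Subgroup G} [hsimple : IsSimpleGroup S]
    (hSna : ¬ IsMulCommutative S) (hSM : S ≤ M)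
    (hcj : ∀ g : G, cj g S = S ∨ cj g S ≤ Subgroup.centralizer (S : Set G))
    (π : M →* S) (hπ1 : ∀ (m : M) (x : S), (m : G) * x * (m : G)⁻¹ = (π m : G) * x * (π m : G)⁻¹)
    (hπ2 : ∀ (m : M) (s : S), (m : G) = s → π m = s) (α : IrrCharacter S)
    (hα : charDegree (α : S → ℂ) ≠ 1) (R : Subgroup (MulAut S) → ℕ → Prop)
    (hR : ∀ B : Subgroup (MulAut S), ∀ hB : (MulAut.conj : S →* MulAut S).range ≤ B,
      (∀ b ∈ B, ∀ s, (α : S → ℂ) (b s) = (α : S → ℂ) s) →
      ∃ (β : B → ℂ) (e : ℕ), IsIrrCharacter B β ∧ e ≠ 0 ∧ R B e ∧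
        ∀ s, β ⟨MulAut.conj s, hB ⟨s, rfl⟩⟩ = e * (α : S → ℂ) s) :
    ∃ (T : Subgroup G) (hTN : T ≤ Subgroup.normalizer (S : Set G)) (e : ℕ), M ≤ T ∧
      (∀ t, t ∈ T ↔ ∃ h : t ∈ Subgroup.normalizer (S : Set G), ∀ s : S,
        (α : S → ℂ) ⟨t * s * t⁻¹, (Subgroup.mem_normalizer_iff.1 h s).1 s.2⟩ = (α : S → ℂ) s) ∧
      (MulAut.conj : S →* MulAut S).range ≤ img hTN ∧ e ≠ 0 ∧ R (img hTN) e ∧
      Nat.card (G →* ℂˣ) ≤ T.index * e ^ 2 * Nat.card {χ : IrrCharacter G //
        charDegree (χ : G → ℂ) = T.index * (e * charDegree (α : S → ℂ)) ∧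
        classInner (res M χ) ((α : S → ℂ) ∘ π) ≠ 0} := by
  classical
  have hirrθ : IsIrrCharacter M ((α : S → ℂ) ∘ π) := isIrr_comp π (fun s =>
    ⟨⟨s, hSM s.2⟩, hπ2 _ _ rfl⟩) α.2
  set θ : M → ℂ := (α : S → ℂ) ∘ π with hθ
  set T : Subgroup G := inertia M θ with hT
  have hmem : ∀ t, t ∈ T ↔ conjFn M θ t = θ := fun t => Iff.rfl
  have hMT : M ≤ T := le_inertia (isIrr_isClassFunction hirrθ)
  have hST : S ≤ T := hSM.trans hMT
  have hθs : ∀ (s : S) (h : (s : G) ∈ M), θ ⟨s, h⟩ = (α : S → ℂ) s := by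
    intro s h
    rw [hθ, Function.comp_apply, hπ2 ⟨s, h⟩ s rfl]
  have hTel : ∀ t ∈ T, ∀ m : M, θ ⟨t * m * t⁻¹, hM.conj_mem m m.2 t⟩ = θ m := fun t ht m =>
    congrFun ((hmem t).1 ht) m
  -- `T` normalizes `S`
  have hTN : ∀ t ∈ T, t ∈ Subgroup.normalizer (S : Set G) := by
    intro t ht
    rw [mem_normalizer_iff_cj]
    rcases hcj t with h | h
    · exact h
    · exfalso
      apply hα
      apply charDegree_eq_one_of_ker α.2
      intro s
      have h1 := hTel t ht ⟨s, hSM s.2⟩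
      rw [hθs] at h1
      rw [← h1, hθ, Function.comp_apply]
      refine congrArg (α : S → ℂ) ?_
      apply eq_one_of_central hSna
      intro x
      apply Subtype.ext
      have h2 : t * s * t⁻¹ ∈ Subgroup.centralizer (S : Set G) := h ⟨s, s.2, rfl⟩
      have h3 := Subgroup.mem_centralizer_iff.1 h2 x x.2
      have h4 := hπ1 ⟨t * s * t⁻¹, hM.conj_mem _ (hSM s.2) t⟩ x
      have h5 : (t * s * t⁻¹) * x * (t * s * t⁻¹)⁻¹ = (x : G) := by
        rw [← h3, mul_inv_cancel_right]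
      have h6 : (π ⟨t * s * t⁻¹, hM.conj_mem _ (hSM s.2) t⟩ : G) * x *
          (π ⟨t * s * t⁻¹, hM.conj_mem _ (hSM s.2) t⟩ : G)⁻¹ = x := by
        rw [← h4]
        exact h5
      exact mul_inv_eq_iff_eq_mul.1 h6
  have hTα : ∀ t (h : t ∈ T) (s : S), (α : S → ℂ) ⟨t * s * t⁻¹,
      (Subgroup.mem_normalizer_iff.1 (hTN t h) s).1 s.2⟩ = (α : S → ℂ) s := by
    intro t h s
    have h1 := hTel t h ⟨s, hSM s.2⟩
    rw [hθs] at h1
    rw [← h1, ← hθs ⟨t * s * t⁻¹, (Subgroup.mem_normalizer_iff.1 (hTN t h) s).1 s.2⟩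
      (hM.conj_mem _ (hSM s.2) t)]
  have hiff : ∀ t, t ∈ T ↔ ∃ h : t ∈ Subgroup.normalizer (S : Set G), ∀ s : S,
      (α : S → ℂ) ⟨t * s * t⁻¹, (Subgroup.mem_normalizer_iff.1 h s).1 s.2⟩ = (α : S → ℂ) s := by
    intro t
    refine ⟨fun ht => ⟨hTN t ht, hTα t ht⟩, ?_⟩
    rintro ⟨h, h'⟩
    rw [hmem]
    funext m
    show (α : S → ℂ) (π ⟨t * m * t⁻¹, _⟩) = (α : S → ℂ) (π m)
    rw [pi_conj hSna π hπ1 h m]
    exact h' (π m)
  -- the action on `S`
  let c : T →* MulAut S := (Subgroup.normalizerMonoidHom S).comp (Subgroup.inclusion hTN)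
  have hc : ∀ (t : T) (s : S), ((c t s : S) : G) = t * s * (t : G)⁻¹ := fun t s => rfl
  let B : Subgroup (MulAut S) := img (S := S) hTN
  let q : T →* B := c.rangeRestrict
  have hqs : Function.Surjective q := c.rangeRestrict_surjective
  have hcs : ∀ s : S, c ⟨s, hST s.2⟩ = MulAut.conj s := by
    intro s
    ext x
    rfl
  have hB : (MulAut.conj : S →* MulAut S).range ≤ B := by
    rintro _ ⟨s, rfl⟩
    exact ⟨⟨s, hST s.2⟩, hcs s⟩
  obtain ⟨β, e, hβ, he0, he, hβe⟩ := hR B hB (by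
    rintro _ ⟨t, rfl⟩ s
    exact hTα t t.2 s)
  -- the character of `T`
  have hψ : IsIrrCharacter T (β ∘ q) := isIrr_comp q hqs hβ
  have hres : resTo hMT (β ∘ q) = (e : ℂ) • θ := by
    funext m
    show β (q ⟨m, hMT m.2⟩) = e * (α : S → ℂ) (π m)
    rw [← hβe]
    congr 1
    apply Subtype.ext
    show c ⟨m, hMT m.2⟩ = MulAut.conj (π m)
    ext x
    exact hπ1 m x
  have hTf : Fintype T := Fintype.ofFinite _
  have hee : (e : ℂ) ≠ 0 := by exact_mod_cast he0
  have h1 := count M hMG hirrθ T hmem hMT hψ (m := e ^ 2) (d := e * charDegree (α : S → ℂ))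
    (by rw [hres, classInner_smul_left, classInner_irr_self hirrθ, mul_one]; exact hee)
    (by
      rw [hres, classInner_smul_left, classInner_smul_right, classInner_irr_self hirrθ,
        Complex.conj_natCast]
      push_cast
      ring)
    (by
      apply Cfsg.Agent.Blocks.Basic.charDegree_of_eq
      have h2 := hβe 1
      rw [Cfsg.Agent.Blocks.Basic.irr_one_eq_charDegree α.2] at h2
      show β (q 1) = _
      have h3 : q 1 = ⟨MulAut.conj 1, hB ⟨1, rfl⟩⟩ := by
        rw [map_one]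
        exact Subtype.ext (map_one _).symm
      rw [h3, h2]
      push_cast
      rfl)
  refine ⟨T, hTN, e, hMT, hiff, hB, he0, he, h1.trans ?_⟩
  exact Nat.mul_le_mul_right _ (Nat.mul_le_mul_right _
    (Cfsg.Agent.H705.StrongLin.card_hom_le T))

/-- `e ^ 2 * |N_G(S) : T| ≤ |Out S|`. -/
theorem sq_mul_relIndex_le {G : Type u} [Group G] [Finite G] {S T : Subgroup G}
    (hTN : T ≤ Subgroup.normalizer (S : Set G)) (hCT : Subgroup.centralizer (S : Set G) ≤ T) {e : ℕ}
    (hB : (MulAut.conj : S →* MulAut S).range ≤ img hTN)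
    (he : e ^ 2 ≤ (MulAut.conj : S →* MulAut S).range.relIndex (img hTN)) :
    e ^ 2 * T.relIndex (Subgroup.normalizer (S : Set G)) ≤
      (MulAut.conj : S →* MulAut S).range.index := by
  classical
  set N := Subgroup.normalizer (S : Set G) with hN
  set φ : N →* MulAut S := Subgroup.normalizerMonoidHom S with hφ
  have h1 : img hTN = (T.subgroupOf N).map φ := by
    ext b
    constructor
    · rintro ⟨t, rfl⟩
      exact ⟨⟨t, hTN t.2⟩, t.2, rfl⟩
    · rintro ⟨n, hn, rfl⟩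
      exact ⟨⟨n, hn⟩, rfl⟩
  have h2 : φ.ker ≤ T.subgroupOf N := by
    intro n hn
    apply hCT
    rw [Subgroup.mem_centralizer_iff]
    intro s hs
    have h3 : φ n ⟨s, hs⟩ = ⟨s, hs⟩ := by
      rw [MonoidHom.mem_ker.1 hn]
      rfl
    have h4 : (n : G) * s * (n : G)⁻¹ = s := congrArg Subtype.val h3
    exact (mul_inv_eq_iff_eq_mul.1 h4).symm
  have h3 : (img hTN).index = T.relIndex N * φ.range.index := by
    rw [h1, Subgroup.index_map, sup_eq_left.2 h2]
    rfl
  have h4 := Subgroup.relIndex_mul_index hB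
  have h5 : 1 ≤ φ.range.index := Nat.one_le_iff_ne_zero.2 Subgroup.index_ne_zero_of_finite
  rw [← h4, h3]
  calc e ^ 2 * T.relIndex N = e ^ 2 * (T.relIndex N * 1) := by rw [mul_one]
    _ ≤ _ := Nat.mul_le_mul he (Nat.mul_le_mul_left _ h5)

/-- The source of characters with `e ^ 2` at most the index of `Inn S`. -/
theorem exists_over_sq {S : Type u} [Group S] [Finite S] (hSna : ¬ IsMulCommutative S)
    [IsSimpleGroup S] (α : IrrCharacter S) (B : Subgroup (MulAut S))
    (hB : (MulAut.conj : S →* MulAut S).range ≤ B)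
    (hinv : ∀ b ∈ B, ∀ s, (α : S → ℂ) (b s) = (α : S → ℂ) s) :
    ∃ (β : B → ℂ) (e : ℕ), IsIrrCharacter B β ∧ e ≠ 0 ∧
      e ^ 2 ≤ (MulAut.conj : S →* MulAut S).range.relIndex B ∧
        ∀ s, β ⟨MulAut.conj s, hB ⟨s, rfl⟩⟩ = e * (α : S → ℂ) s := by
  classical
  let j : S →* B := (MulAut.conj : S →* MulAut S).codRestrict B fun s => hB ⟨s, rfl⟩
  have hjinj : Function.Injective j := by
    intro a b hab
    have h1 : (MulAut.conj a : MulAut S) = MulAut.conj b := congrArg Subtype.val hab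
    have h2 : b⁻¹ * a = 1 := by
      apply eq_one_of_central hSna
      intro x
      have h3 : a * x * a⁻¹ = b * x * b⁻¹ := DFunLike.congr_fun h1 x
      calc b⁻¹ * a * x = b⁻¹ * (a * x * a⁻¹) * a := by group
        _ = b⁻¹ * (b * x * b⁻¹) * a := by rw [h3]
        _ = x * (b⁻¹ * a) := by group
    exact (inv_mul_eq_one.1 h2).symm
  have hbj : ∀ (b : B) (s : S), b * j s * b⁻¹ = j ((b : MulAut S) s) := by
    intro b s
    apply Subtype.ext
    ext x
    show (b : MulAut S) (s * ((b : MulAut S)⁻¹ x) * s⁻¹) = _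
    rw [map_mul, map_mul, MulAut.apply_inv_self, map_inv]
    rfl
  have hjn : j.range.Normal := by
    refine ⟨?_⟩
    rintro _ ⟨s, rfl⟩ b
    exact ⟨(b : MulAut S) s, (hbj b s).symm⟩
  obtain ⟨β, e, hβ, he0, he, hβe⟩ := Cfsg.Agent.H685.Acd.exists_over_hom j hjinj hjn α.2 (by
    intro b s s' h
    rw [hbj] at h
    rw [hjinj h]
    exact hinv b b.2 s)
  refine ⟨β, e, hβ, he0, ?_, hβe⟩
  have h1 : j.range = (MulAut.conj : S →* MulAut S).range.subgroupOf B := by
    ext b
    constructor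
    · rintro ⟨s, rfl⟩
      exact ⟨s, rfl⟩
    · rintro ⟨s, hs⟩
      exact ⟨s, Subtype.ext hs⟩
  rw [h1] at he
  exact he

end Cfsg.Agent.H404.Avg
end

-- part: H404/Avg/Frame
section
/-!
# The simple factors of a minimal normal subgroup (helper404, for S4831)
-/

set_option autoImplicit false
set_option linter.unusedSectionVars false

namespace Cfsg.Agent.H404.Avg

open Cfsg.Agent.H429.Reg
open Cfsg.Agent.H685.Acd (eq_one_of_central dvd_index)

universe u v

variable {G : Type u} [Group G] {M S : Subgroup G} {T : Type v} [Group T] [IsSimpleGroup T]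

theorem factor_coord (hSM : S ≤ M) (hMN : M ≤ Subgroup.normalizer (S : Set G)) [IsSimpleGroup S]
    (hT : ¬ IsMulCommutative T) {k : ℕ} (e : M ≃* (Fin k → T)) :
    ∃ i, ∀ m : M, (m : G) ∈ S ↔ ∀ j, j ≠ i → e m j = 1 := by
  classical
  have hconj : ∀ (m : M) (s : G), s ∈ S → (m : G) * s * (m : G)⁻¹ ∈ S := fun m s hs =>
    (Subgroup.mem_normalizer_iff.1 (hMN m.2) s).1 hs
  obtain ⟨s, hs⟩ := exists_ne (1 : S)
  obtain ⟨i, hi⟩ : ∃ i, e ⟨s, hSM s.2⟩ i ≠ 1 := by
    by_contra hcon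
    push Not at hcon
    apply hs
    have h1 : e ⟨s, hSM s.2⟩ = 1 := funext hcon
    have h2 : (⟨(s : G), hSM s.2⟩ : M) = 1 := e.injective (h1.trans (map_one e).symm)
    exact Subtype.ext (congrArg (fun z : M => (z : G)) h2)
  obtain ⟨t, ht⟩ : ∃ t : T, e ⟨s, hSM s.2⟩ i * t ≠ t * e ⟨s, hSM s.2⟩ i := by
    by_contra hcon
    push Not at hcon
    exact hi (eq_one_of_central hT hcon)
  let d : M := e.symm (Pi.mulSingle i t)
  let c : M := d * ⟨s, hSM s.2⟩ * d⁻¹ * (⟨s, hSM s.2⟩ : M)⁻¹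
  have hed : e d = Pi.mulSingle i t := e.apply_symm_apply _
  have hec : e c = Pi.mulSingle i t * e ⟨s, hSM s.2⟩ * (Pi.mulSingle i t)⁻¹ *
      (e ⟨s, hSM s.2⟩)⁻¹ := by
    show e (d * ⟨s, hSM s.2⟩ * d⁻¹ * (⟨s, hSM s.2⟩ : M)⁻¹) = _
    rw [map_mul, map_mul, map_mul, map_inv, map_inv, hed]
  have hcS : (c : G) ∈ S := S.mul_mem (hconj d s s.2) (S.inv_mem s.2)
  have hcj : ∀ j, j ≠ i → e c j = 1 := by
    intro j hj
    rw [hec]
    simp only [Pi.mul_apply, Pi.inv_apply, Pi.mulSingle_eq_of_ne hj, one_mul, inv_one, mul_one,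
      mul_inv_cancel]
  have hci : e c i ≠ 1 := by
    rw [hec]
    simp only [Pi.mul_apply, Pi.inv_apply, Pi.mulSingle_eq_same]
    intro h
    rw [mul_inv_eq_one, mul_inv_eq_iff_eq_mul] at h
    exact ht h.symm
  -- all elements of `S` live in the coordinate `i`
  let D : Subgroup S :=
    { carrier := {x | ∀ j, j ≠ i → e ⟨x, hSM x.2⟩ j = 1}
      one_mem' := fun j _ => by
        have h1 : (⟨((1 : S) : G), hSM (1 : S).2⟩ : M) = 1 := rfl
        rw [h1, map_one]; rfl
      mul_mem' := fun {x y} hx hy j hj => by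
        have h1 : (⟨((x * y : S) : G), hSM (x * y).2⟩ : M) =
          ⟨x, hSM x.2⟩ * ⟨y, hSM y.2⟩ := rfl
        rw [h1, map_mul, Pi.mul_apply, hx j hj, hy j hj, one_mul]
      inv_mem' := fun {x} hx j hj => by
        have h1 : (⟨((x⁻¹ : S) : G), hSM (x⁻¹).2⟩ : M) = (⟨x, hSM x.2⟩ : M)⁻¹ := rfl
        rw [h1, map_inv, Pi.inv_apply, hx j hj, inv_one] }
  have hDm : ∀ x : S, x ∈ D ↔ ∀ j, j ≠ i → e ⟨x, hSM x.2⟩ j = 1 := fun x => Iff.rfl
  have hDn : D.Normal := by
    refine ⟨fun x hx y => (hDm _).2 fun j hj => ?_⟩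
    have h1 : (⟨((y * x * y⁻¹ : S) : G), hSM (y * x * y⁻¹).2⟩ : M) =
      ⟨y, hSM y.2⟩ * ⟨x, hSM x.2⟩ * (⟨y, hSM y.2⟩ : M)⁻¹ := rfl
    rw [h1, map_mul, map_mul, map_inv, Pi.mul_apply, Pi.mul_apply, Pi.inv_apply,
      (hDm x).1 hx j hj, mul_one, mul_inv_cancel]
  have hc1 : (⟨(c : G), hcS⟩ : S) ∈ D := (hDm _).2 hcj
  have hDtop : D = ⊤ := by
    rcases hDn.eq_bot_or_eq_top with h | h
    · exfalso
      apply hci
      rw [h, Subgroup.mem_bot] at hc1
      have h1 : c = 1 := Subtype.ext (congrArg (fun z : S => (z : G)) hc1)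
      rw [h1, map_one]
      rfl
    · exact h
  have hSi : ∀ (x : M), (x : G) ∈ S → ∀ j, j ≠ i → e x j = 1 := by
    intro x hx
    have h1 : (⟨(x : G), hx⟩ : S) ∈ D := hDtop ▸ Subgroup.mem_top _
    exact (hDm _).1 h1
  -- the coordinates are all of `T`
  let E : Subgroup T :=
    { carrier := {t | ∃ x : M, (x : G) ∈ S ∧ e x i = t}
      one_mem' := ⟨1, S.one_mem, by rw [map_one]; rfl⟩
      mul_mem' := by
        rintro _ _ ⟨x, hx, rfl⟩ ⟨y, hy, rfl⟩
        exact ⟨x * y, S.mul_mem hx hy, by rw [map_mul]; rfl⟩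
      inv_mem' := by
        rintro _ ⟨x, hx, rfl⟩
        exact ⟨x⁻¹, S.inv_mem hx, by rw [map_inv]; rfl⟩ }
  have hEm : ∀ t, t ∈ E ↔ ∃ x : M, (x : G) ∈ S ∧ e x i = t := fun t => Iff.rfl
  have hEn : E.Normal := by
    refine ⟨fun t ht y => ?_⟩
    obtain ⟨x, hx, rfl⟩ := (hEm t).1 ht
    refine (hEm _).2 ⟨e.symm (Pi.mulSingle i y) * x * (e.symm (Pi.mulSingle i y))⁻¹,
      hconj _ x hx, ?_⟩
    rw [map_mul, map_mul, map_inv, e.apply_symm_apply, Pi.mul_apply, Pi.mul_apply, Pi.inv_apply,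
      Pi.mulSingle_eq_same]
  have hEtop : E = ⊤ := by
    rcases hEn.eq_bot_or_eq_top with h | h
    · exfalso
      apply hci
      have h1 : e c i ∈ E := (hEm _).2 ⟨c, hcS, rfl⟩
      rwa [h, Subgroup.mem_bot] at h1
    · exact h
  refine ⟨i, fun m => ⟨hSi m, fun hm => ?_⟩⟩
  obtain ⟨x, hx, hxi⟩ := (hEm (e m i)).1 (hEtop ▸ Subgroup.mem_top _)
  have h1 : x = m := by
    apply e.injective
    funext j
    by_cases hj : j = i
    · rw [hj, hxi]
    · rw [hSi x hx j hj, hm j hj]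
  rw [← h1]
  exact hx

/-- The factor is isomorphic to `T`. -/
theorem factor_equiv {k : ℕ} (e : M ≃* (Fin k → T)) (hSM : S ≤ M) {i : Fin k}
    (hi : ∀ m : M, (m : G) ∈ S ↔ ∀ j, j ≠ i → e m j = 1) : Nonempty (S ≃* T) := by
  classical
  let f : S →* T := ((Pi.evalMonoidHom (fun _ => T) i).comp (e : M →* (Fin k → T))).comp
    (Subgroup.inclusion hSM)
  have hf : ∀ s : S, f s = e ⟨s, hSM s.2⟩ i := fun s => rfl
  refine ⟨MulEquiv.ofBijective f ⟨?_, ?_⟩⟩
  · intro a b h
    rw [hf, hf] at h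
    have h1 : (⟨(a : G), hSM a.2⟩ : M) = ⟨b, hSM b.2⟩ := by
      apply e.injective
      funext j
      by_cases hj : j = i
      · rw [hj]
        exact h
      · rw [(hi _).1 a.2 j hj, (hi _).1 b.2 j hj]
    exact Subtype.ext (congrArg (fun z : M => (z : G)) h1)
  · intro t
    have h1 : ((e.symm (Pi.mulSingle i t) : M) : G) ∈ S := by
      rw [hi]
      intro j hj
      rw [e.apply_symm_apply, Pi.mulSingle_eq_of_ne hj]
    refine ⟨⟨_, h1⟩, ?_⟩
    rw [hf]
    show e (e.symm (Pi.mulSingle i t)) i = t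
    rw [e.apply_symm_apply, Pi.mulSingle_eq_same]

variable [hM : M.Normal]

theorem conj_mem_of_fix (hT : ¬ IsMulCommutative T) {k : ℕ} (e : M ≃* (Fin k → T)) (hSM : S ≤ M)
    {i : Fin k} (hi : ∀ m : M, (m : G) ∈ S ↔ ∀ j, j ≠ i → e m j = 1) {g : G}
    (hg : gp hT e g i = i) {s : G} (hs : s ∈ S) : g * s * g⁻¹ ∈ S := by
  have h1 : ∀ j, j ≠ i → e ⟨g * s * g⁻¹, hM.conj_mem s (hSM hs) g⟩ j = 1 := by
    intro j hj
    have h2 : (gp hT e g)⁻¹ j ≠ i := by
      intro h
      apply hj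
      rw [← hg, ← h]
      exact ((gp hT e g).apply_symm_apply j).symm
    have h3 := gp_one_iff hT e g ⟨s, hSM hs⟩ ⟨g * s * g⁻¹, hM.conj_mem s (hSM hs) g⟩ rfl
      ((gp hT e g)⁻¹ j)
    rw [show gp hT e g ((gp hT e g)⁻¹ j) = j from (gp hT e g).apply_symm_apply j] at h3
    exact h3.2 ((hi ⟨s, hSM hs⟩).1 hs _ h2)
  exact (hi ⟨g * s * g⁻¹, hM.conj_mem s (hSM hs) g⟩).2 h1

theorem mem_normalizer_of_fix (hT : ¬ IsMulCommutative T) {k : ℕ} (e : M ≃* (Fin k → T))
    (hSM : S ≤ M) {i : Fin k} (hi : ∀ m : M, (m : G) ∈ S ↔ ∀ j, j ≠ i → e m j = 1) {g : G}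
    (hg : gp hT e g i = i) : g ∈ Subgroup.normalizer (S : Set G) := by
  have hg' : gp hT e g⁻¹ i = i := by
    rw [map_inv, Equiv.Perm.inv_eq_iff_eq, hg]
  rw [Subgroup.mem_normalizer_iff]
  intro s
  refine ⟨fun hs => conj_mem_of_fix hT e hSM hi hg hs, fun hs => ?_⟩
  have h1 := conj_mem_of_fix hT e hSM hi hg' hs
  have h2 : g⁻¹ * (g * s * g⁻¹) * g⁻¹⁻¹ = s := by group
  rwa [h2] at h1

/-- An element of a Sylow subgroup moving a factor. -/
theorem dvd_of_moves [Finite G] (hT : ¬ IsMulCommutative T) {k : ℕ} (e : M ≃* (Fin k → T))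
    (hmin : ∀ X : Subgroup G, X.Normal → X ≤ M → X = ⊥ ∨ X = M) {p : ℕ} [hp : Fact p.Prime]
    (P : Sylow p G) (hF : M ⊔ Subgroup.normalizer ((P : Subgroup G) : Set G) = ⊤) {x : G}
    (hx : x ∈ P) {i : Fin k} (hi : gp hT e x i ≠ i) : p ∣ k := by
  classical
  let _ : MulAction G (Fin k) := MulAction.compHom (Fin k) (gp hT e)
  have hsm : ∀ (g : G) (j : Fin k), g • j = gp hT e g j := fun g j => rfl
  have htr : MulAction.IsPretransitive G (Fin k) := by
    refine ⟨fun a b => ?_⟩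
    obtain ⟨v, hv⟩ := exists_gp hT hmin e a b
    exact ⟨v, hv⟩
  have h1 : (MulAction.stabilizer G i).index = k := by
    rw [MulAction.index_stabilizer_of_transitive, Nat.card_eq_fintype_card, Fintype.card_fin]
  have hMT : M ≤ MulAction.stabilizer G i := by
    intro m hm
    rw [MulAction.mem_stabilizer_iff, hsm]
    have h2 := gp_mem hT e ⟨m, hm⟩
    change gp hT e m = 1 at h2
    rw [h2]
    rfl
  rw [← h1]
  refine dvd_index P hMT hF hx (g := 1) ?_
  rw [one_mul, inv_one, mul_one, MulAction.mem_stabilizer_iff, hsm]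
  exact hi

end Cfsg.Agent.H404.Avg
end

-- part: H588/AcdMove
section
/-!
# Characters of `G` from `k - 1` factors of a minimal normal subgroup `T ^ k` (task 1674, for S4831)

`case_move`: `M ≅ T ^ k` minimal normal in `G`, `α ∈ Irr T` nonlinear, extendible to `Aut T`. The
product of `α` over all factors except one extends to the stabilizer `N` of that factor, its inertia
group; induction gives many characters of degree `k * D`, `D ≥ 2 ^ (k - 1)`.
-/

set_option autoImplicit false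
set_option linter.unusedSectionVars false

namespace Cfsg.Agent.H588.Acd

open Cfsg
open scoped ComplexConjugate commutatorElement
open Cfsg.Agent.Characters.Core
open Cfsg.Agent.OddOrderCharacters.NormalInduced (conjFn)
open Cfsg.Agent.OddOrderCharacters.IndRes (res)
open Cfsg.Agent.OddOrderCharacters.PF9.CliffGen (resTo)
open Cfsg.Agent.H429.Reg (cja cja_apply cja_mem gp gp_mem gp_spec gp_one_iff exists_gp)

universe u

/-- The character degree is positive, so a nonlinear one has degree at least two. -/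
theorem two_le_charDegree {T : Type*} [Group T] [Finite T] {α : T → ℂ} (hα : IsIrrCharacter T α)
    (h : charDegree α ≠ 1) : 2 ≤ charDegree α := by
  have h1 := Cfsg.Agent.Blocks.Basic.irr_one_eq_charDegree hα
  have h2 := isIrr_apply_one_ne_zero hα
  have h3 : charDegree α ≠ 0 := by
    intro h0
    rw [h0, Nat.cast_zero] at h1
    exact h2 h1
  omega

/-- The projection to the factors different from `i₀`. -/
def prj {k : ℕ} (i₀ : Fin k) (T : Type*) [Group T] : (Fin k → T) →* ({i : Fin k // i ≠ i₀} → T) where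
  toFun x := fun i => x i
  map_one' := rfl
  map_mul' _ _ := rfl

theorem prj_apply {k : ℕ} (i₀ : Fin k) {T : Type*} [Group T] (x : Fin k → T)
    (i : {i : Fin k // i ≠ i₀}) : prj i₀ T x i = x i := rfl

theorem prj_surjective {k : ℕ} (i₀ : Fin k) (T : Type*) [Group T] :
    Function.Surjective (prj i₀ T) := by
  classical
  intro y
  refine ⟨fun i => if h : i ≠ i₀ then y ⟨i, h⟩ else 1, ?_⟩
  funext i
  rw [prj_apply, dif_pos i.2]

theorem case_move {G : Type u} [Group G] [Finite G] {M : Subgroup G} [M.Normal]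
    (hmin : ∀ K : Subgroup G, K.Normal → K ≤ M → K = ⊥ ∨ K = M) (hMG : M ≤ commutator G)
    {T : Type} [Group T] [Finite T] [IsSimpleGroup T] (hT : ¬ IsMulCommutative T) {k : ℕ}
    (hk : 2 ≤ k) (e : M ≃* (Fin k → T)) {α : Cfsg.IrrCharacter T}
    (hα : Cfsg.charDegree (α : T → ℂ) ≠ 1) (hext : Cfsg.Agent.H671.H5.ExtAut α) :
    ∃ (D : ℕ) (Q : Cfsg.IrrCharacter G → Prop), 2 ^ (k - 1) ≤ D ∧
      Nat.card (G →* ℂˣ) ≤ k * Nat.card {χ : Cfsg.IrrCharacter G //
        Cfsg.charDegree (χ : G → ℂ) = k * D ∧ Q χ} := by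
  classical
  have := Fintype.ofFinite G
  have := Fintype.ofFinite M
  have hM : M.Normal := inferInstance
  let i₀ : Fin k := ⟨0, by omega⟩
  -- the stabilizer of the factor
  let N : Subgroup G := (MulAction.stabilizer (Equiv.Perm (Fin k)) i₀).comap (gp hT e)
  have hN : ∀ g, g ∈ N ↔ gp hT e g i₀ = i₀ := fun g => Iff.rfl
  have hNidx : N.index = k := by
    let _ : MulAction G (Fin k) := MulAction.compHom (Fin k) (gp hT e)
    have h1 : MulAction.IsPretransitive G (Fin k) := by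
      refine ⟨fun a b => ?_⟩
      obtain ⟨v, hv⟩ := exists_gp hT hmin e a b
      exact ⟨v, hv⟩
    have h2 := MulAction.index_stabilizer_of_transitive G i₀
    rw [Nat.card_fin] at h2
    exact h2
  have hMN : M ≤ N := by
    intro m hm
    rw [hN]
    have h1 := gp_mem hT e ⟨m, hm⟩
    change gp hT e m = 1 at h1
    rw [h1]
    rfl
  have hNf : Fintype N := Fintype.ofFinite _
  -- the character of `M`
  let Θ : ({i : Fin k // i ≠ i₀} → T) → ℂ := fun x => ∏ i, (α : T → ℂ) (x i)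
  have hΘ : IsIrrCharacter ({i : Fin k // i ≠ i₀} → T) Θ := Cfsg.Agent.H713.isIrr_pi α.2
  let θ : M → ℂ := Θ ∘ ((prj i₀ T).comp (e : M →* (Fin k → T)))
  have hθv : ∀ m : M, θ m = ∏ i : {i : Fin k // i ≠ i₀}, (α : T → ℂ) (e m i) := fun m => rfl
  have hθ : IsIrrCharacter M θ :=
    isIrr_comp ((prj i₀ T).comp (e : M →* (Fin k → T)))
      ((prj_surjective i₀ T).comp e.surjective) hΘ
  -- the other factors
  let R : Subgroup N :=
    { carrier := {n | ∃ h : (n : G) ∈ M, e ⟨n, h⟩ i₀ = 1}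
      one_mem' := ⟨M.one_mem, by
        have : (⟨((1 : N) : G), M.one_mem⟩ : M) = 1 := rfl
        rw [this, map_one]
        rfl⟩
      mul_mem' := by
        rintro a b ⟨ha, ha'⟩ ⟨hb, hb'⟩
        refine ⟨M.mul_mem ha hb, ?_⟩
        have : (⟨((a * b : N) : G), M.mul_mem ha hb⟩ : M) = ⟨a, ha⟩ * ⟨b, hb⟩ := rfl
        rw [this, map_mul, Pi.mul_apply, ha', hb', one_mul]
      inv_mem' := by
        rintro a ⟨ha, ha'⟩
        refine ⟨M.inv_mem ha, ?_⟩
        have : (⟨((a⁻¹ : N) : G), M.inv_mem ha⟩ : M) = ⟨a, ha⟩⁻¹ := rfl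
        rw [this, map_inv, Pi.inv_apply, ha', inv_one] }
  have hR : ∀ n : N, n ∈ R ↔ ∃ h : (n : G) ∈ M, e ⟨n, h⟩ i₀ = 1 := fun n => Iff.rfl
  have hRn : R.Normal := by
    refine ⟨?_⟩
    rintro n ⟨hn, hn'⟩ g
    have hc : (g : G) * n * (g : G)⁻¹ ∈ M := hM.conj_mem _ hn g
    refine ⟨hc, ?_⟩
    have h1 := gp_one_iff hT e (g : G) ⟨n, hn⟩ ⟨_, hc⟩ rfl i₀
    rw [(hN _).1 g.2] at h1
    exact h1.2 hn'
  let f : R →* ({i : Fin k // i ≠ i₀} → T) :=
    { toFun := fun r => prj i₀ T (e ⟨((r : N) : G), ((hR _).1 r.2).1⟩)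
      map_one' := by
        have : (⟨(((1 : R) : N) : G), ((hR _).1 (1 : R).2).1⟩ : M) = 1 := rfl
        rw [this, map_one, map_one]
      map_mul' := by
        intro a b
        have : (⟨(((a * b : R) : N) : G), ((hR _).1 (a * b : R).2).1⟩ : M) =
          ⟨((a : N) : G), ((hR _).1 a.2).1⟩ * ⟨((b : N) : G), ((hR _).1 b.2).1⟩ := rfl
        rw [this, map_mul, map_mul] }
  have hf : ∀ r : R, f r = prj i₀ T (e ⟨((r : N) : G), ((hR _).1 r.2).1⟩) := fun r => rfl
  have hfb : Function.Bijective f := by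
    constructor
    · intro a b hab
      rw [hf, hf] at hab
      have h1 : e ⟨((a : N) : G), ((hR _).1 a.2).1⟩ = e ⟨((b : N) : G), ((hR _).1 b.2).1⟩ := by
        funext i
        by_cases hi : i = i₀
        · subst hi
          rw [((hR _).1 a.2).2, ((hR _).1 b.2).2]
        · exact congrFun hab ⟨i, hi⟩
      have h2 := e.injective h1
      exact Subtype.ext (Subtype.ext (congrArg (fun m : M => (m : G)) h2))
    · intro y
      let x : Fin k → T := fun i => if h : i ≠ i₀ then y ⟨i, h⟩ else 1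
      have hx : ((e.symm x : M) : G) ∈ N := hMN (e.symm x).2
      have hx' : (⟨_, hx⟩ : N) ∈ R := by
        refine (hR _).2 ⟨(e.symm x).2, ?_⟩
        show e (e.symm x) i₀ = 1
        rw [e.apply_symm_apply]
        exact dif_neg (by simp)
      refine ⟨⟨_, hx'⟩, ?_⟩
      rw [hf]
      show prj i₀ T (e (e.symm x)) = y
      rw [e.apply_symm_apply]
      funext i
      rw [prj_apply]
      exact dif_pos i.2
  let E : R ≃* ({i : Fin k // i ≠ i₀} → T) := MulEquiv.ofBijective f hfb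
  have hE : ∀ r, E r = f r := fun r => rfl
  let c : N →* MulAut ({i : Fin k // i ≠ i₀} → T) :=
    (MulAut.congr E).toMonoidHom.comp (MulAut.conjNormal (H := R))
  have hc : ∀ (m : M), c ⟨m, hMN m.2⟩ = MulAut.conj (prj i₀ T (e m)) := by
    intro m
    ext x i
    have h1 : c ⟨m, hMN m.2⟩ x = E (MulAut.conjNormal (⟨m, hMN m.2⟩ : N) (E.symm x)) := rfl
    rw [h1, hE, hf, MulAut.conj_apply]
    obtain ⟨r, rfl⟩ := E.surjective x
    rw [E.symm_apply_apply, hE, hf, ← map_mul, ← map_inv, ← map_mul, ← map_mul, ← map_inv,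
      ← map_mul]
    rfl
  obtain ⟨ψ₀, hψ₀⟩ := hext
  obtain ⟨Ψ, hΨ, hΨx⟩ := Cfsg.Agent.H671.Tensor.exists_tensor (ι := {i : Fin k // i ≠ i₀}) hT
    (isIrr_isCharacter ψ₀.2)
  set ψ : N → ℂ := Ψ ∘ c with hψdef
  have hψM : ∀ m : M, ψ ⟨m, hMN m.2⟩ = θ m := by
    intro m
    rw [hψdef, Function.comp_apply, hc, hΨx, hθv]
    exact Finset.prod_congr rfl fun i _ => hψ₀ _
  have hψch : IsCharacter N ψ := isCharacter_comp c hΨ
  have hψ : IsIrrCharacter N ψ :=
    Cfsg.Agent.CharactersDeep.MaxInduced.isIrr_of_comp (Subgroup.inclusion hMN) hψch (by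
      have h1 : ψ ∘ (Subgroup.inclusion hMN) = θ := by
        funext m
        exact hψM m
      rw [h1]
      exact hθ)
  have hres : resTo hMN ψ = θ := by
    funext m
    exact hψM m
  -- the inertia group
  have hmem : ∀ g, g ∈ N ↔ conjFn M θ g = θ := by
    intro g
    constructor
    · intro hg
      funext m
      show θ ⟨g * m * g⁻¹, hM.conj_mem m m.2 g⟩ = θ m
      rw [← hψM, ← hψM]
      have h1 := isIrr_isClassFunction hψ (⟨m, hMN m.2⟩ : N) (⟨g, hg⟩ : N)
      exact h1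
    · intro hg
      rw [hN]
      by_contra hne
      apply hα
      apply Cfsg.Agent.H685.Acd.charDegree_eq_one_of_ker α.2
      obtain ⟨φ, hφ⟩ := gp_spec hT e g
      have hone : (α : T → ℂ) 1 ≠ 0 := isIrr_apply_one_ne_zero α.2
      have key : ∀ t : T, (α : T → ℂ) (φ i₀ t) = (α : T → ℂ) 1 := by
        intro t
        let m : M := e.symm (Pi.mulSingle i₀ t)
        have hem : e m = Pi.mulSingle i₀ t := e.apply_symm_apply _
        have hc' : g * m * g⁻¹ ∈ M := hM.conj_mem m m.2 g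
        have h1 : θ ⟨g * m * g⁻¹, hc'⟩ = θ m := congrFun hg m
        have h2 : e ⟨g * m * g⁻¹, hc'⟩ = Pi.mulSingle (gp hT e g i₀) (φ i₀ t) := by
          rw [← cja_apply e g m ⟨_, hc'⟩ rfl, hem]
          funext j
          obtain ⟨l, rfl⟩ := (gp hT e g).surjective j
          rw [hφ]
          by_cases hl : l = i₀
          · subst hl
            rw [Pi.mulSingle_eq_same, Pi.mulSingle_eq_same]
          · rw [Pi.mulSingle_eq_of_ne hl, map_one, Pi.mulSingle_eq_of_ne]
            intro h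
            exact hl ((gp hT e g).injective h)
        have h3 : θ m = ∏ _i : {i : Fin k // i ≠ i₀}, (α : T → ℂ) 1 := by
          rw [hθv]
          refine Finset.prod_congr rfl fun i _ => ?_
          rw [hem, Pi.mulSingle_eq_of_ne i.2]
        have h4 : θ ⟨g * m * g⁻¹, hc'⟩ =
            (α : T → ℂ) (φ i₀ t) * ∏ _i ∈ (Finset.univ.erase
              (⟨gp hT e g i₀, hne⟩ : {i : Fin k // i ≠ i₀})), (α : T → ℂ) 1 := by
          rw [hθv, ← Finset.mul_prod_erase Finset.univ _ (Finset.mem_univ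
            (⟨gp hT e g i₀, hne⟩ : {i : Fin k // i ≠ i₀}))]
          congr 1
          · rw [h2]
            exact congrArg (α : T → ℂ)
              (Pi.mulSingle_eq_same (M := fun _ : Fin k => T) (gp hT e g i₀) (φ i₀ t))
          · refine Finset.prod_congr rfl fun i hi => ?_
            rw [h2, Pi.mulSingle_eq_of_ne]
            intro h
            exact (Finset.mem_erase.1 hi).1 (Subtype.ext h)
        have h5 : θ m = (α : T → ℂ) 1 * ∏ _i ∈ (Finset.univ.erase
              (⟨gp hT e g i₀, hne⟩ : {i : Fin k // i ≠ i₀})), (α : T → ℂ) 1 := by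
          rw [h3, ← Finset.mul_prod_erase Finset.univ _ (Finset.mem_univ
            (⟨gp hT e g i₀, hne⟩ : {i : Fin k // i ≠ i₀}))]
        rw [h4, h5] at h1
        refine mul_right_cancel₀ ?_ h1
        rw [Finset.prod_const]
        exact pow_ne_zero _ hone
      intro s
      obtain ⟨t, rfl⟩ := (φ i₀).surjective s
      exact key t
  -- the degree
  have hcard : Fintype.card {i : Fin k // i ≠ i₀} = k - 1 := by
    rw [Fintype.card_subtype_compl, Fintype.card_fin, Fintype.card_subtype_eq]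
  set D := charDegree (α : T → ℂ) ^ (k - 1) with hD
  have hψD : charDegree ψ = D := by
    apply Cfsg.Agent.Blocks.Basic.charDegree_of_eq
    have h1 := hψM 1
    rw [hθv] at h1
    have h2 : (⟨((1 : M) : G), hMN (1 : M).2⟩ : N) = 1 := rfl
    rw [h2] at h1
    rw [h1, hD]
    have h3 : ∀ i : {i : Fin k // i ≠ i₀}, (α : T → ℂ) (e 1 i) =
        (charDegree (α : T → ℂ) : ℂ) := by
      intro i
      rw [map_one]
      exact Cfsg.Agent.Blocks.Basic.irr_one_eq_charDegree α.2
    rw [Finset.prod_congr rfl fun i _ => h3 i, Finset.prod_const, Finset.card_univ, hcard]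
    push_cast
    rfl
  refine ⟨D, fun χ => classInner (res M χ) θ ≠ 0, ?_, ?_⟩
  · rw [hD]
    exact Nat.pow_le_pow_left (two_le_charDegree α.2 hα) _
  · have h1 := Cfsg.Agent.H685.Acd.count M hMG hθ N hmem hMN hψ (m := 1) (d := D)
      (by rw [hres, classInner_irr_self hθ]; exact one_ne_zero)
      (by rw [hres, classInner_irr_self hθ, Nat.cast_one]) hψD
    rw [mul_one, hNidx] at h1
    refine h1.trans (Nat.mul_le_mul_right _ ?_)
    have h2 := Cfsg.Agent.H705.StrongLin.card_hom_le N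
    rwa [hNidx] at h2

end Cfsg.Agent.H588.Acd
end

-- part: H588/AcdExt
section
/-!
# A character of `G` irreducible on a minimal normal subgroup and of degree at least `p`
(task 1675, for S4831)
-/

set_option autoImplicit false

namespace Cfsg.Agent.H588.Acd

open Cfsg
open Cfsg.Agent.Characters.Core
open Cfsg.Agent.H429.Reg (cja cja_apply cja_mem gp gp_mem gp_spec inv_mul_mem_centralizer)

universe u

theorem two_le_charDegree' {T : Type*} [Group T] [Finite T] {α : T → ℂ} (hα : IsIrrCharacter T α)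
    (h : charDegree α ≠ 1) : 2 ≤ charDegree α := by
  have h1 := Cfsg.Agent.Blocks.Basic.irr_one_eq_charDegree hα
  have h2 := isIrr_apply_one_ne_zero hα
  have h3 : charDegree α ≠ 0 := by
    intro h0
    rw [h0, Nat.cast_zero] at h1
    exact h2 h1
  omega

/-- A prime dividing `|Aut S|` but not `|S|` divides `|Out S|`. -/
theorem dvd_card_out {S : Type*} [Group S] [Finite S] {p : ℕ} (hp : p.Prime)
    (h : ¬ p ∣ Nat.card S) {φ : MulAut S} (hφ : φ ≠ 1) (hφp : φ ^ p = 1) :
    p ∣ Nat.card (Cfsg.Out S) := by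
  have : Fact p.Prime := ⟨hp⟩
  have h1 : orderOf φ = p := orderOf_eq_prime hφp hφ
  have h2 : p ∣ Nat.card (MulAut S) := h1 ▸ orderOf_dvd_natCard φ
  have h3 : Nat.card (MulAut S) = Nat.card (Cfsg.Out S) * Nat.card (Inn S) :=
    Subgroup.card_eq_card_quotient_mul_card_subgroup (Inn S)
  rw [h3] at h2
  rcases hp.dvd_mul.1 h2 with h4 | h4
  · exact h4
  · exfalso
    apply h
    refine h4.trans ?_
    have h5 : Inn S = (MulAut.conj : S →* MulAut S).range := rfl
    rw [h5]
    exact Subgroup.card_range_dvd _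

theorem ext_all (hE : Cfsg.Agent.H671.H5.FactExt.{0})
    (hOL : ∀ (S : Type) [Group S] [Finite S] [IsSimpleGroup S],
      ¬ IsMulCommutative S → Cfsg.Agent.H954.OutDeg.OL S)
    {G : Type u} [Group G] [Finite G] (M : Subgroup G) [hM : M.Normal] (hM0 : M ≠ ⊥)
    (hmin : ∀ K : Subgroup G, K.Normal → K ≤ M → K = ⊥ ∨ K = M) (hna : ¬ IsMulCommutative M)
    (hC : Subgroup.centralizer (M : Set G) = ⊥) {p : ℕ} (hp : p.Prime) (hpM : ¬ p ∣ Nat.card M)
    (hpG : p ∣ Nat.card G) :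
    ∃ χ : Cfsg.IrrCharacter G, IsIrrCharacter M (fun m : M => (χ : G → ℂ) m) ∧
      p ≤ Cfsg.charDegree (χ : G → ℂ) := by
  classical
  obtain ⟨S, iS, iS', k, hk, hSna, ⟨e⟩⟩ :=
    Cfsg.Agent.H671.Frame.minNormal_pi hM hM0 hmin hna
  have i₁ : Fin k := ⟨0, hk⟩
  have hSf : Finite S := by
    have h1 : Finite (Fin k → S) := Finite.of_equiv M e.toEquiv
    exact Finite.of_injective (fun s : S => (Function.const _ s : Fin k → S)) fun a b h =>
      congrFun h i₁
  obtain ⟨α, hα, hαe⟩ := hE S hSna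
  obtain ⟨χ, hχ⟩ := Cfsg.Agent.H671.Tensor.exists_extension M hSna e hαe
  have h2 : 2 ≤ charDegree (α : S → ℂ) := two_le_charDegree' α.2 hα
  have hD : charDegree (χ : G → ℂ) = charDegree (α : S → ℂ) ^ k := by
    apply Cfsg.Agent.Blocks.Basic.charDegree_of_eq
    have h1 := hχ 1
    rw [Subgroup.coe_one] at h1
    rw [h1]
    have h3 : ∀ i : Fin k, (α : S → ℂ) (e 1 i) = (charDegree (α : S → ℂ) : ℂ) := by
      intro i
      rw [map_one]
      exact Cfsg.Agent.Blocks.Basic.irr_one_eq_charDegree α.2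
    rw [Finset.prod_congr rfl fun i _ => h3 i, Finset.prod_const, Finset.card_univ,
      Fintype.card_fin]
    push_cast
    rfl
  refine ⟨χ, ?_, ?_⟩
  · have h1 : (fun m : M => (χ : G → ℂ) m) =
        (fun x : Fin k → S => ∏ i, (α : S → ℂ) (x i)) ∘ (e : M →* (Fin k → S)) := by
      funext m
      exact hχ m
    rw [h1]
    exact isIrr_comp (e : M →* (Fin k → S)) e.surjective (Cfsg.Agent.H713.isIrr_pi α.2)
  rw [hD]
  have : Fact p.Prime := ⟨hp⟩
  obtain ⟨y, hy⟩ := exists_prime_orderOf_dvd_card' p hpG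
  have hyp : y ^ p = 1 := by
    rw [← hy]
    exact pow_orderOf_eq_one y
  have hy1 : y ≠ 1 := by
    rintro rfl
    rw [orderOf_one] at hy
    exact hp.one_lt.ne hy
  have hpow : k < charDegree (α : S → ℂ) ^ k := (Nat.lt_two_pow_self).trans_le
    (Nat.pow_le_pow_left h2 k)
  by_cases hgp : gp hSna e y = 1
  · obtain ⟨φ, hφ⟩ := gp_spec hSna e y
    rw [hgp] at hφ
    have hφ' : ∀ x i, cja e y x i = φ i (x i) := fun x i => hφ x i
    have hφn : ∀ n : ℕ, ∀ x i, (cja e y ^ n) x i = (φ i ^ n) (x i) := by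
      intro n
      induction n with
      | zero => intro x i; rfl
      | succ n ih =>
        intro x i
        rw [pow_succ, pow_succ, MulAut.mul_apply, MulAut.mul_apply, ih, hφ']
    obtain ⟨i, hi⟩ : ∃ i, φ i ≠ 1 := by
      by_contra hcon
      push Not at hcon
      apply hy1
      have h3 : cja e y = MulAut.conj (e 1) := by
        rw [map_one, map_one]
        ext x i
        rw [hφ', hcon]
        rfl
      have h4 := inv_mul_mem_centralizer e h3
      rw [Subgroup.coe_one, inv_one, one_mul, hC, Subgroup.mem_bot] at h4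
      exact h4
    have hip : φ i ^ p = 1 := by
      ext s
      have h3 := hφn p (Pi.mulSingle i s) i
      rw [← map_pow, hyp, map_one, Pi.mulSingle_eq_same] at h3
      rw [← h3]
      exact Pi.mulSingle_eq_same (M := fun _ : Fin k => S) i s
    have hpS : ¬ p ∣ Nat.card S := by
      intro h
      apply hpM
      rw [Nat.card_congr e.toEquiv, Nat.card_fun, Nat.card_fin]
      exact h.trans (dvd_pow_self _ (by omega))
    have h3 := dvd_card_out hp hpS hi hip
    have h4 : p ≤ Nat.card (Cfsg.Out S) := Nat.le_of_dvd Nat.card_pos h3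
    have h5 := hOL S hSna α hα
    exact (h4.trans h5.le).trans (Nat.le_self_pow (by omega) _)
  · have h3 : orderOf (gp hSna e y) = p := orderOf_eq_prime (by rw [← map_pow, hyp, map_one]) hgp
    have h4 : p ∣ k.factorial := by
      have h5 : Nat.card (Equiv.Perm (Fin k)) = k.factorial := by
        rw [Nat.card_eq_fintype_card, Fintype.card_perm, Fintype.card_fin]
      rw [← h5, ← h3]
      exact orderOf_dvd_natCard _
    rw [hp.dvd_factorial] at h4
    exact h4.trans hpow.le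

end Cfsg.Agent.H588.Acd
end

-- part: H272/Gal3
section
/-!
# Galois conjugates of a character of degree three of a simple group (helper272, for S4831)
-/

set_option autoImplicit false

namespace Cfsg.Agent.H272.Gal3

open Cfsg Cfsg.Agent.Characters

universe u

/-- sum of the powers of an `r`-th root of unity -/
theorem sum_pow {r : ℕ} {z : ℂ} (hz : z ^ r = 1) : ∑ k ∈ Finset.range r, z ^ k = if z = 1 then (r : ℂ) else 0 := by
  split_ifs with h
  · simp [h]
  · have h1 := mul_geom_sum z r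
    rw [hz, sub_self] at h1
    exact (mul_eq_zero.1 h1).resolve_left (sub_ne_zero.2 h)

/-- A rational value of a character of degree three at an element of prime order `r ≥ 5` is three. -/
theorem value_eq {G : Type u} [Group G] [Finite G] {χ : G → ℂ} (hχ : IsCharacter G χ) (h3 : χ 1 = 3) {r : ℕ}
    (hr : r.Prime) (hr5 : 5 ≤ r) {x : G} (hx : x ^ r = 1) (hfix : ∀ σ : ℂ ≃+* ℂ, σ (χ x) = χ x) : χ x = χ 1 := by
  classical
  obtain ⟨d, μ, hd, hμ, hpow⟩ := GaloisBasic.isCharacter_exists_fin_pow hχ x hr.ne_zero hx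
  have hd3 : d = 3 := by
    rw [h3] at hd
    exact_mod_cast hd.symm
  subst hd3
  -- the value is an integer
  obtain ⟨c, hc⟩ := GaloisBasic.exists_int_of_isIntegral (GaloisBasic.isIntegral_apply hχ x)
    (GaloisBasic.exists_rat_of_forall_ringEquiv ((GaloisBasic.isIntegral_apply hχ x).tower_top) hfix)
  have hk : ∀ k ∈ Finset.range r, χ (x ^ k) = if k = 0 then (3 : ℂ) else c := by
    intro k hk
    split_ifs with h0
    · rw [h0, pow_zero, h3]
    · have hcop : k.Coprime r := by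
        rw [Nat.coprime_comm, Nat.Prime.coprime_iff_not_dvd hr]
        intro h
        have := Nat.le_of_dvd (Nat.pos_of_ne_zero h0) h
        have := Finset.mem_range.1 hk
        omega
      obtain ⟨σ, hσ⟩ := GaloisBasic.exists_ringEquiv_pow hr.ne_zero hcop
      have h1 := GaloisBasic.map_apply (σ : ℂ →+* ℂ) hσ hχ hr.ne_zero hx
      rw [← h1, ← hc]
      exact hfix σ
  have hsum : ∑ k ∈ Finset.range r, χ (x ^ k) = 3 + ((r : ℂ) - 1) * c := by
    rw [Finset.sum_congr rfl hk, Finset.sum_ite, Finset.sum_const, Finset.sum_const]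
    have h1 : (Finset.range r).filter (fun k => k = 0) = {0} := by
      ext k
      simp only [Finset.mem_filter, Finset.mem_range, Finset.mem_singleton]
      exact ⟨fun h => h.2, fun h => ⟨by omega, h⟩⟩
    have h2 : ((Finset.range r).filter (fun k => ¬ k = 0)).card = r - 1 := by
      have := Finset.card_filter_add_card_filter_not (s := Finset.range r) (fun k => k = 0)
      rw [h1, Finset.card_singleton, Finset.card_range] at this
      omega
    rw [h1, h2, Finset.card_singleton, one_smul, nsmul_eq_mul, Nat.cast_sub (by omega), Nat.cast_one]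
  have hsum2 : ∑ k ∈ Finset.range r, χ (x ^ k) = ((Finset.univ.filter fun i : Fin 3 => μ i = 1).card : ℂ) * r := by
    rw [Finset.sum_congr rfl fun k _ => hpow k, Finset.sum_comm, Finset.sum_congr rfl fun i _ => sum_pow (hμ i),
      Finset.sum_ite, Finset.sum_const, Finset.sum_const_zero, add_zero, nsmul_eq_mul]
  set a := (Finset.univ.filter fun i : Fin 3 => μ i = 1).card with ha
  have ha3 : a ≤ 3 := (Finset.card_le_univ _).trans (by simp)
  have heq : (3 : ℤ) + ((r : ℤ) - 1) * c = a * r := by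
    have := hsum.symm.trans hsum2
    exact_mod_cast this
  have ha' : a = 3 := by
    have h1 : ((r : ℤ) - 1) * (c - a) = a - 3 := by linear_combination heq
    have h2 : ((r : ℤ) - 1) ∣ (a : ℤ) - 3 := Dvd.intro _ h1
    have h3 : (a : ℤ) - 3 = 0 := by
      apply Int.eq_zero_of_abs_lt_dvd h2
      rw [abs_lt]
      constructor <;> omega
    omega
  have hc3 : c = 3 := by
    rw [ha'] at heq
    have h1 : ((r : ℤ) - 1) * (c - 3) = 0 := by
      push_cast at heq
      linear_combination heq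
    rcases mul_eq_zero.1 h1 with h | h
    · omega
    · omega
  rw [hc, hc3, h3]
  norm_num

/-- **Degree three.** -/
theorem exists_galois_three {S : Type u} [Group S] [Finite S] [IsSimpleGroup S] (hS : ¬ IsMulCommutative S)
    (α : Cfsg.IrrCharacter S) (h3 : Cfsg.charDegree (α : S → ℂ) = 3) :
    ∃ α' : Cfsg.IrrCharacter S, Cfsg.charDegree (α' : S → ℂ) = 3 ∧ α' ≠ α ∧
      ∀ s s' : S, (α : S → ℂ) s = (α : S → ℂ) s' → (α' : S → ℂ) s = (α' : S → ℂ) s' := by
  classical
  have hχ := Core.isIrr_isCharacter α.2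
  have hone : (α : S → ℂ) 1 = 3 := by
    rw [Cfsg.Agent.Blocks.Basic.irr_one_eq_charDegree α.2, h3]
    norm_num
  obtain ⟨r, hr, hr5, hrS⟩ : ∃ r : ℕ, r.Prime ∧ 5 ≤ r ∧ r ∣ Nat.card S := by
    by_contra hcon
    push Not at hcon
    have h1 : Group.IsSolvable S := by
      refine S0144.result 2 3 ((Nat.card S).factorization 2) ((Nat.card S).factorization 3) Nat.prime_two
        Nat.prime_three ?_
      have h0 : Nat.card S ≠ 0 := Nat.card_pos.ne'
      conv_lhs => rw [← Nat.prod_factorization_pow_eq_self h0]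
      have h2 : (Nat.card S).factorization.support ⊆ {2, 3} := by
        intro p hp
        rw [Nat.support_factorization, Nat.mem_primeFactors] at hp
        have h5 : ¬ 5 ≤ p := fun h => hcon p hp.1 h hp.2.1
        have := hp.1.two_le
        have h4 : p ≠ 4 := by
          rintro rfl
          exact absurd hp.1 (by norm_num)
        simp only [Finset.mem_insert, Finset.mem_singleton]
        omega
      rw [Finsupp.prod_of_support_subset _ h2 _ (fun i _ => pow_zero i), Finset.prod_pair (by norm_num)]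
    exact hS ⟨⟨IsSimpleGroup.comm_iff_isSolvable.2 h1⟩⟩
  have := Fact.mk hr
  obtain ⟨x, hx⟩ := exists_prime_orderOf_dvd_card' r hrS
  have hx1 : x ≠ 1 := by
    rintro rfl
    rw [orderOf_one] at hx
    exact hr.one_lt.ne hx
  obtain ⟨σ, hσ⟩ : ∃ σ : ℂ ≃+* ℂ, σ ((α : S → ℂ) x) ≠ (α : S → ℂ) x := by
    by_contra hcon
    push Not at hcon
    have h1 := value_eq hχ hone hr hr5 (by rw [← hx, pow_orderOf_eq_one]) hcon
    -- the kernel is a normal subgroup
    have h2 : ∀ s, (α : S → ℂ) s = (α : S → ℂ) 1 := by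
      obtain ⟨m, ρ, hρ⟩ := hχ
      rw [← hρ, Representation.char_one] at h1
      have hx' : x ∈ ρ.ker := (Values.character_eq_finrank_iff ρ x).1 h1
      have htop : ρ.ker = ⊤ := by
        rcases IsSimpleGroup.eq_bot_or_eq_top_of_normal ρ.ker inferInstance with h | h
        · rw [h, Subgroup.mem_bot] at hx'
          exact absurd hx' hx1
        · exact h
      intro s
      have hs : s ∈ ρ.ker := by
        rw [htop]
        trivial
      rw [← hρ, Representation.char_one]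
      exact (Values.character_eq_finrank_iff ρ s).2 hs
    have h4 := H685.Acd.charDegree_eq_one_of_ker α.2 h2
    omega
  refine ⟨⟨fun g => σ ((α : S → ℂ) g), GaloisIrr.isIrr_map σ α.2⟩, ?_, ?_, ?_⟩
  · show charDegree (fun g => σ ((α : S → ℂ) g)) = 3
    have h1 : σ ((α : S → ℂ) 1) = ((3 : ℕ) : ℂ) := by
      rw [hone, map_ofNat]
      norm_num
    have h2 := Cfsg.Agent.Blocks.Basic.irr_one_eq_charDegree (GaloisIrr.isIrr_map σ α.2)
    have h5 := h1.symm.trans h2
    exact_mod_cast h5.symm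
  · intro h
    exact hσ (congrFun (congrArg Subtype.val h) x)
  · intro s s' h
    exact congrArg σ h

end Cfsg.Agent.H272.Gal3
end

-- part: H404/Avg/Cases
section
/-!
# The cases of the reduction of S4831, `p` odd (helper404)
-/

set_option autoImplicit false
set_option linter.unusedSectionVars false

namespace Cfsg.Agent.H404.Avg

open Cfsg
open scoped ComplexConjugate commutatorElement
open Cfsg.Agent.Characters.Core
open Cfsg.Agent.OddOrderCharacters.NormalInduced (conjFn)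
open Cfsg.Agent.OddOrderCharacters.IndRes (res)
open Cfsg.Agent.H612.MinNormal (cj mem_cj mem_normalizer_iff_cj)
open Cfsg.Agent.H685.Acd (eq_one_of_central charDegree_eq_one_of_ker exists_proj dvd_index
  exists_char_moved)
open Cfsg.Agent.H429.Reg

universe u v

/-- From the count to the bound. -/
theorem bound_of_count {G : Type u} [Group G] [Finite G] {A B p t e d : ℕ} (hd : p ∣ t * (e * d))
    (Q : IrrCharacter G → Prop)
    (hcount : Nat.card (G →* ℂˣ) ≤ t * e ^ 2 * Nat.card {χ : IrrCharacter G //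
      charDegree (χ : G → ℂ) = t * (e * d) ∧ Q χ})
    (hnum : (B - A) * (t * e ^ 2) + B ≤ A * (t * (e * d))) :
    (B - A) * Nat.card (G →* ℂˣ) ≤ Wt (fun d => A * d - B) p G := by
  refine le_trans ?_ (card_mul_le hd Q)
  set b := Nat.card {χ : IrrCharacter G // charDegree (χ : G → ℂ) = t * (e * d) ∧ Q χ}
  calc (B - A) * Nat.card (G →* ℂˣ) ≤ (B - A) * (t * e ^ 2 * b) := Nat.mul_le_mul_left _ hcount
    _ = b * ((B - A) * (t * e ^ 2)) := by ring
    _ ≤ b * (A * (t * (e * d)) - B) := Nat.mul_le_mul_left _ (by omega)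

/-- The characters of `G` from a character of a simple factor, `e ^ 2 |N_G(S) : T| ≤ |Out S|`. -/
theorem count_sq {G : Type u} [Group G] [Finite G] (M : Subgroup G) [hM : M.Normal]
    (hMG : M ≤ commutator G) {S : Subgroup G} [hsimple : IsSimpleGroup S]
    (hSna : ¬ IsMulCommutative S) (hSM : S ≤ M) (hMS : M ≤ S ⊔ Subgroup.centralizer (S : Set G))
    (hcj : ∀ g : G, cj g S = S ∨ cj g S ≤ Subgroup.centralizer (S : Set G)) (α : IrrCharacter S)
    (hα : charDegree (α : S → ℂ) ≠ 1) :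
    ∃ (T : Subgroup G) (e : ℕ) (Q : IrrCharacter G → Prop), M ≤ T ∧
      T ≤ Subgroup.normalizer (S : Set G) ∧
      (∀ t, t ∈ T ↔ ∃ h : t ∈ Subgroup.normalizer (S : Set G), ∀ s : S,
        (α : S → ℂ) ⟨t * s * t⁻¹, (Subgroup.mem_normalizer_iff.1 h s).1 s.2⟩ = (α : S → ℂ) s) ∧
      e ≠ 0 ∧ e ^ 2 * T.relIndex (Subgroup.normalizer (S : Set G)) ≤ Nat.card (Cfsg.Out S) ∧
      Nat.card (G →* ℂˣ) ≤ T.index * e ^ 2 * Nat.card {χ : IrrCharacter G //
        charDegree (χ : G → ℂ) = T.index * (e * charDegree (α : S → ℂ)) ∧ Q χ} := by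
  classical
  have := Fintype.ofFinite G
  have := Fintype.ofFinite M
  obtain ⟨π, hπ1, hπ2⟩ := exists_proj hMS (fun z hz => eq_one_of_central hSna hz)
  obtain ⟨T, hTN, e, hMT, hiff, hB, he0, he, hcount⟩ := nab_gen M hMG hSna hSM hcj π hπ1 hπ2 α hα
    (fun B e => e ^ 2 ≤ (MulAut.conj : S →* MulAut S).range.relIndex B)
    (fun B hB hinv => exists_over_sq hSna α B hB hinv)
  have hCT : Subgroup.centralizer (S : Set G) ≤ T := by
    intro g hg
    rw [Subgroup.mem_centralizer_iff] at hg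
    have h1 : ∀ s ∈ S, g * s * g⁻¹ = s := fun s hs => by rw [← hg s hs, mul_inv_cancel_right]
    have h2 : g ∈ Subgroup.normalizer (S : Set G) := by
      apply Subgroup.centralizer_le_normalizer
      rw [Subgroup.mem_centralizer_iff]
      exact hg
    refine (hiff g).2 ⟨h2, fun s => congrArg (α : S → ℂ) (Subtype.ext (h1 s s.2))⟩
  exact ⟨T, e, fun χ => classInner (res M χ) ((α : S → ℂ) ∘ π) ≠ 0, hMT, hTN, hiff, he0,
    sq_mul_relIndex_le hTN hCT hB he, hcount⟩

/-- A conjugate of an element of `P` does not centralize `S`. -/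
theorem exists_not_comm {G : Type u} [Group G] [Finite G] {p : ℕ} [hp : Fact p.Prime]
    (P : Sylow p G) {M : Subgroup G} [hM : M.Normal]
    (hmin : ∀ K : Subgroup G, K.Normal → K ≤ M → K = ⊥ ∨ K = M)
    (hC : Subgroup.centralizer (M : Set G) = ⊥) (hpG : p ∣ Nat.card G) {S : Subgroup G}
    (hSna : ¬ IsMulCommutative S) (hSM : S ≤ M) :
    ∃ x ∈ P, ∃ g : G, ∃ s ∈ S, (g * x * g⁻¹) * s ≠ s * (g * x * g⁻¹) := by
  by_contra hcon
  push Not at hcon
  have h1 : Subgroup.normalClosure (S : Set G) = M := by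
    rcases hmin (Subgroup.normalClosure (S : Set G)) inferInstance
      (Subgroup.normalClosure_le_normal hSM) with h | h
    · exfalso
      apply hSna
      have h2 : S ≤ ⊥ := by
        rw [← h]
        exact Subgroup.subset_normalClosure
      refine ⟨⟨fun a b => ?_⟩⟩
      have h3 : a = 1 := Subtype.ext (Subgroup.mem_bot.1 (h2 a.2))
      have h4 : b = 1 := Subtype.ext (Subgroup.mem_bot.1 (h2 b.2))
      rw [h3, h4]
    · exact h
  have h2 : M ≤ Subgroup.centralizer ((P : Subgroup G) : Set G) := by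
    rw [← h1]
    show Subgroup.closure (Group.conjugatesOfSet (S : Set G)) ≤ _
    rw [Subgroup.closure_le]
    intro z hz
    obtain ⟨s, hs, hsz⟩ := Group.mem_conjugatesOfSet_iff.1 hz
    obtain ⟨g, rfl⟩ := isConj_iff.1 hsz
    rw [SetLike.mem_coe, Subgroup.mem_centralizer_iff]
    intro x hx
    have h3 := hcon x hx g⁻¹ s hs
    calc x * (g * s * g⁻¹) = g * ((g⁻¹ * x * g⁻¹⁻¹) * s) * g⁻¹ := by group
      _ = g * (s * (g⁻¹ * x * g⁻¹⁻¹)) * g⁻¹ := by rw [h3]
      _ = g * s * g⁻¹ * x := by group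
  have h3 : (P : Subgroup G) ≤ Subgroup.centralizer (M : Set G) := by
    intro x hx
    rw [Subgroup.mem_centralizer_iff]
    intro m hm
    exact (Subgroup.mem_centralizer_iff.1 (h2 hm) x hx).symm
  rw [hC] at h3
  have h4 : (P : Subgroup G) = ⊥ := le_bot_iff.1 h3
  have h5 := P.card_eq_multiplicity
  rw [h4, Subgroup.card_bot] at h5
  have h6 : 0 < (Nat.card G).factorization p :=
    hp.out.factorization_pos_of_dvd Nat.card_pos.ne' hpG
  have h7 := Nat.one_lt_pow h6.ne' hp.out.one_lt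
  omega

/-- `p` does not divide `|M|` and a Sylow `p`-subgroup fixes all factors. -/
theorem case_fix {G : Type u} [Group G] [Finite G] {p : ℕ} [hp : Fact p.Prime]
    (hOL : ∀ (S : Type u) [Group S] [Finite S] [IsSimpleGroup S],
      ¬ IsMulCommutative S → Cfsg.Agent.H954.OutDeg.OL S) (P : Sylow p G) {M : Subgroup G}
    [hM : M.Normal] (hMG : M ≤ commutator G)
    (hmin : ∀ K : Subgroup G, K.Normal → K ≤ M → K = ⊥ ∨ K = M)
    (hC : Subgroup.centralizer (M : Set G) = ⊥) (hpG : p ∣ Nat.card G)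
    (hF : M ⊔ Subgroup.normalizer ((P : Subgroup G) : Set G) = ⊤) {S : Subgroup G}
    (hSM : S ≤ M) [hsimple : IsSimpleGroup S] (hSna : ¬ IsMulCommutative S)
    (hMS : M ≤ S ⊔ Subgroup.centralizer (S : Set G))
    (hcj : ∀ g : G, cj g S = S ∨ cj g S ≤ Subgroup.centralizer (S : Set G))
    (hpS : ¬ p ∣ Nat.card S)
    (hfix : ∀ x ∈ P, ∀ g : G, g * x * g⁻¹ ∈ Subgroup.normalizer (S : Set G)) :
    ∃ (t e d : ℕ) (Q : IrrCharacter G → Prop), p ∣ t ∧ t ≠ 0 ∧ e ≠ 0 ∧ e ^ 2 * p < d ∧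
      Nat.card (G →* ℂˣ) ≤ t * e ^ 2 * Nat.card {χ : IrrCharacter G //
        charDegree (χ : G → ℂ) = t * (e * d) ∧ Q χ} := by
  classical
  obtain ⟨x, hx, g, hxg⟩ := exists_not_comm P hmin hC hpG hSna hSM
  set y := g * x * g⁻¹ with hy
  have hyp : ∃ k : ℕ, y ^ p ^ k = 1 := by
    obtain ⟨k, hk⟩ := P.isPGroup' ⟨x, hx⟩
    refine ⟨k, ?_⟩
    have hk' : x ^ p ^ k = 1 := congrArg Subtype.val hk
    rw [hy, conj_pow, hk', mul_one, mul_inv_cancel]
  have hyN : y ∈ Subgroup.normalizer (S : Set G) := hfix x hx g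
  obtain ⟨α, s, hne⟩ := exists_char_moved hyN hyp hpS hxg
  have hα : charDegree (α : S → ℂ) ≠ 1 := by
    intro h1
    apply hne
    obtain ⟨f, hf⟩ := Cfsg.Agent.Characters.Linear.exists_hom_of_isIrrCharacter α.2 (by
      rw [Cfsg.Agent.Blocks.Basic.irr_one_eq_charDegree α.2, h1, Nat.cast_one])
    have htriv : ∀ z : S, f z = 1 := by
      rcases (inferInstance : f.ker.Normal).eq_bot_or_eq_top with h | h
      · exfalso
        apply hSna
        refine ⟨⟨fun a b => ?_⟩⟩
        have hinj : Function.Injective f := (MonoidHom.ker_eq_bot_iff f).1 h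
        apply hinj
        rw [map_mul, map_mul, mul_comm]
      · intro z
        exact MonoidHom.mem_ker.1 (h ▸ Subgroup.mem_top z)
    rw [hf]
    show ((f _ : ℂˣ) : ℂ) = f _
    rw [htriv, htriv]
  obtain ⟨T, e, Q, hMT, hTN, hiff, he0, hout, hcount⟩ := count_sq M hMG hSna hSM hMS hcj α hα
  have hyT : y ∉ T := by
    intro hyT
    obtain ⟨h, h'⟩ := (hiff y).1 hyT
    exact hne (h' s)
  have hpT : p ∣ T.index := dvd_index P hMT hF hx hyT
  have hN : ¬ p ∣ (Subgroup.normalizer (S : Set G)).index := by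
    have hPN : (P : Subgroup G) ≤ Subgroup.normalizer (S : Set G) := by
      intro z hz
      have h1 := hfix z hz 1
      rwa [one_mul, inv_one, mul_one] at h1
    intro h
    have h1 : (Subgroup.normalizer (S : Set G)).index ∣ (P : Subgroup G).index :=
      Subgroup.index_dvd_of_le hPN
    exact P.not_dvd_index' (by exact Subgroup.index_ne_zero_of_finite) (h.trans h1)
  have hrel : p ∣ T.relIndex (Subgroup.normalizer (S : Set G)) := by
    have h1 := Subgroup.relIndex_mul_index hTN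
    rw [← h1] at hpT
    exact (hp.out.dvd_mul.1 hpT).resolve_right hN
  have hrel0 : T.relIndex (Subgroup.normalizer (S : Set G)) ≠ 0 := by
    intro h
    have h1 := Subgroup.relIndex_mul_index hTN
    rw [h, zero_mul] at h1
    exact Subgroup.index_ne_zero_of_finite (H := T) h1.symm
  have hple := Nat.le_of_dvd (Nat.pos_of_ne_zero hrel0) hrel
  refine ⟨T.index, e, charDegree (α : S → ℂ), Q, hpT, Subgroup.index_ne_zero_of_finite, he0, ?_,
    hcount⟩
  calc e ^ 2 * p ≤ e ^ 2 * T.relIndex (Subgroup.normalizer (S : Set G)) :=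
        Nat.mul_le_mul_left _ hple
    _ ≤ Nat.card (Cfsg.Out S) := hout
    _ < charDegree (α : S → ℂ) := hOL S hSna α hα

end Cfsg.Agent.H404.Avg
end

-- part: H404/Avg/CasesDvd
section
/-!
# The reduction of S4831, `p` odd, dividing the order of the simple factor (helper404)
-/

set_option autoImplicit false
set_option linter.unusedSectionVars false

namespace Cfsg.Agent.H404.Avg

open Cfsg
open scoped ComplexConjugate commutatorElement
open Cfsg.Agent.Characters.Core
open Cfsg.Agent.OddOrderCharacters.NormalInduced (conjFn)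
open Cfsg.Agent.OddOrderCharacters.IndRes (res)
open Cfsg.Agent.OddOrderCharacters.PF9.CliffGen (degree_le_of_constituent)
open Cfsg.Agent.H612.MinNormal (cj mem_cj mem_normalizer_iff_cj)
open Cfsg.Agent.H685.Acd (eq_one_of_central exists_proj)

universe u v

theorem num_good {p t e d : ℕ} (hp : 3 ≤ p) (ht : t ≠ 0) (he : e ≠ 0) (h : (e + 1) * p ≤ 2 * d) :
    (p + 1 - 2) * (t * e ^ 2) + (p + 1) ≤ 2 * (t * (e * d)) := by
  obtain ⟨q, rfl⟩ : ∃ q, p = q + 1 := ⟨p - 1, by omega⟩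
  have h1 : q + 1 + 1 - 2 = q := by omega
  rw [h1]
  have hte : 1 ≤ t * e := Nat.one_le_iff_ne_zero.2 (Nat.mul_ne_zero ht he)
  have h2 : t * e * ((e + 1) * (q + 1)) ≤ t * e * (2 * d) := Nat.mul_le_mul_left _ h
  have he1 : 1 ≤ e := Nat.one_le_iff_ne_zero.2 he
  have h3 : 1 ≤ t * e * e := Nat.mul_le_mul hte he1
  linarith only [hte, h2, h3, Nat.mul_le_mul_right q hte]

theorem num_three_dvd {t e d : ℕ} (ht : t ≠ 0) (he : e ≠ 0) (hed : e ^ 2 < d) (h3 : 3 ∣ d)
    (hbig : 6 ≤ d ∨ 2 ≤ t) : (7 - 3) * (t * e ^ 2) + 7 ≤ 3 * (t * (e * d)) := by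
  have ht1 : 1 ≤ t := Nat.one_le_iff_ne_zero.2 ht
  have he1 : 1 ≤ e := Nat.one_le_iff_ne_zero.2 he
  have hte : 1 ≤ t * e := Nat.mul_le_mul ht1 he1
  have h7 : 7 - 3 = 4 := rfl
  rw [h7]
  obtain ⟨u, hu⟩ : ∃ u, u = t * e := ⟨_, rfl⟩
  have e1 : 4 * (t * e ^ 2) = 4 * (u * e) := by rw [hu]; ring
  have e2 : 3 * (t * (e * d)) = 3 * (u * d) := by rw [hu]; ring
  rw [e1, e2]
  rw [← hu] at hte
  have hd1 : e ^ 2 + 1 ≤ d := hed
  rcases Nat.lt_or_ge e 2 with h | h
  · have he' : e = 1 := by omega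
    subst he'
    rw [mul_one] at hu
    rw [mul_one]
    rcases hbig with h6 | h6
    · linarith only [hte, Nat.mul_le_mul_left u h6]
    · have hd3 : 3 ≤ d := Nat.le_of_dvd (by omega) h3
      rw [← hu] at h6
      linarith only [h6, Nat.mul_le_mul_left u hd3]
  · rcases Nat.lt_or_ge e 3 with h' | h'
    · have he' : e = 2 := by omega
      subst he'
      have h6 : 6 ≤ d := by omega
      linarith only [ht1, hu, Nat.mul_le_mul_left u h6]
    · have h6 : 3 * e + 1 ≤ d := by nlinarith only [hed, h']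
      have h8 := Nat.mul_le_mul_left u h6
      linarith only [h8, Nat.mul_le_mul hte h']

theorem num_fix {A B p t e d : ℕ} (hAB : (p = 3 ∧ A = 3 ∧ B = 7) ∨ (5 ≤ p ∧ A = 2 ∧ B = p + 1))
    (hpt : p ∣ t) (ht : t ≠ 0) (he : e ≠ 0) (hed : e ^ 2 * p < d) :
    (B - A) * (t * e ^ 2) + B ≤ A * (t * (e * d)) := by
  have htp : p ≤ t := Nat.le_of_dvd (Nat.pos_of_ne_zero ht) hpt
  have he1 : 1 ≤ e := Nat.one_le_iff_ne_zero.2 he
  have hd1 : e ^ 2 * p + 1 ≤ d := hed
  have h1 : t * e * (e ^ 2 * p + 1) ≤ t * e * d := Nat.mul_le_mul_left _ hd1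
  have h2 : t * e ^ 2 * p ≤ t * e * (e ^ 2 * p) := by
    have : e ^ 2 ≤ e * e ^ 2 := Nat.le_mul_of_pos_left _ he1
    calc t * e ^ 2 * p ≤ t * (e * e ^ 2) * p :=
          Nat.mul_le_mul_right _ (Nat.mul_le_mul_left _ this)
      _ = t * e * (e ^ 2 * p) := by ring
  have h3 : t ≤ t * e ^ 2 := Nat.le_mul_of_pos_right _ (Nat.pos_of_ne_zero (pow_ne_zero 2 he))
  have h3' : t ≤ t * e := Nat.le_mul_of_pos_right _ he1
  have h4 : p * p ≤ t * e ^ 2 * p := Nat.mul_le_mul_right _ (htp.trans h3)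
  rcases hAB with ⟨rfl, rfl, rfl⟩ | ⟨h5, rfl, rfl⟩
  · have h7 : 7 - 3 = 4 := rfl
    rw [h7]
    linarith only [h3, h3', htp, h1, h2]
  · obtain ⟨q, rfl⟩ : ∃ q, p = q + 1 := ⟨p - 1, by omega⟩
    have h7 : q + 1 + 1 - 2 = q := by omega
    rw [h7]
    linarith only [h3, h3', htp, h1, h2, h4, _root_.mul_self_nonneg (↑q + 1 : ℤ)]

theorem num_move {A B p k D : ℕ} (hAB : (p = 3 ∧ A = 3 ∧ B = 7) ∨ (5 ≤ p ∧ A = 2 ∧ B = p + 1))
    (hpk : p ∣ k) (hk : k ≠ 0) (hD : 2 ^ (k - 1) ≤ D) :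
    (B - A) * (k * 1 ^ 2) + B ≤ A * (k * (1 * D)) := by
  have hkp : p ≤ k := Nat.le_of_dvd (Nat.pos_of_ne_zero hk) hpk
  have hkD : k ≤ D := by
    have h1 : k - 1 < 2 ^ (k - 1) := Nat.lt_two_pow_self
    omega
  have h1 : k * k ≤ k * D := Nat.mul_le_mul_left _ hkD
  rw [one_pow, mul_one, one_mul]
  rcases hAB with ⟨rfl, rfl, rfl⟩ | ⟨h5, rfl, rfl⟩
  · have h7 : 7 - 3 = 4 := rfl
    rw [h7]
    nlinarith only [hkD, hkp]
  · obtain ⟨q, rfl⟩ : ∃ q, p = q + 1 := ⟨p - 1, by omega⟩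
    have h7 : q + 1 + 1 - 2 = q := by omega
    rw [h7]
    nlinarith only [h1, hkp]

/-- `p ≥ 5` divides `|S|`. -/
theorem case_good {G : Type u} [Group G] [Finite G] {p : ℕ} (hp : p.Prime) (h3 : 3 ≤ p)
    {M : Subgroup G} [hM : M.Normal] (hMG : M ≤ commutator G) {S : Subgroup G}
    (hSM : S ≤ M) [hsimple : IsSimpleGroup S] (hSna : ¬ IsMulCommutative S)
    (hMS : M ≤ S ⊔ Subgroup.centralizer (S : Set G))
    (hcj : ∀ g : G, cj g S = S ∨ cj g S ≤ Subgroup.centralizer (S : Set G)) (hgood : Good p S) :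
    (p + 1 - 2) * Nat.card (G →* ℂˣ) ≤ Wt (fun d => 2 * d - (p + 1)) p G := by
  classical
  have := Fintype.ofFinite G
  have := Fintype.ofFinite M
  obtain ⟨α, c, hpα, hc, hle⟩ := hgood
  have hα : charDegree (α : S → ℂ) ≠ 1 := by
    intro h1
    rw [h1] at hpα
    exact hp.one_lt.not_ge (Nat.le_of_dvd one_pos hpα)
  obtain ⟨π, hπ1, hπ2⟩ := exists_proj hMS (fun z hz => eq_one_of_central hSna hz)
  obtain ⟨T, hTN, e, hMT, hiff, hB, he0, he, hcount⟩ := nab_gen M hMG hSna hSM hcj π hπ1 hπ2 α hα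
    (fun _ e => e ≤ c) (fun B hB hinv => hc B hB hinv)
  refine bound_of_count (Dvd.dvd.mul_left (Dvd.dvd.mul_left hpα _) _) _ hcount ?_
  exact num_good h3 Subgroup.index_ne_zero_of_finite he0
    (le_trans (Nat.mul_le_mul_right _ (Nat.succ_le_succ he)) hle)

/-- Two distinct irreducible characters of the same degree `d` of `M` are not both constituents of a
character of degree `d`. -/
theorem not_both {M : Type u} [Group M] [Finite M] [Fintype M] {ρ θ θ' : M → ℂ} (hρ : IsCharacter M ρ)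
    (hθ : IsIrrCharacter M θ) (hθ' : IsIrrCharacter M θ') (hne : θ ≠ θ') {d : ℕ}
    (hρ1 : ρ 1 = d) (h1 : θ 1 = d) (h1' : θ' 1 = d) (h : classInner ρ θ ≠ 0)
    (h' : classInner ρ θ' ≠ 0) : False := by
  have h2 := Cfsg.Agent.OddOrderCharacters.Clifford.isCharacter_sub_irr hρ hθ h
  have h3 : classInner (ρ - θ) θ' ≠ 0 := by
    rw [classInner_sub_left, classInner_irr_ne hθ hθ' hne, sub_zero]
    exact h'
  have h4 : (ρ - θ) 1 = ((0 : ℕ) : ℂ) := by
    show ρ 1 - θ 1 = _
    rw [hρ1, h1, sub_self, Nat.cast_zero]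
  have h5 := degree_le_of_constituent h2 hθ' h3 h4 h1'
  obtain ⟨n, hn0, hn⟩ := isIrr_apply_one hθ'
  rw [h1'] at hn
  have h6 : d = n := by exact_mod_cast hn
  omega

/-- `3` divides `|S|`. -/
theorem case_three {G : Type u} [Group G] [Finite G]
    (hOL : ∀ (S : Type u) [Group S] [Finite S] [IsSimpleGroup S],
      ¬ IsMulCommutative S → Cfsg.Agent.H954.OutDeg.OL S)
    {M : Subgroup G} [hM : M.Normal] (hMG : M ≤ commutator G) {S : Subgroup G}
    (hSM : S ≤ M) [hsimple : IsSimpleGroup S] (hSna : ¬ IsMulCommutative S)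
    (hMS : M ≤ S ⊔ Subgroup.centralizer (S : Set G))
    (hcj : ∀ g : G, cj g S = S ∨ cj g S ≤ Subgroup.centralizer (S : Set G))
    (hIM : ∃ α : IrrCharacter S, 3 ∣ charDegree (α : S → ℂ)) :
    (7 - 3) * Nat.card (G →* ℂˣ) ≤ Wt (fun d => 3 * d - 7) 3 G := by
  classical
  have := Fintype.ofFinite G
  have := Fintype.ofFinite M
  obtain ⟨π, hπ1, hπ2⟩ := exists_proj hMS (fun z hz => eq_one_of_central hSna hz)
  have hπs : Function.Surjective π := fun s => ⟨⟨s, hSM s.2⟩, hπ2 _ _ rfl⟩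
  -- the data for one character
  have key : ∀ α : IrrCharacter S, 3 ∣ charDegree (α : S → ℂ) → ∃ (T : Subgroup G) (e : ℕ),
      (∀ t, t ∈ T ↔ ∃ h : t ∈ Subgroup.normalizer (S : Set G), ∀ s : S,
        (α : S → ℂ) ⟨t * s * t⁻¹, (Subgroup.mem_normalizer_iff.1 h s).1 s.2⟩ = (α : S → ℂ) s) ∧
      e ≠ 0 ∧ e ^ 2 < charDegree (α : S → ℂ) ∧
      Nat.card (G →* ℂˣ) ≤ T.index * e ^ 2 * Nat.card {χ : IrrCharacter G //
        charDegree (χ : G → ℂ) = T.index * (e * charDegree (α : S → ℂ)) ∧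
        classInner (res M χ) ((α : S → ℂ) ∘ π) ≠ 0} := by
    intro α h3α
    have hα : charDegree (α : S → ℂ) ≠ 1 := by
      intro h1
      rw [h1] at h3α
      exact absurd (Nat.le_of_dvd one_pos h3α) (by norm_num)
    obtain ⟨T, hTN, e, hMT, hiff, hB, he0, he, hcount⟩ := nab_gen M hMG hSna hSM hcj π hπ1 hπ2 α hα
      (fun B e => e ^ 2 ≤ (MulAut.conj : S →* MulAut S).range.relIndex B)
      (fun B hB hinv => exists_over_sq hSna α B hB hinv)
    refine ⟨T, e, hiff, he0, ?_, hcount⟩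
    have h1 := Subgroup.relIndex_mul_index hB
    have h2 : 1 ≤ (img hTN).index := Nat.one_le_iff_ne_zero.2 Subgroup.index_ne_zero_of_finite
    calc e ^ 2 ≤ (MulAut.conj : S →* MulAut S).range.relIndex (img hTN) := he
      _ = (MulAut.conj : S →* MulAut S).range.relIndex (img hTN) * 1 := (mul_one _).symm
      _ ≤ (MulAut.conj : S →* MulAut S).range.relIndex (img hTN) * (img hTN).index :=
        Nat.mul_le_mul_left _ h2
      _ = (MulAut.conj : S →* MulAut S).range.index := h1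
      _ = Nat.card (Cfsg.Out S) := rfl
      _ < charDegree (α : S → ℂ) := hOL S hSna α hα
  obtain ⟨α, h3α⟩ := hIM
  obtain ⟨T, e, hiff, he0, he, hcount⟩ := key α h3α
  by_cases hbig : 6 ≤ charDegree (α : S → ℂ) ∨ 2 ≤ T.index
  · exact bound_of_count (Dvd.dvd.mul_left (Dvd.dvd.mul_left h3α _) _) _ hcount
      (num_three_dvd Subgroup.index_ne_zero_of_finite he0 he h3α hbig)
  · push Not at hbig
    obtain ⟨hd6, ht2⟩ := hbig
    have hpos : 0 < charDegree (α : S → ℂ) := Cfsg.Agent.Blocks.Basic.charDegree_pos α.2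
    have hd3 : charDegree (α : S → ℂ) = 3 := by omega
    have ht1 : T.index = 1 := by
      have : T.index ≠ 0 := Subgroup.index_ne_zero_of_finite
      omega
    have hTtop : T = ⊤ := Subgroup.index_eq_one.1 ht1
    have he1 : ∀ e : ℕ, e ≠ 0 → e ^ 2 < 3 → e = 1 := by
      intro e h0 h
      by_contra hne
      have h2 : 2 ≤ e := by omega
      nlinarith only [h, h2]
    have he' : e = 1 := he1 e he0 (by rw [hd3] at he; exact he)
    obtain ⟨α', hd3', hne, hval⟩ := Cfsg.Agent.H272.Gal3.exists_galois_three hSna α hd3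
    obtain ⟨T', e₂, hiff', he0', he2, hcount'⟩ := key α' (by rw [hd3'])
    have hT'top : T' = ⊤ := by
      rw [eq_top_iff]
      intro g _
      obtain ⟨h, h'⟩ := (hiff g).1 (hTtop ▸ Subgroup.mem_top g)
      exact (hiff' g).2 ⟨h, fun s => hval _ _ (h' s)⟩
    have he2' : e₂ = 1 := he1 e₂ he0' (by rw [hd3'] at he2; exact he2)
    rw [he', hd3, ht1] at hcount
    rw [he2', hd3', hT'top, Subgroup.index_top] at hcount'
    have hθ : IsIrrCharacter M ((α : S → ℂ) ∘ π) := isIrr_comp π hπs α.2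
    have hθ' : IsIrrCharacter M ((α' : S → ℂ) ∘ π) := isIrr_comp π hπs α'.2
    have hθne : ((α : S → ℂ) ∘ π) ≠ ((α' : S → ℂ) ∘ π) := by
      intro h
      apply hne
      apply Subtype.ext
      funext s
      obtain ⟨m, rfl⟩ := hπs s
      exact (congrFun h m).symm
    set X := {χ : IrrCharacter G // charDegree (χ : G → ℂ) = 1 * (1 * 3) ∧
        classInner (res M χ) ((α : S → ℂ) ∘ π) ≠ 0} with hX
    set X' := {χ : IrrCharacter G // charDegree (χ : G → ℂ) = 1 * (1 * 3) ∧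
        classInner (res M χ) ((α' : S → ℂ) ∘ π) ≠ 0} with hX'
    have hfG : Finite (IrrCharacter G) := finite_irr
    have hsum : Nat.card X + Nat.card X' ≤ Nat.card {χ : IrrCharacter G //
        charDegree (χ : G → ℂ) = 3 ∧ True} := by
      rw [← Nat.card_sum]
      let F : X ⊕ X' → {χ : IrrCharacter G // charDegree (χ : G → ℂ) = 3 ∧ True} :=
        Sum.elim (fun x => ⟨x.1, x.2.1, trivial⟩) (fun x => ⟨x.1, x.2.1, trivial⟩)
      refine Nat.card_le_card_of_injective F ?_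
      have hdis : ∀ (x : X) (y : X'), x.1 ≠ y.1 := by
        intro x y hxy
        have h1 := x.2.2
        have h2 := y.2.2
        rw [← hxy] at h2
        have hch : IsCharacter M (res M (x.1 : G → ℂ)) :=
          Cfsg.Agent.OddOrderCharacters.IndRes.isCharacter_res M (isIrr_isCharacter x.1.2)
        refine not_both hch hθ hθ' hθne (d := 3) ?_ ?_ ?_ h1 h2
        · show (x.1 : G → ℂ) 1 = _
          rw [Cfsg.Agent.Blocks.Basic.irr_one_eq_charDegree x.1.2, x.2.1]
        · show (α : S → ℂ) (π 1) = _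
          rw [map_one, Cfsg.Agent.Blocks.Basic.irr_one_eq_charDegree α.2, hd3]
        · show (α' : S → ℂ) (π 1) = _
          rw [map_one, Cfsg.Agent.Blocks.Basic.irr_one_eq_charDegree α'.2, hd3']
      rintro (x | x) (y | y) h
      · exact congrArg Sum.inl (Subtype.ext (congrArg (fun z : {χ : IrrCharacter G //
          charDegree (χ : G → ℂ) = 3 ∧ True} => z.1) h))
      · exact absurd (congrArg Subtype.val h) (hdis x y)
      · exact absurd (congrArg Subtype.val h).symm (hdis y x)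
      · exact congrArg Sum.inr (Subtype.ext (congrArg (fun z : {χ : IrrCharacter G //
          charDegree (χ : G → ℂ) = 3 ∧ True} => z.1) h))
    have h9 := card_mul_le (w := fun d => 3 * d - 7) (p := 3) (d := 3) (G := G) (dvd_refl 3)
      (fun _ => True)
    have h10 : 3 * 3 - 7 = 2 := rfl
    have h11 : Nat.card {χ : IrrCharacter G // charDegree (χ : G → ℂ) = 3 ∧ True} * 2 ≤
      Wt (fun d => 3 * d - 7) 3 G := h9
    rw [one_pow, one_mul, one_mul] at hcount hcount'
    have h12 : (7 - 3) * Nat.card (G →* ℂˣ) = 4 * Nat.card (G →* ℂˣ) := rfl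
    rw [h12]
    omega

end Cfsg.Agent.H404.Avg
end

-- part: H404/Avg/OddMain
section
/-!
# The reduction of S4831 to simple groups, `p` odd (helper404)
-/

set_option autoImplicit false
set_option linter.unusedSectionVars false

namespace Cfsg.Agent.H404.Avg

open Cfsg
open scoped ComplexConjugate commutatorElement
open Cfsg.Agent.Characters.Core
open Cfsg.Agent.H612.MinNormal (cj)
open Cfsg.Agent.H685.Acd (IMp OutDeg exists_min_normal frattini num_of_min card_hom_quotient)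
open Cfsg.Agent.H429.Reg

universe u v

/-- The subgroup generated by the elements of `p`-power order. -/
def pX (p : ℕ) (G : Type u) [Group G] : Subgroup G :=
  Subgroup.closure {g : G | ∃ k : ℕ, orderOf g = p ^ k}

instance pX_normal (p : ℕ) (G : Type u) [Group G] : (pX p G).Normal := by
  refine ⟨fun n hn g => ?_⟩
  have h1 : pX p G ≤ (pX p G).comap (MulAut.conj g).toMonoidHom := by
    unfold pX
    rw [Subgroup.closure_le]
    rintro x ⟨k, hk⟩
    refine Subgroup.subset_closure ⟨k, ?_⟩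
    rw [← hk]
    exact orderOf_injective (MulAut.conj g).toMonoidHom (MulAut.conj g).injective x
  exact h1 hn

theorem pX_map_le {p : ℕ} (hp : p.Prime) {G : Type u} {H : Type v} [Group G] [Group H] (f : G →* H) :
    (pX p G).map f ≤ pX p H := by
  unfold pX
  rw [MonoidHom.map_closure, Subgroup.closure_le]
  rintro _ ⟨x, ⟨k, hk⟩, rfl⟩
  have h1 : orderOf (f x) ∣ p ^ k := hk ▸ orderOf_map_dvd f x
  obtain ⟨j, -, hj⟩ := (Nat.dvd_prime_pow hp).1 h1
  exact Subgroup.subset_closure ⟨j, hj⟩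

/-- Gluing: the image in `G / N` and the intersection with `N`. -/
theorem solvable_glue {G : Type u} [Group G] (X N : Subgroup G) [N.Normal]
    (h1 : Group.IsSolvable ↥(X.map (QuotientGroup.mk' N))) (h2 : Group.IsSolvable ↥(X ⊓ N)) :
    Group.IsSolvable ↥X := by
  refine Group.isSolvable_of_ker_le_range (Subgroup.inclusion (inf_le_left : X ⊓ N ≤ X))
    ((QuotientGroup.mk' N).subgroupMap X) ?_
  intro x hx
  have h3 : QuotientGroup.mk' N (x : G) = 1 := congrArg Subtype.val (MonoidHom.mem_ker.1 hx)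
  have h4 : (x : G) ∈ N := by
    rw [← QuotientGroup.ker_mk' N]
    exact MonoidHom.mem_ker.2 h3
  exact ⟨⟨x, x.2, h4⟩, rfl⟩

theorem num_glue {A B p L D b : ℕ}
    (hAB : (p = 3 ∧ A = 3 ∧ B = 7) ∨ (5 ≤ p ∧ A = 2 ∧ B = p + 1)) (hL : p ≤ L) (hD : p ≤ D)
    (hb : p ≤ b) : (B - A) * (b * (L + 1) - 2 * L) ≤ (L - 1) * (A * (D * b) - B) := by
  obtain ⟨l, rfl⟩ : ∃ l, L = l + 1 := ⟨L - 1, by rcases hAB with h | h <;> omega⟩
  have h1 : l + 1 - 1 = l := by omega
  rw [h1, Nat.mul_sub, Nat.mul_sub, Nat.sub_le_iff_le_add]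
  have h2 : l * B ≤ l * (A * (D * b)) := by
    apply Nat.mul_le_mul_left
    have h3 : p * p ≤ D * b := Nat.mul_le_mul hD hb
    rcases hAB with ⟨rfl, rfl, rfl⟩ | ⟨h5, rfl, rfl⟩
    · omega
    · nlinarith only [h3, h5]
  have h4 : l * (A * (D * b)) - l * B + (B - A) * (2 * (l + 1)) =
      l * (A * (D * b)) + (B - A) * (2 * (l + 1)) - l * B := by omega
  rw [h4]
  apply Nat.le_sub_of_add_le
  have hDb : p * b ≤ D * b := Nat.mul_le_mul_right _ hD
  rcases hAB with ⟨rfl, rfl, rfl⟩ | ⟨h5, rfl, rfl⟩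
  · have h7 : 7 - 3 = 4 := rfl
    rw [h7]
    have h8 : l * (3 * (3 * b)) ≤ l * (3 * (D * b)) :=
      Nat.mul_le_mul_left _ (Nat.mul_le_mul_left _ hDb)
    have h9 : 2 * b ≤ l * b := Nat.mul_le_mul_right _ (by omega)
    linarith only [h8, h9]
  · obtain ⟨q, rfl⟩ : ∃ q, p = q + 1 := ⟨p - 1, by omega⟩
    have h7 : q + 1 + 1 - 2 = q := by omega
    rw [h7]
    have h8 : l * (2 * ((q + 1) * b)) ≤ l * (2 * (D * b)) :=
      Nat.mul_le_mul_left _ (Nat.mul_le_mul_left _ hDb)
    have h9 : q * b ≤ l * b := Nat.mul_le_mul_right _ (by omega)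
    have h10 : 4 * (q * b) ≤ q * (q * b) := Nat.mul_le_mul_right _ (by omega)
    have h11 : q * (q * b) ≤ l * (q * b) := Nat.mul_le_mul_right _ (by omega)
    nlinarith only [h5, h8, h10, h11]

/-- The Sylow `p`-subgroups of `G / M` are not normal. -/
theorem case_not_normal {G : Type u} [Group G] [Finite G] {p : ℕ} [hp : Fact p.Prime] {A B : ℕ}
    (hAB : (p = 3 ∧ A = 3 ∧ B = 7) ∨ (5 ≤ p ∧ A = 2 ∧ B = p + 1)) (hIM : IMp.{u} p)
    (hOut : OutDeg.{u}) {M : Subgroup G} [hM : M.Normal] (hMG : M ≤ commutator G)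
    (χ : IrrCharacter G) (hχM : IsIrrCharacter M (fun m : M => (χ : G → ℂ) m))
    (hpχ : p ≤ charDegree (χ : G → ℂ)) (Q : Sylow p (G ⧸ M)) (hQ : ¬ (Q : Subgroup (G ⧸ M)).Normal) :
    (B - A) * Nat.card (G →* ℂˣ) ≤ Wt (fun d => A * d - B) p G := by
  classical
  have hp2 := hp.out.two_le
  have h3 : 3 ≤ p := by rcases hAB with h | h <;> omega
  -- the least `ℓ`
  have hex : ∃ m : ℕ, 0 < m ∧ IsPrimePow (m * p + 1) := by
    have hcop : Nat.Coprime 2 p := by
      rw [Nat.coprime_primes Nat.prime_two hp.out]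
      omega
    have h1 : p ∣ 2 ^ (p - 1) - 1 := by
      have h2 := Nat.ModEq.pow_totient hcop
      rw [Nat.totient_prime hp.out] at h2
      exact (Nat.modEq_iff_dvd' Nat.one_le_two_pow).1 h2.symm
    obtain ⟨m, hm⟩ := h1
    have h4 : 2 ≤ 2 ^ (p - 1) := by
      calc 2 = 2 ^ 1 := rfl
        _ ≤ _ := Nat.pow_le_pow_right (by norm_num) (by omega)
    refine ⟨m, ?_, ?_⟩
    · rcases Nat.eq_zero_or_pos m with h0 | h0
      · rw [h0, mul_zero] at hm
        omega
      · exact h0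
    · have h5 : m * p + 1 = 2 ^ (p - 1) := by
        rw [mul_comm, ← hm]
        omega
      rw [h5]
      exact Nat.prime_two.isPrimePow.pow (by omega)
  obtain ⟨ℓ, ⟨hℓ, -⟩, hmin⟩ : ∃ ℓ, (0 < ℓ ∧ IsPrimePow (ℓ * p + 1)) ∧
      ∀ m : ℕ, 0 < m → m < ℓ → ¬ IsPrimePow (m * p + 1) :=
    ⟨Nat.find hex, Nat.find_spec hex, fun m hm hlt h => Nat.find_min hex hlt ⟨hm, h⟩⟩
  set L := ℓ * p with hL
  have hpL : p ≤ L := Nat.le_mul_of_pos_left _ hℓ
  have h1 := Cfsg.Agent.H685.Acd.main (num_of_min hp.out hℓ hmin) hIM hOut (Nat.card (G ⧸ M))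
    (G ⧸ M) le_rfl Q hQ
  rw [card_hom_quotient G M hMG, ← hL, W_eq_Wt] at h1
  have h2 := Wt_gallagher (w := fun d => A * d - B) (p := p) (QuotientGroup.mk' M)
    (QuotientGroup.mk'_surjective M) M (fun k hk => (QuotientGroup.eq_one_iff k).2 hk) χ hχM
  have h4 : Wt (fun d => (B - A) * (d * (L + 1) - 2 * L)) p (G ⧸ M) ≤
      Wt (fun b => (L - 1) * (A * (charDegree (χ : G → ℂ) * b) - B)) p (G ⧸ M) :=
    Wt_mono _ fun d hd0 hpd => num_glue hAB hpL hpχ (Nat.le_of_dvd hd0 hpd)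
  rw [Wt_mul, Wt_mul] at h4
  have h5 : 0 < L - 1 := by omega
  refine Nat.le_of_mul_le_mul_left ?_ h5
  calc (L - 1) * ((B - A) * Nat.card (G →* ℂˣ)) = (B - A) * ((L - 1) * Nat.card (G →* ℂˣ)) := by
        ring
    _ ≤ (B - A) * Wt (fun d => d * (L + 1) - 2 * L) p (G ⧸ M) := Nat.mul_le_mul_left _ h1
    _ ≤ (L - 1) * Wt (fun b => A * (charDegree (χ : G → ℂ) * b) - B) p (G ⧸ M) := h4
    _ ≤ _ := Nat.mul_le_mul_left _ h2

/-- The facts on simple groups used for the prime `p`. -/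
structure Inp (p : ℕ) : Prop where
  im : IMp.{u} p
  ol : ∀ (S : Type u) [Group S] [Finite S] [IsSimpleGroup S], ¬ IsMulCommutative S →
    Cfsg.Agent.H954.OutDeg.OL S
  ol0 : ∀ (S : Type) [Group S] [Finite S] [IsSimpleGroup S], ¬ IsMulCommutative S →
    Cfsg.Agent.H954.OutDeg.OL S
  out : OutDeg.{u}
  ext : Cfsg.Agent.H671.H5.FactExt.{0}
  good : 5 ≤ p → ∀ (S : Type u) [Group S] [Finite S] [IsSimpleGroup S], ¬ IsMulCommutative S →
    p ∣ Nat.card S → Good p S

theorem step {p : ℕ} [hp : Fact p.Prime] {A B : ℕ}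
    (hAB : (p = 3 ∧ A = 3 ∧ B = 7) ∨ (5 ≤ p ∧ A = 2 ∧ B = p + 1)) (hI : Inp.{u} p)
    {G : Type u} [Group G] [Finite G] (hpG : p ∣ Nat.card G) {M : Subgroup G} [hM : M.Normal]
    (hM0 : M ≠ ⊥) (hMG : M ≤ commutator G)
    (hmin : ∀ K : Subgroup G, K.Normal → K ≤ M → K = ⊥ ∨ K = M)
    (hna : ¬ ∀ a ∈ M, ∀ b ∈ M, a * b = b * a) (hC : Subgroup.centralizer (M : Set G) = ⊥) :
    (B - A) * Nat.card (G →* ℂˣ) ≤ Wt (fun d => A * d - B) p G := by
  classical
  have h3 : 3 ≤ p := by rcases hAB with h | h <;> omega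
  have hna' : ¬ IsMulCommutative M := by
    intro h
    apply hna
    intro a ha b hb
    exact congrArg Subtype.val (h.is_comm.comm (⟨a, ha⟩ : M) ⟨b, hb⟩)
  obtain ⟨S, hSM, hMN, hsimple, hSna, hMS, hcj⟩ :=
    Cfsg.Agent.H612.MinNormal.exists_factor M hM0 hmin hna
  obtain ⟨T, iT, iT', k, hk, hT, ⟨e⟩⟩ := Cfsg.Agent.H671.Frame.minNormal_pi hM hM0 hmin hna'
  have i₁ : Fin k := ⟨0, hk⟩
  have hTf : Finite T := by
    have h1 : Finite (Fin k → T) := Finite.of_equiv M e.toEquiv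
    exact Finite.of_injective (fun (t : T) (_ : Fin k) => t) fun a b h => congrFun h i₁
  obtain ⟨i, hi⟩ := factor_coord hSM hMN hT e
  obtain ⟨E⟩ := factor_equiv e hSM hi
  by_cases hpM : p ∣ Nat.card M
  · -- `p` divides `|S|`
    have hpS : p ∣ Nat.card S := by
      rw [Nat.card_congr e.toEquiv, Nat.card_fun, Nat.card_eq_fintype_card (α := Fin k),
        Fintype.card_fin, ← Nat.card_congr E.toEquiv] at hpM
      exact hp.out.dvd_of_dvd_pow hpM
    rcases hAB with ⟨rfl, rfl, rfl⟩ | ⟨h5, rfl, rfl⟩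
    · exact case_three hI.ol hMG hSM hSna hMS hcj (hI.im S hSna hpS)
    · exact case_good hp.out h3 hMG hSM hSna hMS hcj (hI.good h5 S hSna hpS)
  · have hpS : ¬ p ∣ Nat.card S := fun h => hpM (h.trans (Subgroup.card_dvd_of_le hSM))
    by_cases hq : ∀ Q : Sylow p (G ⧸ M), (Q : Subgroup (G ⧸ M)).Normal
    · obtain ⟨P⟩ : Nonempty (Sylow p G) := inferInstance
      have hF := _root_.Cfsg.Agent.H685.Acd.frattini P M hq
      by_cases hmv : ∃ x ∈ P, ∃ j, gp hT e x j ≠ j
      · obtain ⟨x, hx, j, hj⟩ := hmv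
        have hpk := dvd_of_moves hT e hmin P hF hx hj
        obtain ⟨α, hα, hext⟩ := hI.ext T hT
        have hpk' := Nat.le_of_dvd hk hpk
        obtain ⟨D, Q, hD, hcount⟩ := Cfsg.Agent.H588.Acd.case_move hmin hMG hT (by omega) e hα hext
        refine bound_of_count (t := k) (e := 1) (d := D) (Dvd.dvd.mul_right hpk _) Q ?_
          (num_move hAB hpk (by omega) hD)
        rw [one_pow, mul_one, one_mul]
        exact hcount
      · push Not at hmv
        obtain ⟨t, e', d, Q, hpt, ht, he, hed, hcount⟩ := case_fix hI.ol P hMG hmin hC hpG hF hSM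
          hSna hMS hcj hpS (fun x hx g => by
            apply mem_normalizer_of_fix hT e hSM hi
            have h1 : gp hT e x = 1 := Equiv.ext (hmv x hx)
            rw [map_mul, map_mul, h1, mul_one, map_inv, mul_inv_cancel]
            rfl)
        exact bound_of_count (Dvd.dvd.mul_right hpt _) Q hcount (num_fix hAB hpt ht he hed)
    · push Not at hq
      obtain ⟨Q, hQ⟩ := hq
      obtain ⟨χ, hχM, hpχ⟩ := Cfsg.Agent.H588.Acd.ext_all hI.ext hI.ol0 M hM0 hmin hna' hC hp.out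
        hpM hpG
      exact case_not_normal hAB hI.im hI.out hMG χ hχM hpχ Q hQ

/-- **The main theorem, `p` odd.** -/
theorem odd_main {p : ℕ} [hp : Fact p.Prime] {A B : ℕ}
    (hAB : (p = 3 ∧ A = 3 ∧ B = 7) ∨ (5 ≤ p ∧ A = 2 ∧ B = p + 1)) (hI : Inp.{u} p) :
    ∀ (n : ℕ) (G : Type u) [Group G] [Finite G], Nat.card G ≤ n →
      ¬ Group.IsSolvable ↥(pX p G) →
      (B - A) * Nat.card (G →* ℂˣ) ≤ Wt (fun d => A * d - B) p G := by
  intro n
  induction n with
  | zero =>
    intro G _ _ hn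
    exact absurd hn (by have := Nat.card_pos (α := G); omega)
  | succ n ih =>
    intro G _ _ hn hX
    by_cases hN : ∃ N : Subgroup G, ∃ _ : N.Normal, N ≠ ⊥ ∧ ¬ Group.IsSolvable ↥(pX p (G ⧸ N))
    · obtain ⟨N, hNn, hN0, hNX⟩ := hN
      have hlt : Nat.card (G ⧸ N) ≤ n := by
        have h1 := Subgroup.card_mul_index N
        have h2 : 1 < Nat.card N := by
          rcases Nat.lt_or_ge 1 (Nat.card N) with h | h
          · exact h
          · exact absurd (Subgroup.card_eq_one.1 (le_antisymm h Nat.card_pos)) hN0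
        have h3 : 0 < N.index := Nat.pos_of_ne_zero Subgroup.index_ne_zero_of_finite
        rw [← Subgroup.index_eq_card]
        nlinarith
      have h1 := ih (G ⧸ N) hlt hNX
      have h2 := Wt_scale (w := fun d => A * d - B) (p := p) (QuotientGroup.mk' N)
        (QuotientGroup.mk'_surjective N)
      have hfin := Cfsg.Agent.H685.Acd.finite_hom (G ⧸ N)
      have h3 : 0 < Nat.card (G ⧸ N →* ℂˣ) := Nat.card_pos
      refine Nat.le_of_mul_le_mul_left ?_ h3
      calc Nat.card (G ⧸ N →* ℂˣ) * ((B - A) * Nat.card (G →* ℂˣ))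
          = Nat.card (G →* ℂˣ) * ((B - A) * Nat.card (G ⧸ N →* ℂˣ)) := by ring
        _ ≤ Nat.card (G →* ℂˣ) * Wt (fun d => A * d - B) p (G ⧸ N) := Nat.mul_le_mul_left _ h1
        _ ≤ _ := h2
    · push Not at hN
      have hsol : ∀ (N : Subgroup G) [N.Normal], N ≠ ⊥ →
          Group.IsSolvable ↥((pX p G).map (QuotientGroup.mk' N)) := by
        intro N hNn hN0
        have h1 : Group.IsSolvable ↥(pX p (G ⧸ N)) := by
          by_contra h
          exact h (hN N hNn hN0)
        exact Group.isSolvable_of_isSolvable_injective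
          (Subgroup.inclusion_injective (pX_map_le hp.out (QuotientGroup.mk' N)))
      have hX0 : pX p G ≠ ⊥ := by
        intro h
        apply hX
        rw [h]
        infer_instance
      obtain ⟨M, hM, hM0, hMX, hmin⟩ := exists_min_normal (pX p G) hX0
      have hMns : ¬ Group.IsSolvable ↥M := by
        intro h
        apply hX
        refine solvable_glue (pX p G) M (hsol M hM0) ?_
        exact Group.isSolvable_of_isSolvable_injective
          (Subgroup.inclusion_injective (inf_le_right : pX p G ⊓ M ≤ M))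
      have hna : ¬ ∀ a ∈ M, ∀ b ∈ M, a * b = b * a := by
        intro h
        apply hMns
        have h1 : IsMulCommutative M := ⟨⟨fun a b => Subtype.ext (h a a.2 b b.2)⟩⟩
        exact Group.isSolvable_of_comm fun a b => h1.is_comm.comm a b
      have hMM : ⁅M, M⁆ = M := by
        rcases hmin ⁅M, M⁆ inferInstance (Subgroup.commutator_le_left M M) with h | h
        · exfalso
          apply hna
          intro a ha b hb
          have h1 : ⁅a, b⁆ ∈ ⁅M, M⁆ := Subgroup.commutator_mem_commutator ha hb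
          rw [h, Subgroup.mem_bot, commutatorElement_eq_one_iff_mul_comm] at h1
          exact h1
        · exact h
      have hMG : M ≤ commutator G := by
        rw [← hMM]
        exact Subgroup.commutator_mono le_top le_top
      have hC : Subgroup.centralizer (M : Set G) = ⊥ := by
        by_contra hC0
        apply hMns
        have hMC : M ⊓ Subgroup.centralizer (M : Set G) = ⊥ := by
          rcases hmin (M ⊓ Subgroup.centralizer (M : Set G)) inferInstance inf_le_left with h | h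
          · exact h
          · exfalso
            apply hna
            intro a ha b hb
            have h1 : a ∈ Subgroup.centralizer (M : Set G) := by
              rw [← h] at ha
              exact ha.2
            exact (Subgroup.mem_centralizer_iff.1 h1 b hb).symm
        have h1 : Group.IsSolvable ↥(M.map (QuotientGroup.mk' (Subgroup.centralizer (M : Set G)))) := by
          have h2 := hsol (Subgroup.centralizer (M : Set G)) hC0
          exact Group.isSolvable_of_isSolvable_injective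
            (Subgroup.inclusion_injective (Subgroup.map_mono (f := QuotientGroup.mk'
              (Subgroup.centralizer (M : Set G))) hMX))
        refine solvable_glue M (Subgroup.centralizer (M : Set G)) h1 ?_
        rw [hMC]
        infer_instance
      have hpG : p ∣ Nat.card G := by
        by_contra hpG
        apply hX0
        rw [eq_bot_iff]
        unfold pX
        rw [Subgroup.closure_le]
        rintro x ⟨k, hk⟩
        rw [SetLike.mem_coe, Subgroup.mem_bot, ← orderOf_eq_one_iff, hk]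
        rcases Nat.eq_zero_or_pos k with h0 | h0
        · rw [h0, pow_zero]
        · exfalso
          apply hpG
          have h1 : p ^ k ∣ Nat.card G := hk ▸ orderOf_dvd_natCard x
          exact (dvd_pow_self p h0.ne').trans h1
      exact step hAB hI hpG hM0 hMG hmin hna hC

end Cfsg.Agent.H404.Avg
end
end

-- part: H404/Avg/Final
section
prune_inst 0x8000100020000000002800002000000000000000000800000000000000000000000008000000000000000040020000000008000000000040000000001001000000000000191000008000208000000008000000000000000000000000000010000000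
set_option linter.all false
open scoped Cfsg.Agent.FastGrp

-- part: H595/AvgTwoPsi
section
/-!
# A character over a character of a simple factor of a chief factor (helper595, for S4831)
-/

set_option autoImplicit false
set_option linter.unusedSectionVars false

namespace Cfsg.Agent.H595.AvgTwo

open Cfsg
open scoped ComplexConjugate commutatorElement
open Cfsg.Agent.Characters.Core
open Cfsg.Agent.H685.Acd
open Cfsg.Agent.OddOrderCharacters.NormalInduced (conjFn)
open Cfsg.Agent.OddOrderCharacters.IndRes (res)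
open Cfsg.Agent.OddOrderCharacters.PF9.CliffGen (resTo irr_ind ind_inj isCharacter_resTo inertia
  mem_inertia le_inertia exists_hom_of_ker)
open Cfsg.Agent.H612.MinNormal (cj mem_cj mem_normalizer_iff_cj)

universe u v

/-- The multiplicity in an induced character. -/
theorem inner_ind {G : Type u} [Group G] [Fintype G] (N : Subgroup G) [hN : N.Normal] [Fintype N]
    {θ : N → ℂ} (hθ : IsIrrCharacter N θ) (T : Subgroup G) [Fintype T]
    (hT : ∀ g, g ∈ T ↔ conjFn N θ g = θ) (hNT : N ≤ T) {ψ : T → ℂ} {e : ℂ}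
    (hψ : resTo hNT ψ = e • θ) : classInner (res N (indFun T ψ)) θ = e := by
  classical
  have h4 : res N (indFun T ψ) = (Nat.card T : ℂ)⁻¹ • ∑ x : G, (e • conjFn N θ x⁻¹) := by
    funext n
    show indFun T ψ (n : G) = _
    rw [indFun_apply, Pi.smul_apply, Finset.sum_apply, smul_eq_mul]
    congr 1
    refine Finset.sum_congr rfl fun x _ => ?_
    have h5 : x⁻¹ * (n : G) * x ∈ N := by
      have := hN.conj_mem n n.2 x⁻¹
      simpa only [_root_.inv_inv] using this
    rw [extendByZero_of_mem T ψ (hNT h5)]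
    have h6 := congrFun hψ ⟨x⁻¹ * (n : G) * x, h5⟩
    have h7 : resTo hNT ψ ⟨x⁻¹ * (n : G) * x, h5⟩ = ψ ⟨x⁻¹ * (n : G) * x, hNT h5⟩ := rfl
    rw [← h7, h6]
    show _ * θ _ = _ * θ _
    congr 2
    apply Subtype.ext
    show x⁻¹ * (n : G) * x = x⁻¹ * (n : G) * (x⁻¹)⁻¹
    rw [inv_inv]
  have h5 : ∀ x : G, classInner (e • conjFn N θ x⁻¹) θ = if x ∈ T then e else 0 := by
    intro x
    rw [classInner_smul_left]
    split_ifs with h
    · rw [(hT x⁻¹).1 (T.inv_mem h), classInner_irr_self hθ, mul_one]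
    · have h6 : conjFn N θ x⁻¹ ≠ θ := fun h7 => h (by
        have h8 := (hT x⁻¹).2 h7
        simpa using T.inv_mem h8)
      rw [classInner_irr_ne (Cfsg.Agent.OddOrderCharacters.IndRes.isIrr_conjFn N hθ x⁻¹) hθ
        h6, mul_zero]
  rw [h4, classInner_smul_left, classInner_sum_left, Finset.sum_congr rfl fun x _ => h5 x,
    Finset.sum_ite, Finset.sum_const_zero, add_zero, Finset.sum_const, nsmul_eq_mul,
    Nat.card_eq_fintype_card, Fintype.card_subtype, ← mul_assoc, inv_mul_cancel₀, one_mul]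
  rw [← Fintype.card_subtype]
  exact_mod_cast (Fintype.card_pos (α := T)).ne'

/-- See the module docstring. -/
theorem exists_chi {G Q : Type u} [Group G] [Fintype G] [Group Q] [Finite Q] (f : G →* Q)
    (K : Subgroup G) [hKn : K.Normal] [Fintype K] (M : Subgroup Q)
    (hKM : ∀ k ∈ K, f k ∈ M) (hKM' : ∀ m ∈ M, ∃ k ∈ K, f k = m)
    {S : Subgroup Q} [hsimple : IsSimpleGroup S] (hSna : ¬ IsMulCommutative S) (hSM : S ≤ M)
    (hcj : ∀ g : Q, cj g S = S ∨ cj g S ≤ Subgroup.centralizer (S : Set Q))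
    (π : M →* S) (hπ1 : ∀ (m : M) (x : S), (m : Q) * x * (m : Q)⁻¹ = (π m : Q) * x * (π m : Q)⁻¹)
    (hπ2 : ∀ (m : M) (s : S), (m : Q) = s → π m = s) (α : IrrCharacter S)
    (hα : charDegree (α : S → ℂ) ≠ 1) :
    ∃ (θ : K → ℂ) (χ₀ : G → ℂ) (e : ℕ), IsIrrCharacter K θ ∧ IsIrrCharacter G χ₀ ∧
      classInner (res K χ₀) θ = e ∧ e ≠ 0 ∧ e ^ 2 ≤ (MulAut.conj : S →* MulAut S).range.index ∧
      charDegree θ = charDegree (α : S → ℂ) ∧ ∀ n : K, f n = 1 → θ n = θ 1 := by
  classical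
  let fK : K →* M := (f.comp K.subtype).codRestrict M fun k => hKM k k.2
  have hfK : Function.Surjective fK := by
    intro m
    obtain ⟨k, hk, h⟩ := hKM' m m.2
    exact ⟨⟨k, hk⟩, Subtype.ext h⟩
  have hirrθ : IsIrrCharacter K ((α : S → ℂ) ∘ (π.comp fK)) := isIrr_comp (π.comp fK) (by
    intro s
    obtain ⟨k, hk⟩ := hfK ⟨s, hSM s.2⟩
    refine ⟨k, ?_⟩
    show π (fK k) = s
    rw [hk]
    exact hπ2 _ _ rfl) α.2
  set θ : K → ℂ := (α : S → ℂ) ∘ (π.comp fK) with hθ
  have hθa : ∀ k : K, θ k = (α : S → ℂ) (π (fK k)) := fun k => rfl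
  set T : Subgroup G := inertia K θ with hT
  have hmem : ∀ t, t ∈ T ↔ conjFn K θ t = θ := fun t => Iff.rfl
  have hKT : K ≤ T := le_inertia (isIrr_isClassFunction hirrθ)
  have hθs : ∀ (s : S) (k : G) (h : k ∈ K), f k = s → θ ⟨k, h⟩ = (α : S → ℂ) s := by
    intro s k h hk
    rw [hθa, hπ2 (fK ⟨k, h⟩) s hk]
  have hTel : ∀ t ∈ T, ∀ m : K, θ ⟨t * m * t⁻¹, hKn.conj_mem m m.2 t⟩ = θ m := fun t ht m =>
    congrFun ((hmem t).1 ht) m
  -- `f T` normalizes `S`
  have hTN : ∀ t ∈ T, f t ∈ Subgroup.normalizer (S : Set Q) := by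
    intro t ht
    rw [mem_normalizer_iff_cj]
    rcases hcj (f t) with h | h
    · exact h
    · exfalso
      apply hα
      apply charDegree_eq_one_of_ker α.2
      intro s
      obtain ⟨k, hk, hks⟩ := hKM' s (hSM s.2)
      have h1 := hTel t ht ⟨k, hk⟩
      rw [hθs s k hk hks] at h1
      rw [← h1, hθa]
      refine congrArg (α : S → ℂ) ?_
      apply eq_one_of_central hSna
      intro x
      apply Subtype.ext
      have hft : f (t * k * t⁻¹) = f t * s * (f t)⁻¹ := by
        rw [map_mul, map_mul, map_inv, hks]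
      have h2 : f t * s * (f t)⁻¹ ∈ Subgroup.centralizer (S : Set Q) := h ⟨s, s.2, rfl⟩
      have h3 := Subgroup.mem_centralizer_iff.1 h2 x x.2
      have h4 := hπ1 (fK ⟨t * k * t⁻¹, hKn.conj_mem _ hk t⟩) x
      have h5 : f (t * k * t⁻¹) * x * (f (t * k * t⁻¹))⁻¹ = (x : Q) := by
        rw [hft, ← h3, mul_inv_cancel_right]
      have h6 : (π (fK ⟨t * k * t⁻¹, hKn.conj_mem _ hk t⟩) : Q) * x *
          (π (fK ⟨t * k * t⁻¹, hKn.conj_mem _ hk t⟩) : Q)⁻¹ = x := by
        rw [← h4]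
        exact h5
      exact mul_inv_eq_iff_eq_mul.1 h6
  have hTα : ∀ t (h : t ∈ T) (s : S), (α : S → ℂ) ⟨f t * s * (f t)⁻¹,
      (Subgroup.mem_normalizer_iff.1 (hTN t h) s).1 s.2⟩ = (α : S → ℂ) s := by
    intro t h s
    obtain ⟨k, hk, hks⟩ := hKM' s (hSM s.2)
    have h1 := hTel t h ⟨k, hk⟩
    rw [hθs s k hk hks] at h1
    rw [← h1]
    exact (hθs ⟨f t * s * (f t)⁻¹, (Subgroup.mem_normalizer_iff.1 (hTN t h) s).1 s.2⟩ _
      (hKn.conj_mem _ hk t) (by rw [map_mul, map_mul, map_inv, hks])).symm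
  -- the action on `S`
  let c0 : T →* Subgroup.normalizer (S : Set Q) :=
    (f.comp T.subtype).codRestrict _ fun t => hTN t t.2
  let c : T →* MulAut S := (Subgroup.normalizerMonoidHom S).comp c0
  have hc : ∀ (t : T) (s : S), ((c t s : S) : Q) = f t * s * (f (t : G))⁻¹ := fun t s => rfl
  let B := c.range
  let q : T →* B := c.rangeRestrict
  have hjmem : ∀ s : S, (MulAut.conj s : MulAut S) ∈ B := by
    intro s
    obtain ⟨k, hk, hks⟩ := hKM' s (hSM s.2)
    refine ⟨⟨k, hKT hk⟩, ?_⟩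
    ext x
    rw [hc]
    show f k * x * (f k)⁻¹ = (s : Q) * x * (s : Q)⁻¹
    rw [hks]
  let j : S →* B := (MulAut.conj : S →* MulAut S).codRestrict B hjmem
  have hjv : ∀ s : S, ((j s : B) : MulAut S) = MulAut.conj s := fun s => rfl
  have hjinj : Function.Injective j := by
    intro a b hab
    have h1 : (MulAut.conj a : MulAut S) = MulAut.conj b := by rw [← hjv, ← hjv, hab]
    have h2 : b⁻¹ * a = 1 := by
      apply eq_one_of_central hSna
      intro x
      have h3 : a * x * a⁻¹ = b * x * b⁻¹ := DFunLike.congr_fun h1 x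
      calc b⁻¹ * a * x = b⁻¹ * (a * x * a⁻¹) * a := by group
        _ = b⁻¹ * (b * x * b⁻¹) * a := by rw [h3]
        _ = x * (b⁻¹ * a) := by group
    exact (inv_mul_eq_one.1 h2).symm
  have hconj : ∀ (t : T) (s s' : S), (s' : Q) = f t * s * (f (t : G))⁻¹ →
      q t * j s * (q t)⁻¹ = j s' := by
    intro t s s' hs
    apply Subtype.ext
    ext x
    have hinv : (((c t)⁻¹ : MulAut S) x : Q) = (f (t : G))⁻¹ * x * f t := by
      have h1 : (c t)⁻¹ = c t⁻¹ := (map_inv c t).symm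
      rw [h1, hc]
      simp only [_root_.InvMemClass.coe_inv, _root_.map_inv, _root_.inv_inv]
    show ((c t (s * ((c t)⁻¹ x) * s⁻¹) : S) : Q) = (s' : Q) * x * (s' : Q)⁻¹
    rw [hc]
    show f (t : G) * ((s : Q) * (((c t)⁻¹ : MulAut S) x : Q) * (s : Q)⁻¹) * (f (t : G))⁻¹ = _
    rw [hinv, hs]
    group
  have hqs : Function.Surjective q := c.rangeRestrict_surjective
  have hjn : j.range.Normal := by
    refine ⟨?_⟩
    rintro _ ⟨s, rfl⟩ b
    obtain ⟨t, rfl⟩ := hqs b
    exact ⟨⟨f (t : G) * s * (f (t : G))⁻¹,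
      (Subgroup.mem_normalizer_iff.1 (hTN t t.2) s).1 s.2⟩, (hconj t s _ rfl).symm⟩
  obtain ⟨β, e, hβ, he0, he, hβe⟩ := exists_over_hom j hjinj hjn α.2 (by
    intro b s s' h
    obtain ⟨t, rfl⟩ := hqs b
    rw [hconj t s ⟨f (t : G) * s * (f (t : G))⁻¹,
      (Subgroup.mem_normalizer_iff.1 (hTN t t.2) s).1 s.2⟩ rfl] at h
    rw [hjinj h]
    exact hTα t t.2 s)
  have hidx : j.range.index ≤ (MulAut.conj : S →* MulAut S).range.index := by
    have h1 : j.range = (MulAut.conj : S →* MulAut S).range.subgroupOf B := by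
      ext b
      constructor
      · rintro ⟨s, rfl⟩
        exact ⟨s, (hjv s).symm⟩
      · rintro ⟨s, hs⟩
        exact ⟨s, Subtype.ext ((hjv s).trans hs)⟩
    rw [h1]
    have h2 := Subgroup.relIndex_le_of_le_right (H := (MulAut.conj : S →* MulAut S).range)
      (K := B) (L := ⊤) le_top (by
        rw [Subgroup.relIndex_top_right]
        exact Subgroup.index_ne_zero_of_finite)
    rwa [Subgroup.relIndex_top_right] at h2
  -- the character of `T`
  have hψ : IsIrrCharacter T (β ∘ q) := isIrr_comp q hqs hβ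
  have hres : resTo hKT (β ∘ q) = (e : ℂ) • θ := by
    funext m
    show β (q ⟨m, hKT m.2⟩) = e * (α : S → ℂ) (π (fK m))
    rw [← hβe]
    congr 1
    apply Subtype.ext
    rw [hjv]
    ext x
    exact hπ1 (fK m) x
  have hTf : Fintype T := Fintype.ofFinite _
  have hee : (e : ℂ) ≠ 0 := by exact_mod_cast he0
  refine ⟨θ, indFun T (β ∘ q), e, hirrθ, ?_, inner_ind K hirrθ T hmem hKT hres, he0,
    he.trans hidx, ?_, ?_⟩
  · exact irr_ind hirrθ hmem hKT hψ (by
      rw [hres, classInner_smul_left, classInner_irr_self hirrθ, mul_one]; exact hee)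
  · apply Cfsg.Agent.Blocks.Basic.charDegree_of_eq
    show (α : S → ℂ) (π (fK 1)) = _
    rw [map_one, map_one, Cfsg.Agent.Blocks.Basic.irr_one_eq_charDegree α.2]
  · intro n hn
    have h1 : fK n = 1 := Subtype.ext hn
    rw [hθa, hθa, h1, map_one, map_one, map_one]

end Cfsg.Agent.H595.AvgTwo
end

-- part: H595/AvgTwo
section
/-!
# The case `p = 2` of S4831 (helper595, plan of helper404)

`two_main`: if `O^{2'}(G)` is not solvable, the average degree of the irreducible characters which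
are linear or of even degree is at least `5 / 2`.
-/

set_option autoImplicit false
set_option linter.unusedSectionVars false

namespace Cfsg.Agent.H595.AvgTwo

open Cfsg
open scoped ComplexConjugate
open Cfsg.Agent.Characters.Core
open Cfsg.Agent.OddOrderCharacters.IndRes (res res_apply isCharacter_res)

universe u

section count

variable {G : Type u} [Group G] [Fintype G] (K : Subgroup G) [hKn : K.Normal] [Fintype K]

theorem over_dvd {θ : K → ℂ} (hθ : IsIrrCharacter K θ) {χ : IrrCharacter G} (h : OverP K θ χ) :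
    charDegree θ ∣ charDegree (χ : G → ℂ) := by
  classical
  obtain ⟨m, hm⟩ := classInner_isNat (isCharacter_res K (isIrr_isCharacter χ.2))
    (isIrr_isCharacter hθ)
  have h1 := Cfsg.Agent.CharactersDeep.CliffordSum.restrict_eq_smul_sum K χ.2 hθ h
  have h2 : classInner (fun n : K => (χ : G → ℂ) n) θ = m := hm
  rw [h2] at h1
  have h3 := congrFun h1 1
  have hO1 : ∀ ψ ∈ Finset.univ.image (fun x : G => θ ∘ (MulAut.conjNormal x : MulAut K)),
      ψ 1 = θ 1 := by
    intro ψ hψ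
    obtain ⟨x, -, rfl⟩ := Finset.mem_image.1 hψ
    show θ (MulAut.conjNormal x 1) = θ 1
    rw [map_one]
  rw [Pi.smul_apply, Finset.sum_apply, Finset.sum_congr rfl hO1, Finset.sum_const,
    OneMemClass.coe_one, Cfsg.Agent.Blocks.Basic.irr_one_eq_charDegree χ.2,
    Cfsg.Agent.Blocks.Basic.irr_one_eq_charDegree hθ, nsmul_eq_mul, smul_eq_mul] at h3
  refine ⟨m * (Finset.univ.image (fun x : G => θ ∘ (MulAut.conjNormal x : MulAut K))).card, ?_⟩
  have h4 : ((charDegree (χ : G → ℂ) : ℕ) : ℂ) = ((charDegree θ * (m *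
      (Finset.univ.image (fun x : G => θ ∘ (MulAut.conjNormal x : MulAut K))).card) : ℕ) : ℂ) := by
    rw [h3]
    push_cast
    ring
  exact_mod_cast h4

theorem charDegree_pos (χ : IrrCharacter G) : 0 < charDegree (χ : G → ℂ) := by
  rw [Nat.pos_iff_ne_zero]
  intro h
  have h1 := Cfsg.Agent.Blocks.Basic.irr_one_eq_charDegree χ.2
  rw [h, Nat.cast_zero] at h1
  exact isIrr_apply_one_ne_zero χ.2 h1

theorem kerP_of_linear (hK : ∀ f : K →* ℂˣ, f = 1) {χ : IrrCharacter G}
    (h : charDegree (χ : G → ℂ) = 1) : KerP K χ := by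
  intro k hk
  have h1 := eq_one_of_degree_one hK (isCharacter_res K (isIrr_isCharacter χ.2)) (by
    rw [res_apply, OneMemClass.coe_one, Cfsg.Agent.Blocks.Basic.irr_one_eq_charDegree χ.2, h])
  have h2 := congrFun h1 ⟨k, hk⟩
  have h3 := congrFun h1 1
  rw [res_apply] at h2 h3
  show (χ : G → ℂ) k = (χ : G → ℂ) 1
  rw [show (χ : G → ℂ) k = 1 from h2, show (χ : G → ℂ) 1 = 1 from h3]

open scoped Classical in
theorem count_main (hK : ∀ f : K →* ℂˣ, f = 1) {θ : K → ℂ} (hθ : IsIrrCharacter K θ)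
    {χ₀ : G → ℂ} (h₀ : IsIrrCharacter G χ₀) {e : ℕ} (he : classInner (res K χ₀) θ = e)
    (he0 : e ≠ 0) (hb : 3 * e + 5 ≤ 2 * charDegree θ) (h2 : 2 ∣ charDegree θ)
    (hb4 : 4 ≤ charDegree θ)
    (hθτ : ∀ χ : IrrCharacter G, Two (res K (χ : G → ℂ)) → tau (res K (χ : G → ℂ)) ≠ θ) :
    5 * Nat.card {χ : IrrCharacter G // charDegree (χ : G → ℂ) = 1 ∨ 2 ∣ charDegree (χ : G → ℂ)} ≤
      2 * ∑ᶠ χ : {χ : IrrCharacter G // charDegree (χ : G → ℂ) = 1 ∨ 2 ∣ charDegree (χ : G → ℂ)},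
        charDegree (χ.1 : G → ℂ) := by
  have hfin : Finite (IrrCharacter G) := finite_irr
  let _ : Fintype (IrrCharacter G) := Fintype.ofFinite _
  set d : IrrCharacter G → ℕ := fun χ => charDegree (χ : G → ℂ) with hd
  have hdpos : ∀ χ, 0 < d χ := fun χ => charDegree_pos χ
  set b := charDegree θ with hbdef
  have hov : ∀ χ, OverP K θ χ → b ∣ d χ := fun χ h => over_dvd K hθ h
  have hlin : ∀ χ, d χ = 1 → KerP K χ := fun χ h => kerP_of_linear K hK h
  -- the four counts
  set a : ℤ := ∑ χ : IrrCharacter G, if d χ = 1 then (1 : ℤ) else 0 with ha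
  set n0 : ℤ := ∑ χ : IrrCharacter G, if d χ = 2 ∧ KerP K χ then (1 : ℤ) else 0 with hn0
  set n1 : ℤ := ∑ χ : IrrCharacter G, if d χ = 2 ∧ ¬ KerP K χ then (1 : ℤ) else 0 with hn1
  set nB : ℤ := ∑ χ : IrrCharacter G, if d χ = 4 ∧ ¬ OverP K θ χ then (1 : ℤ) else 0 with hnB
  set A : ℤ := ∑ χ : IrrCharacter G, if OverP K θ χ then (2 * (d χ : ℤ) - 5) else 0 with hA
  have hn0p : 0 ≤ n0 := Finset.sum_nonneg fun χ _ => by split_ifs <;> norm_num
  have hap : 0 ≤ a := Finset.sum_nonneg fun χ _ => by split_ifs <;> norm_num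
  have hnBp : 0 ≤ nB := Finset.sum_nonneg fun χ _ => by split_ifs <;> norm_num
  -- inequality (ii)
  have hii : n1 ≤ 2 * nB := by
    have h1 := card_two_le K hK hθ hθτ
    rw [Nat.card_eq_fintype_card, Nat.card_eq_fintype_card, Fintype.card_subtype,
      Fintype.card_subtype] at h1
    have e1 : n1 = ((Finset.univ.filter fun χ : IrrCharacter G =>
        charDegree (χ : G → ℂ) = 2 ∧ ¬ KerP K χ).card : ℤ) := by
      rw [hn1, Finset.sum_boole]
    have e2 : nB = ((Finset.univ.filter fun χ : IrrCharacter G =>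
        charDegree (χ : G → ℂ) = 4 ∧ ¬ OverP K θ χ).card : ℤ) := by
      rw [hnB, Finset.sum_boole]
    rw [e1, e2]
    exact_mod_cast h1
  -- inequality (i)
  have hi : 3 * (a + 2 * n0) ≤ A := by
    have h1 := star K hθ h₀ he he0
    have h3 : a + 2 * n0 ≤ ((∑ β ∈ Finset.univ.filter (KerP K), charDegree (β : G → ℂ) : ℕ) : ℤ) := by
      rw [ha, hn0, Finset.mul_sum, ← Finset.sum_add_distrib, Finset.sum_filter]
      push_cast
      refine Finset.sum_le_sum fun χ _ => ?_
      have h4 := hdpos χ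
      by_cases hk : KerP K χ
      · rw [if_pos hk]
        simp only [hk, and_true]
        show _ ≤ ((d χ : ℕ) : ℤ)
        split_ifs <;> omega
      · have h5 : d χ ≠ 1 := fun h => hk (hlin χ h)
        rw [if_neg hk, if_neg h5, if_neg (fun h => hk h.2)]
        simp
    have h4 : (2 * (b : ℤ) - 5) * ((∑ χ ∈ Finset.univ.filter (OverP K θ),
        charDegree (χ : G → ℂ) : ℕ) : ℤ) ≤ b * A := by
      rw [hA, Finset.mul_sum, Finset.sum_filter]
      push_cast
      rw [Finset.mul_sum]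
      refine Finset.sum_le_sum fun χ _ => ?_
      by_cases hk : OverP K θ χ
      · rw [if_pos hk, if_pos hk]
        have h5 : b ≤ d χ := Nat.le_of_dvd (hdpos χ) (hov χ hk)
        have h6 : (b : ℤ) ≤ d χ := by exact_mod_cast h5
        show (2 * (b : ℤ) - 5) * (d χ : ℤ) ≤ _
        linarith only [h5]
      · rw [if_neg hk, if_neg hk]
        simp
    have h5 : (b : ℤ) * ((∑ β ∈ Finset.univ.filter (KerP K), charDegree (β : G → ℂ) : ℕ) : ℤ) ≤
        e * ((∑ χ ∈ Finset.univ.filter (OverP K θ), charDegree (χ : G → ℂ) : ℕ) : ℤ) := by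
      exact_mod_cast h1
    have hb' : (3 : ℤ) * e + 5 ≤ 2 * b := by exact_mod_cast hb
    have hb4' : (4 : ℤ) ≤ b := by exact_mod_cast hb4
    have he' : (1 : ℤ) ≤ e := by exact_mod_cast Nat.one_le_iff_ne_zero.2 he0
    set X : ℤ := ((∑ β ∈ Finset.univ.filter (KerP K), charDegree (β : G → ℂ) : ℕ) : ℤ)
    set Y : ℤ := ((∑ χ ∈ Finset.univ.filter (OverP K θ), charDegree (χ : G → ℂ) : ℕ) : ℤ)
    have hX : 0 ≤ X := Int.natCast_nonneg _
    have h6 : (2 * (b : ℤ) - 5) * (b * X) ≤ (2 * (b : ℤ) - 5) * (e * Y) :=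
      mul_le_mul_of_nonneg_left h5 (by linarith only [hb4])
    have h7 : (e : ℤ) * ((2 * (b : ℤ) - 5) * Y) ≤ e * (b * A) :=
      mul_le_mul_of_nonneg_left h4 (by linarith only [])
    have h8 : 3 * (e : ℤ) * (b * X) ≤ (2 * (b : ℤ) - 5) * (b * X) :=
      mul_le_mul_of_nonneg_right (by linarith only [hb]) (by (clear * -; positivity))
    have h9 : (e * b : ℤ) * (3 * X) ≤ (e * b : ℤ) * A := by linarith only [h6, h7, h8]
    have h10 : 3 * X ≤ A := le_of_mul_le_mul_left h9 (by positivity)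
    linarith only [h3, h10]
  -- the pointwise inequality
  have key : ∀ χ : IrrCharacter G, (-3) * (if d χ = 1 then (1 : ℤ) else 0) -
      (if d χ = 2 ∧ KerP K χ then (1 : ℤ) else 0) - (if d χ = 2 ∧ ¬ KerP K χ then (1 : ℤ) else 0) +
      (if OverP K θ χ then (2 * (d χ : ℤ) - 5) else 0) +
      3 * (if d χ = 4 ∧ ¬ OverP K θ χ then (1 : ℤ) else 0) ≤
      if d χ = 1 ∨ 2 ∣ d χ then 2 * (d χ : ℤ) - 5 else 0 := by
    intro χ
    have h3 := hdpos χ
    by_cases ho : OverP K θ χ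
    · have h4 := hov χ ho
      have h5 : b ≤ d χ := Nat.le_of_dvd (hdpos χ) h4
      have h6 : 2 ∣ d χ := h2.trans h4
      rw [if_neg (by omega), if_neg (by omega), if_neg (by omega), if_pos ho,
        if_neg (fun h => h.2 ho), if_pos (Or.inr h6)]
      simp
    · rw [if_neg ho]
      by_cases h4 : d χ = 1
      · rw [if_pos h4, if_neg (by omega), if_neg (by omega), if_neg (by omega),
          if_pos (Or.inl h4), h4]
        norm_num
      · rw [if_neg h4]
        by_cases h5 : d χ = 2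
        · rw [if_neg (by omega : ¬ (d χ = 4 ∧ ¬ OverP K θ χ)),
            if_pos (Or.inr (by omega) : d χ = 1 ∨ 2 ∣ d χ), h5]
          by_cases hk : KerP K χ
          · simp [hk]
          · simp [hk]
        · rw [if_neg (by omega), if_neg (by omega)]
          by_cases h6 : d χ = 4
          · rw [if_pos ⟨h6, ho⟩, if_pos (Or.inr (by omega)), h6]
            norm_num
          · rw [if_neg (by omega)]
            split_ifs with h7
            · have : 4 ≤ d χ := by omega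
              have h8 : (4 : ℤ) ≤ d χ := by exact_mod_cast this
              linarith only [this]
            · norm_num
  have hsum := Finset.sum_le_sum fun (χ : IrrCharacter G) (_ : χ ∈ Finset.univ) => key χ
  rw [Finset.sum_add_distrib, Finset.sum_add_distrib, Finset.sum_sub_distrib,
    Finset.sum_sub_distrib, ← Finset.mul_sum, ← Finset.mul_sum] at hsum
  -- the two sides
  have e1 : (∑ χ : IrrCharacter G, if d χ = 1 ∨ 2 ∣ d χ then 2 * (d χ : ℤ) - 5 else 0) =
      2 * ((∑ᶠ χ : {χ : IrrCharacter G // charDegree (χ : G → ℂ) = 1 ∨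
        2 ∣ charDegree (χ : G → ℂ)}, charDegree (χ.1 : G → ℂ) : ℕ) : ℤ) -
      5 * (Nat.card {χ : IrrCharacter G // charDegree (χ : G → ℂ) = 1 ∨
        2 ∣ charDegree (χ : G → ℂ)} : ℤ) := by
    rw [← Finset.sum_filter, Finset.sum_sub_distrib, ← Finset.mul_sum, Finset.sum_const,
      finsum_eq_sum_of_fintype, Nat.card_eq_fintype_card, Fintype.card_subtype]
    have e2 : (∑ χ : {χ : IrrCharacter G // charDegree (χ : G → ℂ) = 1 ∨
        2 ∣ charDegree (χ : G → ℂ)}, charDegree (χ.1 : G → ℂ)) =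
        ∑ χ ∈ Finset.univ.filter (fun χ : IrrCharacter G => d χ = 1 ∨ 2 ∣ d χ), d χ := by
      rw [← Finset.sum_subtype_eq_sum_filter, Finset.subtype_univ]
    rw [e2]
    push_cast
    rw [nsmul_eq_mul]
    ring
  rw [e1] at hsum
  have hfinal : 0 ≤ 2 * ((∑ᶠ χ : {χ : IrrCharacter G // charDegree (χ : G → ℂ) = 1 ∨
        2 ∣ charDegree (χ : G → ℂ)}, charDegree (χ.1 : G → ℂ) : ℕ) : ℤ) -
      5 * (Nat.card {χ : IrrCharacter G // charDegree (χ : G → ℂ) = 1 ∨
        2 ∣ charDegree (χ : G → ℂ)} : ℤ) := by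
    refine le_trans ?_ hsum
    show 0 ≤ (-3) * a - n0 - n1 + A + 3 * nB
    linarith only [hn0p, hnBp, hii, hi]
  have : (5 * (Nat.card {χ : IrrCharacter G // charDegree (χ : G → ℂ) = 1 ∨
        2 ∣ charDegree (χ : G → ℂ)} : ℤ)) ≤ 2 * ((∑ᶠ χ : {χ : IrrCharacter G //
        charDegree (χ : G → ℂ) = 1 ∨ 2 ∣ charDegree (χ : G → ℂ)},
        charDegree (χ.1 : G → ℂ) : ℕ) : ℤ) := by linarith only [hn0p, hnBp, hii, hi, hsum]
  exact_mod_cast this

end count

/-- A nonsolvable finite group has a nontrivial perfect normal subgroup. -/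
theorem exists_perfect {G : Type u} [Group G] [Finite G] (h : ¬ Group.IsSolvable G) :
    ∃ K : Subgroup G, K.Normal ∧ K ≠ ⊥ ∧ ⁅K, K⁆ = K := by
  classical
  obtain ⟨n, hn⟩ : ∃ n, ∀ m, Nat.card (derivedSeries G n) ≤ Nat.card (derivedSeries G m) := by
    have h1 : (Set.range fun n => Nat.card (derivedSeries G n)).Nonempty := ⟨_, 0, rfl⟩
    obtain ⟨n, hn⟩ := Nat.sInf_mem h1
    exact ⟨n, fun m => by
      have h2 : sInf (Set.range fun n => Nat.card (derivedSeries G n)) ≤
        Nat.card (derivedSeries G m) := Nat.sInf_le ⟨m, rfl⟩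
      have h3 : Nat.card (derivedSeries G n) =
        sInf (Set.range fun n => Nat.card (derivedSeries G n)) := hn
      rw [h3]
      exact h2⟩
  refine ⟨derivedSeries G n, inferInstance, ?_, ?_⟩
  · intro h0
    exact h ⟨⟨n, h0⟩⟩
  · have h1 : derivedSeries G (n + 1) ≤ derivedSeries G n := by
      rw [derivedSeries_succ]
      exact Subgroup.commutator_le_left _ _
    have h2 : derivedSeries G (n + 1) = derivedSeries G n :=
      Subgroup.eq_of_le_of_card_ge h1 (hn (n + 1))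
    rw [derivedSeries_succ] at h2
    exact h2

/-- A maximal normal subgroup of `G` properly contained in `K`. -/
theorem exists_max {G : Type u} [Group G] [Finite G] (K : Subgroup G) (hK0 : K ≠ ⊥) : ∃ N : Subgroup G, N.Normal ∧ N < K ∧
      ∀ L : Subgroup G, L.Normal → N ≤ L → L < K → L = N := by
  have hne : ({L : Subgroup G | L.Normal ∧ L < K}).Nonempty :=
    ⟨⊥, inferInstance, bot_lt_iff_ne_bot.2 hK0⟩
  obtain ⟨N, hN⟩ := (Set.toFinite {L : Subgroup G | L.Normal ∧ L < K}).exists_maximal hne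
  exact ⟨N, hN.1.1, hN.1.2, fun L hL hNL hLK => le_antisymm (hN.2 ⟨hL, hLK⟩ hNL) hNL⟩

theorem two_dvd {S : Type u} [Group S] [Finite S] [IsSimpleGroup S] (hna : ¬ IsMulCommutative S) :
    2 ∣ Nat.card S := by
  by_contra h
  have hodd : Odd (Nat.card S) := by
    rw [← Nat.not_even_iff_odd, even_iff_two_dvd]; exact h
  have h1 := Cfsg.Agent.S0205.result hodd
  apply hna
  refine ⟨⟨fun a b => ?_⟩⟩
  exact (IsSimpleGroup.comm_iff_isSolvable.2 h1) a b

/-- A homomorphism from a perfect group to `ℂˣ` is trivial. -/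
theorem hom_eq_one_of_perfect {G : Type u} [Group G] (K : Subgroup G) (h : ⁅K, K⁆ = K)
    (f : K →* ℂˣ) : f = 1 := by
  have h1 : commutator K = ⊤ := by
    apply Subgroup.map_injective K.subtype_injective
    rw [← MonoidHom.range_eq_map, Subgroup.range_subtype, Subgroup.map_subtype_commutator, h]
  ext k
  have h2 : commutator K ≤ f.ker := Abelianization.commutator_subset_ker f
  rw [h1] at h2
  have h3 : f k = 1 := h2 (Subgroup.mem_top k)
  rw [h3]
  rfl

/-- No irreducible character of `G` restricts to `K` as an irreducible character of degree two with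
`N` in the kernel. -/
theorem no_two {G : Type u} [Group G] [Fintype G] (K N : Subgroup G) [hKn : K.Normal]
    [hNn : N.Normal] [Fintype K] (hNK : N < K)
    (hNmax : ∀ L : Subgroup G, L.Normal → N ≤ L → L < K → L = N)
    {S : Subgroup (G ⧸ N)} [hs : IsSimpleGroup S] (hSna : ¬ IsMulCommutative S)
    (hSM : S ≤ K.map (QuotientGroup.mk' N)) {χ : IrrCharacter G}
    (hx : Two (res K (χ : G → ℂ))) (hker : ∀ n ∈ N, (χ : G → ℂ) n = 2) : False := by
  classical
  have := Fintype.ofFinite N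
  have := Fintype.ofFinite S
  have := Fintype.ofFinite (G ⧸ N)
  have hχ1 : (χ : G → ℂ) 1 = 2 := hx.deg
  obtain ⟨χ', hχ'⟩ := Cfsg.Agent.Blocks.Deflate.exists_deflation N (χ : G → ℂ) χ.2 (by
    rw [Finset.sum_congr rfl fun (n : N) _ => hker (n : G) n.2, Finset.sum_const, nsmul_eq_mul]
    refine mul_ne_zero ?_ two_ne_zero
    rw [Finset.card_univ]
    exact_mod_cast (Fintype.card_pos (α := N)).ne')
  have hχ'1 : (χ' : G ⧸ N → ℂ) 1 = 2 := by
    rw [← hχ1, hχ']
    rfl
  have hSna' : ¬ ∀ a b : S, a * b = b * a := fun h => hSna ⟨⟨h⟩⟩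
  have hSp : ∀ f : S →* ℂˣ, f = 1 := fun f =>
    Cfsg.Agent.H681.SimpleChar.hom_eq_one hSna' f
  have hc : IsCharacter S (res S (χ' : G ⧸ N → ℂ)) :=
    isCharacter_res S (isIrr_isCharacter χ'.2)
  have hc1 : res S (χ' : G ⧸ N → ℂ) 1 = ((2 : ℕ) : ℂ) := by
    rw [res_apply, OneMemClass.coe_one, hχ'1]
    rfl
  by_cases h1 : classInner (res S (χ' : G ⧸ N → ℂ)) 1 = 0
  · have h2 := irr_two hSp hc hc1 h1
    exact Cfsg.Agent.H681.SimpleChar.degree_ne_two hSna'
      (Cfsg.Agent.H681.DegBasic.mem_charDegrees.2 ⟨_, h2, hc1⟩)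
  · have h3 := Cfsg.Agent.OddOrderCharacters.Clifford.isCharacter_sub_irr hc isIrr_one h1
    have h4 := eq_one_of_degree_one hSp h3 (by
      rw [Pi.sub_apply, hc1]
      push_cast
      norm_num)
    have h5 : ∀ s : S, (χ' : G ⧸ N → ℂ) s = 2 := by
      intro s
      have h6 := congrFun h4 s
      rw [Pi.sub_apply, res_apply] at h6
      have h7 : (χ' : G ⧸ N → ℂ) s = 1 + 1 := by
        have h8 : (χ' : G ⧸ N → ℂ) s - 1 = 1 := h6
        linear_combination h8
      rw [h7]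
      norm_num
    -- the kernel
    obtain ⟨n, ρ, hρ, hρχ⟩ := χ'.2
    have hfin : ρ.character 1 = (Module.finrank ℂ (Fin n → ℂ) : ℂ) := Representation.char_one ρ
    have hkr : ∀ y, y ∈ (ρ : (G ⧸ N) →* _).ker ↔ (χ' : G ⧸ N → ℂ) y = 2 := by
      intro y
      have h6 := Cfsg.Agent.Characters.Values.character_eq_finrank_iff ρ y
      rw [← hfin, hρχ, hχ'1] at h6
      rw [MonoidHom.mem_ker]
      exact h6.symm
    have hSker : S ≤ (ρ : (G ⧸ N) →* _).ker := fun s hs => (hkr s).2 (h5 ⟨s, hs⟩)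
    -- the kernel contains `K`
    obtain ⟨L, hL⟩ : ∃ L : Subgroup G, L =
      K ⊓ ((ρ : (G ⧸ N) →* _).ker).comap (QuotientGroup.mk' N) := ⟨_, rfl⟩
    have hLn : L.Normal := by rw [hL]; infer_instance
    have hNL : N ≤ L := by
      rw [hL]
      refine le_inf hNK.le ?_
      intro y hy
      rw [Subgroup.mem_comap]
      have h6 : QuotientGroup.mk' N y = 1 := (QuotientGroup.eq_one_iff y).2 hy
      rw [h6]
      exact one_mem _
    have hLK : L = K := by
      by_contra hcon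
      have h6 := hNmax L hLn hNL (lt_of_le_of_ne (hL ▸ inf_le_left) hcon)
      -- then `S` is trivial
      apply hSna
      have h7 : ∀ s : S, s = 1 := by
        intro s
        obtain ⟨k, hk, hks⟩ := hSM s.2
        have h8 : k ∈ L := hL ▸ ⟨hk, Subgroup.mem_comap.2 (by
          rw [hks]
          exact hSker s.2)⟩
        rw [h6] at h8
        apply Subtype.ext
        rw [← hks]
        exact (QuotientGroup.eq_one_iff k).2 h8
      exact ⟨⟨fun a b => by rw [h7 a, h7 b]⟩⟩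
    have h8 : res K (χ : G → ℂ) = (2 : ℂ) • (1 : K → ℂ) := by
      funext k
      have h9 : (k : G) ∈ L := by rw [hLK]; exact k.2
      rw [hL] at h9
      have h10 := (hkr _).1 h9.2
      show (χ : G → ℂ) k = 2 * 1
      rw [hχ', mul_one]
      exact h10
    have h9 : classInner (res K (χ : G → ℂ)) 1 = 2 := by
      rw [h8, classInner_smul_left, classInner_irr_self isIrr_one, mul_one]
    rw [classInner_irr_ne hx.irr isIrr_one hx.ne_one] at h9
    norm_num at h9

/-- **The case `p = 2` of S4831.** -/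
theorem two_main {G : Type u} [Group G] [Finite G] (hIM : Cfsg.Agent.H685.Acd.IMp.{u} 2)
    (hOL : ∀ (S : Type u) [Group S] [Finite S] [IsSimpleGroup S], ¬ IsMulCommutative S →
      Cfsg.Agent.H954.OutDeg.OL S)
    (hns : ¬ Group.IsSolvable ↥(Subgroup.closure {g : G | ∃ k : ℕ, orderOf g = 2 ^ k})) :
    5 * Nat.card {χ : IrrCharacter G // charDegree (χ : G → ℂ) = 1 ∨ 2 ∣ charDegree (χ : G → ℂ)} ≤
      2 * ∑ᶠ χ : {χ : IrrCharacter G // charDegree (χ : G → ℂ) = 1 ∨ 2 ∣ charDegree (χ : G → ℂ)},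
        charDegree (χ.1 : G → ℂ) := by
  classical
  have := Fintype.ofFinite G
  have hG : ¬ Group.IsSolvable G := fun h => hns inferInstance
  obtain ⟨K, hKn, hK0, hKp⟩ := exists_perfect hG
  obtain ⟨N, hNn, hNK, hNmax⟩ := exists_max K hK0
  have := Fintype.ofFinite K
  set f : G →* G ⧸ N := QuotientGroup.mk' N with hf
  set M : Subgroup (G ⧸ N) := K.map f with hM
  have hMn : M.Normal := hKn.map f (QuotientGroup.mk'_surjective N)
  have hfker : ∀ y, f y = 1 ↔ y ∈ N := fun y => QuotientGroup.eq_one_iff y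
  have hM0 : M ≠ ⊥ := by
    intro h
    apply hNK.not_ge
    intro k hk
    have h1 : f k ∈ M := ⟨k, hk, rfl⟩
    rw [h, Subgroup.mem_bot] at h1
    exact (hfker k).1 h1
  have hmin : ∀ L : Subgroup (G ⧸ N), L.Normal → L ≤ M → L = ⊥ ∨ L = M := by
    intro L hL hLM
    have hLn : (L.comap f).Normal := hL.comap f
    have hNL : N ≤ L.comap f := by
      intro y hy
      rw [Subgroup.mem_comap, (hfker y).2 hy]
      exact one_mem _
    have hLK : L.comap f ≤ K := by
      intro y hy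
      obtain ⟨k, hk, hky⟩ := hLM hy
      have h1 : k⁻¹ * y ∈ N := by
        rw [← hfker, map_mul, map_inv, hky, inv_mul_cancel]
      have h2 : y = k * (k⁻¹ * y) := by group
      rw [h2]
      exact K.mul_mem hk (hNK.le h1)
    have hmc : (L.comap f).map f = L := Subgroup.map_comap_eq_self_of_surjective
      (QuotientGroup.mk'_surjective N) L
    rcases eq_or_lt_of_le hLK with h | h
    · right
      rw [← hmc, h]
    · left
      rw [eq_bot_iff]
      intro y hy
      obtain ⟨k, rfl⟩ := QuotientGroup.mk'_surjective N y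
      have h1 := hNmax _ hLn hNL h
      have h2 : k ∈ L.comap f := hy
      rw [h1] at h2
      exact (hfker k).2 h2
  have hna : ¬ ∀ a ∈ M, ∀ b ∈ M, a * b = b * a := by
    intro h
    apply hNK.not_ge
    rw [← hKp, Subgroup.commutator_le]
    intro a ha b hb
    rw [← hfker, commutatorElement_def, map_mul, map_mul, map_mul, map_inv, map_inv,
      h (f a) ⟨a, ha, rfl⟩ (f b) ⟨b, hb, rfl⟩]
    group
  obtain ⟨S, hSM, hMN, hsimple, hSna, hMS, hcj⟩ :=
    Cfsg.Agent.H612.MinNormal.exists_factor M hM0 hmin hna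
  obtain ⟨π, hπ1, hπ2⟩ := Cfsg.Agent.H685.Acd.exists_proj hMS
    (fun z hz => Cfsg.Agent.H685.Acd.eq_one_of_central hSna hz)
  obtain ⟨α, hα⟩ := hIM S hSna (two_dvd hSna)
  have hα1 : charDegree (α : S → ℂ) ≠ 1 := by
    intro h
    rw [h] at hα
    norm_num at hα
  have hα2 : charDegree (α : S → ℂ) ≠ 2 := by
    intro h
    exact Cfsg.Agent.H681.SimpleChar.degree_ne_two (fun h => hSna ⟨⟨h⟩⟩) ⟨α, h⟩
  have hα0 : charDegree (α : S → ℂ) ≠ 0 := by
    intro h
    have h1 := Cfsg.Agent.Blocks.Basic.irr_one_eq_charDegree α.2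
    rw [h, Nat.cast_zero] at h1
    exact isIrr_apply_one_ne_zero α.2 h1
  have hα4 : 4 ≤ charDegree (α : S → ℂ) := by omega
  obtain ⟨θ, χ₀, e, hθ, h₀, he, he0, hee, hdθ, hθN⟩ := exists_chi f K M
    (fun k hk => ⟨k, hk, rfl⟩) (fun m hm => by
      obtain ⟨k, hk, h⟩ := hm
      exact ⟨k, hk, h⟩) hSna hSM hcj π hπ1 hπ2 α hα1
  have hout : (MulAut.conj : S →* MulAut S).range.index < charDegree (α : S → ℂ) :=
    hOL S hSna α hα1
  have he2 : e ^ 2 < charDegree θ := by
    rw [hdθ]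
    exact lt_of_le_of_lt hee hout
  refine count_main K (hom_eq_one_of_perfect K hKp) hθ h₀ he he0 ?_ (by rw [hdθ]; exact hα)
    (by rw [hdθ]; exact hα4) ?_
  · rw [← hdθ] at hα4 hα
    rcases Nat.lt_or_ge e 3 with h | h
    · interval_cases e
      · omega
      · omega
      · have h5 : 2 ^ 2 < charDegree θ := he2
        omega
    · nlinarith only [hee, hdθ, hout, h]
  · intro χ hx hτ
    refine no_two K N hNK hNmax hSna hSM hx fun n hn => ?_
    have hnK : n ∈ K := hNK.le hn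
    have h1 : θ ⟨n, hnK⟩ = θ 1 := hθN ⟨n, hnK⟩ ((hfker n).2 hn)
    rw [← hτ, tau_deg (hom_eq_one_of_perfect K hKp) hx] at h1
    have hr := hx.real (hom_eq_one_of_perfect K hKp) ⟨n, hnK⟩
    obtain ⟨r, hr'⟩ : ∃ r : ℝ, (χ : G → ℂ) n = r := ⟨_, (Complex.conj_eq_iff_re.1 hr).symm⟩
    have h2 : (r : ℂ) * (r * r - 1) - r = 4 := by
      rw [← hr']
      have h3 : tau (res K (χ : G → ℂ)) ⟨n, hnK⟩ = (χ : G → ℂ) n *
        ((χ : G → ℂ) n * (χ : G → ℂ) n - 1) - (χ : G → ℂ) n := rfl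
      rw [← h3, h1]
      norm_num
    have h3 : r * (r * r - 1) - r = 4 := by exact_mod_cast h2
    have h4 : (r - 2) * (r ^ 2 + 2 * r + 2) = 0 := by linear_combination h3
    have h5 : r = 2 := by
      rcases mul_eq_zero.1 h4 with h | h
      · linarith only [h]
      · linarith only [h, sq_nonneg (r + 1)]
    rw [hr', h5]
    norm_num

end Cfsg.Agent.H595.AvgTwo
end

-- part: H352/OutIdx
section
/-!
# Cyclic subgroups of small index of `Out S`, classical groups (helper352, for S4831)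
-/

set_option autoImplicit false

universe u

namespace Cfsg.Agent.H352.OutIdx

open Cfsg Cfsg.Agent.H404.Avg

theorem of_out {S : Type u} [Group S] {c : ℕ} (x : Cfsg.Out S) (h : (Subgroup.zpowers x).index ≤ c) : OutIdx S c := by
  obtain ⟨g, rfl⟩ := QuotientGroup.mk'_surjective _ x
  refine ⟨g, ?_⟩
  have h1 := Subgroup.index_comap_of_surjective (Subgroup.zpowers (QuotientGroup.mk' (Cfsg.Inn S) g))
    (QuotientGroup.mk'_surjective (Cfsg.Inn S))
  have h2 : (Subgroup.zpowers (QuotientGroup.mk' (Cfsg.Inn S) g)).comap (QuotientGroup.mk' (Cfsg.Inn S)) =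
      (MulAut.conj : S →* MulAut S).range ⊔ Subgroup.zpowers g := by
    rw [← MonoidHom.map_zpowers, Subgroup.comap_map_eq, QuotientGroup.ker_mk', sup_comm]
  rw [← h2, h1]
  exact h

theorem of_hom {S : Type u} [Group S] [Finite S] {c : ℕ} {C : Type*} [Group C] [Finite C] (hC : IsCyclic C)
    (φ : Cfsg.Out S →* C) (hφ : Function.Surjective φ) (hk : Nat.card φ.ker ≤ c) : OutIdx S c := by
  obtain ⟨y, hy⟩ := hC.exists_generator
  obtain ⟨x, rfl⟩ := hφ y
  apply of_out x
  have h1 : orderOf (φ x) = Nat.card C := orderOf_eq_card_of_forall_mem_zpowers hy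
  have h2 : Nat.card C ≤ orderOf x := by
    rw [← h1]
    exact Nat.le_of_dvd (orderOf_pos x) (orderOf_map_dvd φ x)
  have h3 : Nat.card (Cfsg.Out S) = Nat.card φ.ker * Nat.card C := by
    rw [Subgroup.card_eq_card_quotient_mul_card_subgroup φ.ker, mul_comm]
    congr 1
    exact Nat.card_congr (QuotientGroup.quotientKerEquivOfSurjective φ hφ).toEquiv
  have h4 := Subgroup.card_mul_index (Subgroup.zpowers x)
  rw [Nat.card_zpowers, h3] at h4
  refine le_trans ?_ hk
  apply Nat.le_of_mul_le_mul_right _ (Nat.card_pos (α := C))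
  rw [← h4, mul_comm]
  exact Nat.mul_le_mul_right _ h2

theorem of_card {S : Type u} [Group S] [Finite S] {c f : ℕ} (hf : 0 < f) (x : Cfsg.Out S) (hx : f ∣ orderOf x)
    (h : Nat.card (Cfsg.Out S) ≤ c * f) : OutIdx S c := by
  apply of_out x
  have h2 : f ≤ orderOf x := Nat.le_of_dvd (orderOf_pos x) hx
  have h4 := Subgroup.card_mul_index (Subgroup.zpowers x)
  rw [Nat.card_zpowers] at h4
  apply Nat.le_of_mul_le_mul_right _ hf
  rw [mul_comm]
  calc f * (Subgroup.zpowers x).index ≤ orderOf x * (Subgroup.zpowers x).index := Nat.mul_le_mul_right _ h2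
    _ = _ := h4
    _ ≤ c * f := h

theorem of_cyclic {S : Type u} [Group S] [Finite S] (h : IsCyclic (Cfsg.Out S)) : OutIdx S 1 := by
  refine of_hom h (MonoidHom.id _) (fun x => ⟨x, rfl⟩) ?_
  rw [MonoidHom.ker_id, Subgroup.card_bot]

theorem mono {S : Type u} [Group S] {c d : ℕ} (h : OutIdx S c) (hcd : c ≤ d) : OutIdx S d := by
  obtain ⟨g, hg⟩ := h
  exact ⟨g, hg.trans hcd⟩

instance cyclic_zmod (n : ℕ) : IsCyclic (Multiplicative (ZMod n)) := inferInstance

/-- `PSL_2(q)` -/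
theorem idx_psl_two {F : Type u} [Field F] [Fintype F] (h4 : 4 ≤ Fintype.card F) :
    OutIdx (Matrix.ProjectiveSpecialLinearGroup (Fin 2) F) 2 := by
  obtain ⟨p, f, hp, hf, hF⟩ := H934.OutCl.exists_pf F
  have := Fact.mk hp
  have : NeZero f := ⟨by omega⟩
  obtain ⟨φ, h1, -, h3⟩ := S2602.result (F := F) hf hF (by rw [← hF]; exact h4)
  exact of_hom inferInstance φ h1 (by rw [h3]; exact Nat.gcd_le_left _ (by norm_num))

/-- `PSU_3(q)` -/
theorem idx_psu_three {F : Type u} [Field F] [Fintype F] {q : ℕ} (hF : Fintype.card F = q ^ 2) (hq : 2 < q) :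
    OutIdx (Cfsg.PSU 3 F q) 3 := by
  obtain ⟨p, f', hp, hf', hF'⟩ := H934.OutCl.exists_pf F
  have := Fact.mk hp
  obtain ⟨f, -, hqf⟩ : ∃ f ≤ f', q = p ^ f := (Nat.dvd_prime_pow hp).1 (by
    rw [← hF', hF]; exact dvd_pow_self q (by norm_num))
  have hf : 1 ≤ f := by
    by_contra h0
    have : f = 0 := by omega
    subst this
    rw [pow_zero] at hqf
    omega
  have : NeZero (2 * f) := ⟨by omega⟩
  obtain ⟨φ, h1, -, h3⟩ := S2603.result (K := F) hf hqf hF (le_refl 3) (by omega)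
  exact of_hom inferInstance φ h1 (by rw [h3]; exact Nat.gcd_le_left _ (by norm_num))

/-- a product with a cyclic group -/
theorem of_prod {S : Type u} [Group S] [Finite S] {c n : ℕ} [NeZero c] [NeZero n]
    (e : Cfsg.Out S ≃* Multiplicative (ZMod c × ZMod n)) : OutIdx S c := by
  let φ : Cfsg.Out S →* Multiplicative (ZMod n) :=
    (AddMonoidHom.toMultiplicative (AddMonoidHom.snd (ZMod c) (ZMod n))).comp e.toMonoidHom
  have hφ : Function.Surjective φ := by
    intro y
    refine ⟨e.symm (Multiplicative.ofAdd (0, Multiplicative.toAdd y)), ?_⟩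
    show AddMonoidHom.toMultiplicative (AddMonoidHom.snd (ZMod c) (ZMod n)) (e (e.symm _)) = y
    rw [e.apply_symm_apply]
    rfl
  refine of_hom inferInstance φ hφ ?_
  have h1 : Nat.card (Cfsg.Out S) = Nat.card φ.ker * Nat.card (Multiplicative (ZMod n)) := by
    rw [Subgroup.card_eq_card_quotient_mul_card_subgroup φ.ker, mul_comm]
    congr 1
    exact Nat.card_congr (QuotientGroup.quotientKerEquivOfSurjective φ hφ).toEquiv
  have h2 : Nat.card (Cfsg.Out S) = c * n := by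
    rw [Nat.card_congr e.toEquiv, Nat.card_congr Multiplicative.toAdd, Nat.card_prod, Nat.card_zmod, Nat.card_zmod]
  have h3 : Nat.card (Multiplicative (ZMod n)) = n := by
    rw [Nat.card_congr Multiplicative.toAdd, Nat.card_zmod]
  rw [h2, h3] at h1
  exact (Nat.eq_of_mul_eq_mul_right (Nat.pos_of_ne_zero (NeZero.ne n)) h1).ge

/-- `PΩ_{2m+1}(q)` -/
theorem idx_omega_odd {F : Type u} [Field F] [Fintype F] {m : ℕ} (hm : 3 ≤ m) (hodd : Odd (Fintype.card F)) :
    OutIdx (Cfsg.POmega F (Cfsg.quadFormOdd m F)) 2 := by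
  obtain ⟨p, f, hp, hf, hF⟩ := H934.OutCl.exists_pf F
  have := Fact.mk hp
  have : NeZero f := ⟨by omega⟩
  have hp2 : p ≠ 2 := by
    rintro rfl
    rw [hF] at hodd
    exact (Nat.not_even_iff_odd.2 hodd) (Nat.even_pow.2 ⟨even_two, by omega⟩)
  obtain ⟨e⟩ := S2604.result (F := F) hf hF hp2 hm
  have : Finite (Cfsg.isometryGroup F (Cfsg.quadFormOdd m F)) := inferInstance
  have : Finite (Cfsg.POmega F (Cfsg.quadFormOdd m F)) := inferInstance
  exact of_prod e

/-- `PΩ⁻_{2m}(q)` -/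
theorem idx_omega_minus {F : Type u} [Field F] [Fintype F] {m : ℕ} (hm : 4 ≤ m) (a b : F)
    (hab : ∀ z₁ z₂ : F, z₁ ^ 2 + a * z₁ * z₂ + b * z₂ ^ 2 = 0 → z₁ = 0 ∧ z₂ = 0) :
    OutIdx (Cfsg.POmega F (Cfsg.quadFormMinus (m - 1) F a b)) 2 := by
  obtain ⟨p, f, hp, hf, hF⟩ := H934.OutCl.exists_pf F
  have := Fact.mk hp
  have : NeZero f := ⟨by omega⟩
  have : NeZero (2 * f) := ⟨by omega⟩
  have : Finite (Cfsg.isometryGroup F (Cfsg.quadFormMinus (m - 1) F a b)) := inferInstance
  have : Finite (Cfsg.POmega F (Cfsg.quadFormMinus (m - 1) F a b)) := inferInstance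
  by_cases hp2 : p = 2
  · subst hp2
    obtain ⟨h1, -⟩ := S2605.result (F := F) hf hF hm a b hab
    exact mono (of_cyclic h1) (by norm_num)
  · have h1 := S2606.result (F := F) hf hF hp2 hm a b hab
    split_ifs at h1 with h2
    · obtain ⟨e⟩ := h1
      have hfo : Odd f := by
        by_contra h3
        rw [Nat.not_odd_iff_even] at h3
        obtain ⟨k, hk⟩ := h3
        have h4 : p ^ f = (p ^ k) * (p ^ k) := by rw [hk, pow_add]
        have h5 : (p ^ k) % 4 = 0 ∨ (p ^ k) % 4 = 1 ∨ (p ^ k) % 4 = 2 ∨ (p ^ k) % 4 = 3 := by omega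
        have h6 := h2.1
        rw [h4, Nat.mul_mod] at h6
        rcases h5 with h5 | h5 | h5 | h5 <;> rw [h5] at h6 <;> omega
      let x : Cfsg.Out (Cfsg.POmega F (Cfsg.quadFormMinus (m - 1) F a b)) :=
        e.symm (DihedralGroup.r 1, Multiplicative.ofAdd (1 : ZMod f))
      have hx : orderOf x = 4 * f := by
        show orderOf (e.symm _) = _
        rw [MulEquiv.orderOf_eq, Prod.orderOf_mk, DihedralGroup.orderOf_r_one, orderOf_ofAdd_eq_addOrderOf,
          ZMod.addOrderOf_one]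
        apply Nat.Coprime.lcm_eq_mul
        rw [show (4 : ℕ) = 2 ^ 2 by norm_num]
        exact Nat.Coprime.pow_left 2 (Nat.coprime_two_left.2 hfo)
      refine of_card (f := 4 * f) (by omega) x (by rw [hx]) ?_
      have h7 : Nat.card (Cfsg.Out (Cfsg.POmega F (Cfsg.quadFormMinus (m - 1) F a b))) = 2 * 4 * f := by
        rw [Nat.card_congr e.toEquiv, Nat.card_prod, DihedralGroup.nat_card, Nat.card_congr Multiplicative.toAdd,
          Nat.card_zmod]
      rw [h7]
      exact le_of_eq (by ring)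
    · obtain ⟨e⟩ := h1
      exact of_prod e

/-- `PSp_{2m}(q)` -/
theorem idx_psp {F : Type u} [Field F] [Fintype F] {m : ℕ} (hm : 2 ≤ m) (h3 : m = 2 → 3 ≤ Fintype.card F)
    (hs : IsSimpleGroup (Cfsg.PSp m F)) (hna : ¬ IsMulCommutative (Cfsg.PSp m F)) : OutIdx (Cfsg.PSp m F) 2 := by
  obtain ⟨p, f, hp, hf, hF⟩ := H934.OutCl.exists_pf F
  have := Fact.mk hp
  have : Finite (Cfsg.PSp m F) := inferInstance
  by_cases hc : m = 2 ∧ p = 2
  · obtain ⟨rfl, rfl⟩ := hc
    obtain ⟨h6, -⟩ := Cfsg.Agent.S2600.result (F := F) hf hF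
    exact mono (of_cyclic h6) (by norm_num)
  · have hcard := Cfsg.Agent.S0814.result (F := F) p f hf hF m hm (by rw [← hF]; exact h3)
    rw [if_neg hc, one_mul, H933.SubPSp.card_out hs hna] at hcard
    have hcard' : Nat.card (Cfsg.Out (PSp m F)) = Nat.gcd 2 (p ^ f - 1) * f :=
      Nat.eq_of_mul_eq_mul_right Nat.card_pos hcard
    obtain ⟨σ, hσ⟩ := H933.SubField.exists_orderOf hf hF
    obtain ⟨x, hx⟩ := H933.SubPSp.exists_out (F := F) (m := m) (by omega) σ
    rw [hσ] at hx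
    refine of_card (by omega) x hx ?_
    rw [hcard']
    exact Nat.mul_le_mul_right _ (Nat.gcd_le_left _ (by norm_num))

end Cfsg.Agent.H352.OutIdx
end

-- part: H679/OutIdxExc
section
/-!
# A cyclic subgroup of small index in `Out S` for the exceptional groups (helper679, task 1388, for S4831)

`OutIdx S c` for `S` of type `G₂`, `F₄`, `E₇`, `E₈`, `²E₆`: the field automorphisms are a cyclic group meeting the
inner automorphisms trivially, and the order of `Out S` is known.

* `outIdx_of` : `OutIdx S c` if `g ^ k ∈ Inn S → m ∣ k` and `|Out S| ≤ c m`;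
* `outIdx_chev` : the Chevalley groups, from the order of `Out`;
* `idx_g2`, `idx_f4`, `idx_e7`, `idx_e8`, `idx_2e6`.
-/

set_option autoImplicit false

namespace Cfsg.Agent.H679.OutIdxExc

open Cfsg Cfsg.Agent.H404.Avg

universe u

/-- A criterion for `OutIdx`. -/
theorem outIdx_of {S : Type u} [Group S] [Finite S] {g : MulAut S} {m c : ℕ} (hm : 0 < m)
    (h : ∀ k : ℕ, g ^ k ∈ (MulAut.conj : S →* MulAut S).range → m ∣ k)
    (hc : Nat.card (Cfsg.Out S) ≤ c * m) : OutIdx S c := by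
  refine ⟨g, ?_⟩
  set N : Subgroup (MulAut S) := (MulAut.conj : S →* MulAut S).range with hN
  set H : Subgroup (MulAut S) := N ⊔ Subgroup.zpowers g with hH
  have hcard : Nat.card (Cfsg.Out S) = N.index := rfl
  have h1 : N.relIndex H * H.index = N.index := Subgroup.relIndex_mul_index le_sup_left
  have h2 : N.relIndex H = N.relIndex (Subgroup.zpowers g) := by
    rw [hH, sup_comm]
    have : N.Normal := inferInstanceAs (Cfsg.Inn S).Normal
    exact Subgroup.relIndex_sup_right _ _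
  have h0 : N.index ≠ 0 := Subgroup.index_ne_zero_of_finite
  have h3 : N.relIndex (Subgroup.zpowers g) ≠ 0 := by
    intro h3
    rw [h2, h3, zero_mul] at h1
    exact h0 h1.symm
  have h4 : m ≤ N.relIndex (Subgroup.zpowers g) := by
    -- `1, g, …, g ^ (m - 1)` are in different cosets
    have hinj : Function.Injective (fun i : Fin m =>
        (QuotientGroup.mk ⟨g ^ (i : ℕ), Subgroup.npow_mem_zpowers g _⟩ :
          ↥(Subgroup.zpowers g) ⧸ N.subgroupOf (Subgroup.zpowers g))) := by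
      have key : ∀ i j : Fin m, (i : ℕ) ≤ j →
          (QuotientGroup.mk ⟨g ^ (i : ℕ), Subgroup.npow_mem_zpowers g _⟩ :
            ↥(Subgroup.zpowers g) ⧸ N.subgroupOf (Subgroup.zpowers g)) =
          QuotientGroup.mk ⟨g ^ (j : ℕ), Subgroup.npow_mem_zpowers g _⟩ → i = j := by
        intro i j hij e
        rw [QuotientGroup.eq] at e
        have e1 : (g ^ (i : ℕ))⁻¹ * g ^ (j : ℕ) ∈ N := e
        rw [show (g ^ (i : ℕ))⁻¹ * g ^ (j : ℕ) = g ^ ((j : ℕ) - i) by
          rw [inv_mul_eq_iff_eq_mul, ← pow_add, Nat.add_sub_cancel' hij]] at e1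
        have e2 := h _ e1
        have e3 := Nat.eq_zero_of_dvd_of_lt e2 (by omega)
        exact Fin.ext (by omega)
      intro i j e
      rcases le_total (i : ℕ) j with hij | hij
      · exact key i j hij e
      · exact (key j i hij e.symm).symm
    have : Finite (↥(Subgroup.zpowers g) ⧸ N.subgroupOf (Subgroup.zpowers g)) := inferInstance
    have h5 := Nat.card_le_card_of_injective _ hinj
    rwa [Nat.card_fin] at h5
  rw [hcard, ← h1, h2] at hc
  by_contra hcon
  push Not at hcon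
  have h6 : c * m < N.relIndex (Subgroup.zpowers g) * H.index := by
    calc c * m < H.index * m := Nat.mul_lt_mul_of_pos_right hcon hm
      _ ≤ H.index * N.relIndex (Subgroup.zpowers g) := Nat.mul_le_mul_left _ h4
      _ = _ := mul_comm _ _
  omega

section Chev

open Cfsg.Lie Cfsg.Agent.ChevalleyStructure Cfsg.Agent.ChevalleyStructure.Elts
  Cfsg.Agent.ChevalleyStructure.NConj Cfsg.Agent.ChevalleyStructure.BNChev Cfsg.Agent.S1042
  Cfsg.Agent.Schreier.ChevLocal Cfsg.Agent.H70.AutFix Cfsg.Agent.H70.ChevTab Cfsg.Agent.H70.ChevFix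
  Cfsg.Agent.H70.ChevField Cfsg.Agent.H70.PermFix Cfsg.Agent.H70.ChevDiag Cfsg.Agent.H70.OutCount

variable {D : ChevalleyDatum} (hD : InList D) {F : Type u} [Field F]

/-- An inner automorphism which is a field automorphism is trivial. -/
theorem eq_one_of_inner [Finite F] {τ : F ≃+* F} {x : ↥(D.group F)}
    (h : ∀ r < D.nroots, ∀ t : F, MulAut.conj x (xe hD r t) = xe hD r (τ t)) : τ = 1 := by
  have hrank : 0 < D.rank := (RootComb.good_of_mem hD).rank_pos
  have hP : Perm D F (MulAut.conj x) 1 := by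
    refine perm_one_of_values hD (c := fun _ => 1) (σ := fun _ => τ) (fun _ => one_ne_zero) ?_ ?_
    · intro i t
      rw [h _ (simple_lt hD i.2), one_mul]
    · intro i t
      rw [h _ (neg_simple_lt hD i.2), inv_one, one_mul]
  have hx : x ∈ HH D F := by
    rw [← normalizer_inf hD, Subgroup.mem_inf, mem_normalizer_iff_smul, mem_normalizer_iff_smul]
    exact ⟨Perm.smul_UU hD hP, Perm.smul_VN hD hP⟩
  have hr := simple_lt hD hrank
  obtain ⟨c, hc, h1⟩ := diagonal_conj hD hx hr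
  have h2 : ∀ t : F, τ t = c * t := by
    intro t
    apply xe_inj hD hr
    rw [← h _ hr]
    exact Subtype.ext (h1 t)
  have hc1 : c = 1 := by
    have := h2 1
    rw [map_one, mul_one] at this
    exact this.symm
  ext t
  rw [h2, hc1, one_mul]
  rfl

/-- The Chevalley groups. -/
theorem outIdx_chev (hD : InList D) [Finite F] {c : ℕ}
    (hc : Nat.card (Cfsg.Out ↥(D.group F)) ≤ c * Nat.card (F ≃+* F)) : OutIdx ↥(D.group F) c := by
  obtain ⟨ρ, hρ, -⟩ := Cfsg.Agent.H254.exists_ringAut F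
  obtain ⟨α, hα⟩ := exists_fieldAut hD ρ
  have hpow : ∀ k : ℕ, ∀ r < D.nroots, ∀ t : F, (α ^ k) (xe hD r t) = xe hD r ((ρ ^ k) t) := by
    intro k
    induction k with
    | zero => intro r _ t; rw [pow_zero, pow_zero]; rfl
    | succ k ih =>
      intro r hr t
      rw [pow_succ, pow_succ, MulAut.mul_apply, hα r hr, ih r hr]
      rfl
  have : Finite (F ≃+* F) := Finite.of_injective (fun τ : F ≃+* F => (τ : F → F)) DFunLike.coe_injective
  refine outIdx_of (g := α) (m := Nat.card (F ≃+* F)) Nat.card_pos ?_ hc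
  rintro k ⟨x, hx⟩
  rw [← hρ, orderOf_dvd_iff_pow_eq_one]
  refine eq_one_of_inner hD (x := x) fun r hr t => ?_
  rw [hx]
  exact hpow k r hr t

end Chev

section Rows

open Cfsg.Lie Cfsg.Agent.ChevalleyStructure

variable {S : Type u} [Group S]

/-- A finite field has `p ^ f` elements. -/
theorem exists_pf (F : Type*) [Field F] [Fintype F] :
    ∃ (p f : ℕ) (_ : Fact p.Prime) (_ : CharP F p), 1 ≤ f ∧ Fintype.card F = p ^ f := by
  obtain ⟨p, hp⟩ := CharP.exists F
  obtain ⟨n, hpp, hn⟩ := FiniteField.card F p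
  exact ⟨p, n, ⟨hpp⟩, hp, n.pos, hn⟩

theorem idx_g2 (h : Cfsg.Lie.IsoChevG2 S) : OutIdx S 2 := by
  obtain ⟨F, _, _, hF, ⟨e⟩⟩ := h
  obtain ⟨p, f, _, _, hf, hpf⟩ := exists_pf F
  have h1 := Cfsg.Agent.S2121.result (F := F) p f hpf (by rw [← hpf]; exact hF)
  have h2 : Nat.card (F ≃+* F) = f := Cfsg.Agent.Lib.FieldAutCard.card_ringAut hf hpf
  refine OutIdx.congr (outIdx_chev Cfsg.Agent.H69.OutGF.hG2 (F := F) ?_) e.symm
  rw [h1, h2]
  split_ifs <;> omega

theorem idx_f4 (h : Cfsg.Lie.IsoF4 S) : OutIdx S 2 := by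
  obtain ⟨F, _, _, ⟨e⟩⟩ := h
  obtain ⟨p, f, _, _, hf, hpf⟩ := exists_pf F
  have h1 := Cfsg.Agent.S2122.result (F := F) p f hpf
  have h2 : Nat.card (F ≃+* F) = f := Cfsg.Agent.Lib.FieldAutCard.card_ringAut hf hpf
  refine OutIdx.congr (outIdx_chev Cfsg.Agent.H69.OutGF.hF4 (F := F) ?_) e.symm
  rw [h1, h2]
  exact Nat.mul_le_mul_right _ (Nat.le_of_dvd two_pos (Nat.gcd_dvd_left 2 p))

theorem idx_e7 (h : Cfsg.Lie.IsoE7 S) : OutIdx S 2 := by
  obtain ⟨F, _, _, ⟨e⟩⟩ := h
  obtain ⟨p, f, _, _, hf, hpf⟩ := exists_pf F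
  have h1 := Cfsg.Agent.S2124.result (F := F) p f hpf
  have h2 : Nat.card (F ≃+* F) = f := Cfsg.Agent.Lib.FieldAutCard.card_ringAut hf hpf
  refine OutIdx.congr (outIdx_chev Cfsg.Agent.H70.OutE.inList_E7 (F := F) ?_) e.symm
  rw [h1, h2]
  exact Nat.mul_le_mul_right _ (Nat.le_of_dvd two_pos (Nat.gcd_dvd_left 2 _))

theorem idx_e8 (h : Cfsg.Lie.IsoE8 S) : OutIdx S 1 := by
  obtain ⟨F, _, _, ⟨e⟩⟩ := h
  obtain ⟨p, f, _, _, hf, hpf⟩ := exists_pf F
  have h1 := Cfsg.Agent.S2125.result (F := F) p f hpf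
  have h2 : Nat.card (F ≃+* F) = f := Cfsg.Agent.Lib.FieldAutCard.card_ringAut hf hpf
  refine OutIdx.congr (outIdx_chev Cfsg.Agent.H70.OutE.inList_E8 (F := F) ?_) e.symm
  rw [h1, h2, one_mul]

/-- A finite field with `q²` elements, `q` a prime power. -/
theorem exists_pf2 (K : Type*) [Field K] [Fintype K] {q : ℕ} (hq : IsPrimePow q) (hK : Fintype.card K = q ^ 2) :
    ∃ (p f : ℕ) (_ : Fact p.Prime) (_ : CharP K p), 1 ≤ f ∧ q = p ^ f ∧ Fintype.card K = p ^ (2 * f) := by
  obtain ⟨p, f, hp, hf, rfl⟩ := (isPrimePow_nat_iff _).1 hq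
  have hpf : Fintype.card K = p ^ (2 * f) := by rw [hK, ← pow_mul, mul_comm]
  have hc : CharP K p := by
    obtain ⟨r, hr⟩ := CharP.exists K
    obtain ⟨n, hrp, hn⟩ := FiniteField.card K r
    have h1 : r ∣ p ^ (2 * f) := by
      rw [← hpf, hn]
      exact dvd_pow_self r n.pos.ne'
    have h2 : r = p := (Nat.prime_dvd_prime_iff_eq hrp hp).1 (hrp.dvd_of_dvd_pow h1)
    rwa [← h2]
  exact ⟨p, f, ⟨hp⟩, hc, hf, rfl, hpf⟩

open CoxeterSystem Cfsg.Agent.Tits.Roots Cfsg.Agent.Tits.Core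
  Cfsg.Agent.Nodes.RGDTwE6 Cfsg.Agent.KFacts.TwESix.NodeCoord Cfsg.Agent.KFacts.TwESix.Out
  Cfsg.Agent.KFacts.TwESix.OutTwo Cfsg.Agent.CpAut.RgdTwE6 in
theorem idx_2e6 (h : Cfsg.Lie.Iso2E6 S) : OutIdx S 3 := by
  obtain ⟨K, _, _, q, hq, hK, ⟨e⟩⟩ := h
  obtain ⟨p, f, _, _, hf, rfl, hpf⟩ := exists_pf2 K hq hK
  have h1 := Cfsg.Agent.S2130.result (K := K) p f hpf hf
  obtain ⟨φ, hφ, hqq⟩ := TwE6Basic.exists_frob hq hK
  obtain ⟨τ, hτ⟩ := Cfsg.Agent.H565.TwField.exists_ringAut p (2 * f) hpf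
  have hW : Finite CoxeterMatrix.F₄.Group :=
    Cfsg.Agent.Nodes.RGDFold.finite_W (hp := Cfsg.Agent.Nodes.RGDTwE6.hp) CoxeterMatrix.F₄.toCoxeterSystem
      Cfsg.Agent.Nodes.RGDTwE6.isCartan Cfsg.Agent.Nodes.RGDTwE6.foldData
  have R := Cfsg.Agent.Nodes.RGDTwE6.rgd CoxeterMatrix.F₄.toCoxeterSystem hφ hqq p
  have hn := ntau_st hφ hqq τ CoxeterMatrix.F₄.toCoxeterSystem p
  have hS : FTau hφ hqq (st (p ^ f) τ) τ := ⟨hn.diag, fun i t ht => congrArg Subtype.val (hn.char i t ht)⟩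
  refine OutIdx.congr (outIdx_of (g := st (p ^ f) τ) (m := 2 * f) (by omega) ?_ ?_) e.symm
  · rintro k ⟨x, hx⟩
    rw [← hτ, orderOf_dvd_iff_pow_eq_one]
    have h2 : FTau hφ hqq (MulAut.conj x) (τ ^ k) := by
      rw [hx]
      exact ftau_pow hφ hqq hS k
    have h3 := Cfsg.Agent.H69.OutCount.mem_T_of_diag R (G1_top CoxeterMatrix.F₄.toCoxeterSystem hφ hqq) h2.diag
    exact h2.unique hφ hqq (ftau_conj hφ hqq CoxeterMatrix.F₄.toCoxeterSystem p h3)
  · rw [h1]
    have h4 : Nat.gcd 3 (p ^ f + 1) ≤ 3 := Nat.le_of_dvd (by norm_num) (Nat.gcd_dvd_left 3 _)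
    calc 2 * Nat.gcd 3 (p ^ f + 1) * f ≤ 2 * 3 * f :=
          Nat.mul_le_mul_right _ (Nat.mul_le_mul_left _ h4)
      _ = 3 * (2 * f) := by ring

end Rows

end Cfsg.Agent.H679.OutIdxExc
end

-- part: H446/OutIdxB
section
/-!
# `Out S` is cyclic for `³D₄(q)`, `Sz(q)`, `²G₂(q)`, `²F₄(q)` (helper446, for S4831)
-/

set_option autoImplicit false
set_option linter.unusedSectionVars false

namespace Cfsg.Agent.H446.OutIdxB

open Cfsg Cfsg.Agent.H404.Avg

universe u v

/-- a cyclic group of automorphisms mapping injectively to `Out S`, of the right order -/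
theorem outIdx_one {S : Type u} [Group S] [Finite S] {C : Type v} [Group C] [Finite C] [IsCyclic C]
    (Φ : C →* MulAut S) (hinj : ∀ c, Φ c ∈ Cfsg.Inn S → c = 1) (hc : Nat.card (Cfsg.Out S) = Nat.card C) :
    OutIdx S 1 := by
  obtain ⟨c, hgen⟩ := IsCyclic.exists_generator (α := C)
  let f : C →* Cfsg.Out S := (QuotientGroup.mk' (Cfsg.Inn S)).comp Φ
  have hf : Function.Injective f := by
    rw [injective_iff_map_eq_one]
    intro x hx
    exact hinj x ((QuotientGroup.eq_one_iff _).1 hx)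
  have hfs : Function.Surjective f := by
    have : Function.Bijective f := (Nat.bijective_iff_injective_and_card f).2 ⟨hf, hc.symm⟩
    exact this.2
  refine ⟨Φ c, ?_⟩
  have h1 : (MulAut.conj : S →* MulAut S).range ⊔ Subgroup.zpowers (Φ c) = ⊤ := by
    rw [eq_top_iff]
    intro ψ _
    obtain ⟨x, hx⟩ := hfs (QuotientGroup.mk ψ)
    have h2 : (Φ x)⁻¹ * ψ ∈ Cfsg.Inn S := QuotientGroup.eq.1 hx
    obtain ⟨k, hk⟩ := Subgroup.mem_zpowers_iff.1 (hgen x)
    have h3 : Φ x ∈ Subgroup.zpowers (Φ c) := by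
      rw [← hk, map_zpow]
      exact Subgroup.zpow_mem_zpowers _ _
    have h4 : ψ = Φ x * ((Φ x)⁻¹ * ψ) := by group
    rw [h4]
    exact mul_mem ((le_sup_right : _ ≤ (MulAut.conj : S →* MulAut S).range ⊔ Subgroup.zpowers (Φ c)) h3)
      ((le_sup_left : _ ≤ (MulAut.conj : S →* MulAut S).range ⊔ Subgroup.zpowers (Φ c)) h2)
  rw [h1, Subgroup.index_top]

/-! ### `Sz(q)` -/

theorem idx_sz {S : Type u} [Group S] [Finite S] (h : Cfsg.Lie.IsoSuzuki S) : OutIdx S 1 := by
  obtain ⟨F, _, _, m, hm, hF, ⟨e⟩⟩ := h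
  have : Fact (Nat.Prime 2) := ⟨Nat.prime_two⟩
  have hcyc : IsCyclic (F ≃+* F) := Cfsg.Agent.LieRecognition.FieldSemilinear.isCyclic_ringAut F
  have hfin : Finite (F ≃+* F) := DFunLike.finite _
  refine OutIdx.congr (outIdx_one (C := F ≃+* F) (H70.SzOut.fieldAut (LieRecognition.SzMatrix.good hF)) ?_ ?_) e.symm
  · rintro c ⟨g, hg⟩
    exact H70.SzOut.eq_one_of_conj _ hg.symm
  · rw [H70.SzOut.card_out hm hF]
    exact (Cfsg.Agent.Lib.FieldAutCard.card_ringAut (by omega) hF).symm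

/-! ### the other twisted groups -/

section fld

open Cfsg.Lie Cfsg.Agent.ChevStructure.FieldMap

variable {K : Type u} [Field K]

/-- the field automorphisms of `²G₂` -/
noncomputable def fldRee (e : ℕ) : (K ≃+* K) →* MulAut ↥(twistedG2 K e) where
  toFun τ := S2127.fld τ e
  map_one' := by
    ext1 g
    apply Subtype.ext
    rw [S2127.coe_fld, MulAut.one_apply]
    exact CpAut.RgdTwStd.glE_one _
  map_mul' τ σ := by
    ext1 g
    apply Subtype.ext
    rw [S2127.coe_fld, MulAut.mul_apply, S2127.coe_fld, S2127.coe_fld]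
    exact CpAut.RgdTwStd.glE_mul _ _ _

/-- the field automorphisms of `²F₄` -/
noncomputable def fldF4 (e : ℕ) : (K ≃+* K) →* MulAut ↥(twistedF4 K e) where
  toFun τ := S2128.fld τ e
  map_one' := by
    ext1 g
    apply Subtype.ext
    rw [S2128.coe_fld, MulAut.one_apply]
    exact CpAut.RgdTwStd.glE_one _
  map_mul' τ σ := by
    ext1 g
    apply Subtype.ext
    rw [S2128.coe_fld, MulAut.mul_apply, S2128.coe_fld, S2128.coe_fld]
    exact CpAut.RgdTwStd.glE_mul _ _ _

/-- the field automorphisms of `³D₄` -/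
noncomputable def fldD4 (q : ℕ) : (K ≃+* K) →* MulAut ↥(twistedD4 K q) where
  toFun τ := H69.OutTwD4.st q τ
  map_one' := by
    ext1 g
    apply Subtype.ext
    rw [H69.OutTwD4.st, CpAut.RgdTwStd.coe_fldG, MulAut.one_apply]
    exact CpAut.RgdTwStd.glE_one _
  map_mul' τ σ := by
    ext1 g
    apply Subtype.ext
    rw [H69.OutTwD4.st, H69.OutTwD4.st, H69.OutTwD4.st, CpAut.RgdTwStd.coe_fldG, MulAut.mul_apply,
      CpAut.RgdTwStd.coe_fldG, CpAut.RgdTwStd.coe_fldG]
    exact CpAut.RgdTwStd.glE_mul _ _ _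

end fld

section ree

open Cfsg.Lie Cfsg.Agent.ChevStructure.FieldMap Cfsg.Agent.ChevalleyStructure.Ree.Gens
  Cfsg.Agent.ChevalleyStructure.Ree.Checks Cfsg.Agent.ChevalleyStructure.Ree.Normal
  Cfsg.Agent.ChevalleyStructure.Ree Cfsg.Agent.H71 Cfsg.Agent.LieRecognition

theorem eq_one_of_conj {K : Type v} [Field K] [Fintype K] {G : Type u} [Group G]
    {m : ℕ} {U : K → K → K → G} {h : Kˣ → G} {n : G} {D : ReeAbs.Data m U h n} {Φ : (K ≃+* K) → MulAut G}
    (F : ReeOut.Fld D Φ) {τ : K ≃+* K} {g : G} (hg : MulAut.conj g = Φ τ) : τ = 1 := by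
  have h1 : MulAut.conj g ∈ ReeOut.Fr D := by
    rw [hg]
    exact F.mem τ
  obtain ⟨a, rfl⟩ := (ReeOut.conj_mem_iff D g).1 h1
  have e1 : ∀ t : K, (a : K) ^ (3 ^ (m + 1)) * t = τ t := by
    intro t
    have h2 := congrArg (fun β : MulAut G => β (U t 0 0)) hg
    simp only [MulAut.conj_apply, F.onU, ReeOut.h_U_inv D] at h2
    exact (Cfsg.Agent.LieRecognition.ReeSylowThree.U_injective D h2).1
  have e2 := e1 1
  rw [mul_one, map_one] at e2
  ext t
  rw [← e1, e2, one_mul]
  rfl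

theorem idx_ree {S : Type u} [Group S] [Finite S] (h : Cfsg.Lie.IsoRee S) : OutIdx S 1 := by
  obtain ⟨K, _, _, m, hm, hK, ⟨e⟩⟩ := h
  have : Fact (Nat.Prime 3) := ⟨Nat.prime_three⟩
  have hcyc : IsCyclic (K ≃+* K) := Cfsg.Agent.LieRecognition.FieldSemilinear.isCyclic_ringAut K
  have hfin : Finite (K ≃+* K) := DFunLike.finite _
  obtain ⟨θ, c⟩ := exists_ctx hK
  have F : ReeOut.Fld (Data.data c) (fun τ => S2127.fld τ (3 ^ m)) := by
    refine ⟨?_, ?_, ?_⟩
    · intro τ t u v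
      apply Subtype.ext
      rw [S2127.coe_fld]
      exact S2127.glE_wU τ _ _ _ _
    · intro τ a
      apply Subtype.ext
      rw [S2127.coe_fld]
      exact S2127.glE_tU τ _ _
    · intro τ
      apply Subtype.ext
      rw [S2127.coe_fld]
      exact S2127.glE_nU τ
  have hG : Finite ↥(twistedG2 K (3 ^ m)) := inferInstance
  refine OutIdx.congr (outIdx_one (C := K ≃+* K) (fldRee (3 ^ m)) ?_ ?_) e.symm
  · rintro τ ⟨g, hg⟩
    have h1 : MulAut.conj g ∈ ReeOut.Fr (Data.data c) := by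
      rw [hg]
      exact F.mem τ
    exact eq_one_of_conj F hg
  · rw [ReeOut.card_out hm hK F]
    exact (Cfsg.Agent.Lib.FieldAutCard.card_ringAut (by omega) hK).symm

end ree

section twF4

open Cfsg.Lie Cfsg.Agent.ChevStructure.FieldMap Cfsg.Agent.ChevalleyStructure.TwF4.Rel
  Cfsg.Agent.ChevalleyStructure.TwF4.TwistedFix Cfsg.Agent.Octagon.KRel Cfsg.Agent.KFacts.TwF4.Inst
  Cfsg.Agent.KFacts.TwF4 Cfsg.Agent.TitsThree.RankTwoZ

theorem idx_2f4 {S : Type u} [Group S] [Finite S] (h : Cfsg.Lie.Iso2F4 S) : OutIdx S 1 := by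
  obtain ⟨K, _, _, m, hm, hK, ⟨e⟩⟩ := h
  have hf2 : Fact (Nat.Prime 2) := ⟨Nat.prime_two⟩
  have hch : CharP K 2 := Cfsg.Agent.ChevalleyStructure.TwF4.Twisted.charP_two hK
  have hcyc : IsCyclic (K ≃+* K) := Cfsg.Agent.LieRecognition.FieldSemilinear.isCyclic_ringAut K
  have hfin : Finite (K ≃+* K) := DFunLike.finite _
  obtain ⟨φ, hφ⟩ := exists_rln hK
  have hG : Finite ↥(twistedF4 K (2 ^ m)) := inferInstance
  refine OutIdx.congr (outIdx_one (C := K ≃+* K) (fldF4 (2 ^ m)) ?_ ?_) e.symm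
  · rintro τ ⟨g, hg⟩
    have hg' : MulAut.conj g = S2128.fld τ (2 ^ m) := hg
    have h1 := S2128.eq_one_of_conj (full hK hφ) (g := g) (τ := τ) (fun a t => by
        rw [← MulAut.conj_apply, hg']
        exact S2128.fld_ro τ hφ a t) (fun a p u => by
        rw [← MulAut.conj_apply, hg']
        exact S2128.fld_re τ hφ a p u)
    ext t
    exact h1 t
  · rw [S2128.result hm hK]
    exact (Cfsg.Agent.Lib.FieldAutCard.card_ringAut (p := 2) (by omega) hK).symm

end twF4

section twD4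

open CoxeterSystem Cfsg.Agent.ChevalleyStructure.CoxeterGeom Cfsg.Agent.Tits.Roots Cfsg.Agent.Tits.Core
  Cfsg.Agent.Tits.Exchange Cfsg.Agent.Nodes.Reps Cfsg.Agent.Nodes.BNOf Cfsg.Agent.Nodes.StabComb
  Cfsg.Agent.Nodes.Bruhat Cfsg.Agent.Nodes.OppDec Cfsg.Agent.Nodes.RGDTwGen Cfsg.Agent.Nodes.RGDChev
  Cfsg.Agent.Nodes.RGDFold Cfsg.Agent.Nodes.RGDFoldSL
open Cfsg.Agent.KFacts.RgdOpp Cfsg.Agent.KFacts.RgdAut Cfsg.Agent.KFacts.RgdDiag Cfsg.Agent.KFacts.RgdRigid
  Cfsg.Agent.KFacts.RgdField Cfsg.Agent.KFacts.RgdTau Cfsg.Agent.KFacts.RgdNodes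
open Cfsg.Lie Cfsg.Agent.ChevalleyStructure Cfsg.Agent.ChevalleyStructure.Elts Cfsg.Agent.ChevStructure.FieldMap
open Cfsg.Agent.ChevalleyStructure.SL2Hom (up lo)
open Cfsg.Agent.KFacts.TwDFour.Out
open Cfsg.Agent.Nodes.RGDTwD4 Cfsg.Agent.Nodes.RGDTwNode.D4
open Cfsg.Agent.ParSys.Fam.D4 (hf)
open Cfsg.Agent.CpAut.RgdTwStd
open Cfsg.Agent.H69.OutCount Cfsg.Agent.H69.OutTwD4

theorem idx_3d4 {S : Type u} [Group S] [Finite S] (h : Cfsg.Lie.Iso3D4 S) : OutIdx S 1 := by
  obtain ⟨K, _, _, q, hq, hK, ⟨e⟩⟩ := h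
  have hcyc : IsCyclic (K ≃+* K) := Cfsg.Agent.LieRecognition.FieldSemilinear.isCyclic_ringAut K
  have hfin : Finite (K ≃+* K) := DFunLike.finite _
  obtain ⟨p, hp⟩ := CharP.exists K
  have hpf : Fact p.Prime := ⟨CharP.char_is_prime K p⟩
  have hG : Finite ↥(twistedD4 K q) := inferInstance
  obtain ⟨φ, hφ⟩ := D4Fixed.exists_frob hq hK
  let cs : CoxeterSystem CoxeterMatrix.G₂ CoxeterMatrix.G₂.Group := CoxeterMatrix.G₂.toCoxeterSystem
  have hfinW : Finite CoxeterMatrix.G₂.Group := finiteW cs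
  have R := Cfsg.Agent.Nodes.RGDTwD4.rgd cs hK hφ p
  have hG1 : RGD.Sup (X φ q) {x | IsRoot cs isCartan x} = ⊤ := _root_.Cfsg.Agent.Nodes.RGDTwD4.G1_eq_top cs hK hφ
  refine OutIdx.congr (outIdx_one (C := K ≃+* K) (fldD4 q) ?_ ?_) e.symm
  · rintro τ ⟨g, hg⟩
    have hg' : MulAut.conj g = st q τ := hg
    have h1 : DTau hφ hK (st q τ) τ := dtau_st hφ hK τ cs p
    have h2 : Diag (T K q) (X φ q) (MulAut.conj g) 1 := by
      rw [hg']
      exact h1.diag
    have h3 : g ∈ T K q := mem_T_of_diag R hG1 h2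
    have h4 := dtau_conj hφ hK cs p h3
    rw [hg'] at h4
    exact h1.unique hφ hK h4
  · exact card_out hq hK p

end twD4

end Cfsg.Agent.H446.OutIdxB
end

-- part: H446/GoodPsl
section
/-!
# `Good p (PSL_n(q))`, `n ≥ 3` (helper446, for S4831)
-/

set_option autoImplicit false
set_option linter.unusedSectionVars false

namespace Cfsg.Agent.H446.GoodPsl

open Cfsg Matrix Cfsg.Agent.H404.Avg
open Cfsg.Agent.H671.H5 Cfsg.Agent.H113.PSL.Degrees Cfsg.Agent.H113.PSL.Facts

universe u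

variable {F : Type u} [Field F] [Fintype F]

local notation "𝔮" => Fintype.card F

/-- `|Out PSL_n(q)| ≤ 2 f (q - 1) < 4 (q - 1) ^ 2` -/
theorem card_out_lt {n : ℕ} (hn : 3 ≤ n) :
    Nat.card (Cfsg.Out (ProjectiveSpecialLinearGroup (Fin n) F)) < (2 * (𝔮 - 1)) ^ 2 := by
  obtain ⟨r, hr⟩ := CharP.exists F
  have hrp : Fact r.Prime := ⟨CharP.char_is_prime F r⟩
  obtain ⟨f, -, hf⟩ := FiniteField.card F r
  obtain ⟨φ, hφ, -, hk⟩ := Cfsg.Agent.S2601.result (F := F) (p := r) (f := f) (n := n) f.pos hf hn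
  have h1 := φ.ker.card_mul_index
  have hc : Nat.card (Multiplicative (ZMod f × ZMod 2)) = f * 2 := by
    rw [Nat.card_congr Multiplicative.toAdd, Nat.card_prod, Nat.card_zmod, Nat.card_zmod]
  rw [Subgroup.index_ker, MonoidHom.range_eq_top.2 hφ, Subgroup.card_top, hk, hc, ← hf] at h1
  have hq : 1 < 𝔮 := Fintype.one_lt_card
  have h2 : Nat.gcd n (𝔮 - 1) ≤ 𝔮 - 1 := Nat.gcd_le_right _ (by omega)
  have h3 : (f : ℕ) < 𝔮 := by
    rw [hf]
    exact Nat.lt_pow_self hrp.out.one_lt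
  rw [← h1]
  obtain ⟨x, hx⟩ : ∃ x, 𝔮 = x + 1 := ⟨𝔮 - 1, by omega⟩
  rw [hx] at h2 h3 ⊢
  rw [Nat.add_sub_cancel] at h2 ⊢
  have hx0 : 0 < x := by omega
  calc Nat.gcd n x * ((f : ℕ) * 2) ≤ x * (x * 2) := Nat.mul_le_mul h2 (Nat.mul_le_mul_right 2 (by omega))
    _ < (2 * x) ^ 2 := by nlinarith only [hq, hx]

theorem sq_le_pow {i : ℕ} (hi : 2 ≤ i) : 𝔮 ^ 2 - 1 ≤ 𝔮 ^ i - 1 :=
  Nat.sub_le_sub_right (Nat.pow_le_pow_right (by have := one_lt_q (F := F); omega) hi) 1

theorem pow_pos' {i : ℕ} (hi : 1 ≤ i) : 0 < 𝔮 ^ i - 1 := by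
  have h1 := one_lt_q (F := F)
  have h2 : 𝔮 ^ 1 ≤ 𝔮 ^ i := Nat.pow_le_pow_right (by omega) hi
  rw [pow_one] at h2
  omega

theorem le_pow {i p : ℕ} (hi : 2 ≤ i) (hp : p.Prime) (h : p ∣ 𝔮 ^ i - 1) : p * (𝔮 - 1) ≤ 𝔮 ^ i - 1 := by
  have hq := one_lt_q (F := F)
  have hg := geom (F := F) i
  have hpos := pow_pos' (F := F) (i := i) (by omega)
  have h0 : 0 < ∑ j ∈ Finset.range i, 𝔮 ^ j := by
    rcases Nat.eq_zero_or_pos (∑ j ∈ Finset.range i, 𝔮 ^ j) with h | h
    · rw [h, zero_mul] at hg; omega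
    · exact h
  have h1 := h
  rw [← hg, hp.dvd_mul] at h1
  rcases h1 with h1 | h1
  · rw [← hg]
    exact Nat.mul_le_mul_right _ (Nat.le_of_dvd h0 h1)
  · refine le_trans ?_ (sq_le_pow (F := F) hi)
    refine le_trans (Nat.mul_le_mul_right _ (Nat.le_of_dvd (by omega) h1)) ?_
    obtain ⟨x, hx⟩ : ∃ x, 𝔮 = x + 1 := ⟨𝔮 - 1, by omega⟩
    rw [hx, Nat.add_sub_cancel]
    have : (x + 1) ^ 2 - 1 = x * (x + 2) := by
      have : (x + 1) ^ 2 = x * (x + 2) + 1 := by ring
      omega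
    rw [this]
    exact Nat.mul_le_mul_left _ (by omega)

theorem prod_pos' (k : ℕ) : 0 < ∏ i ∈ Finset.range k, (𝔮 ^ (i + 2) - 1) :=
  Finset.prod_pos fun i _ => pow_pos' (by omega)

theorem le_prod {k j : ℕ} (hj : j < k) : 𝔮 ^ (j + 2) - 1 ≤ ∏ i ∈ Finset.range k, (𝔮 ^ (i + 2) - 1) :=
  Nat.le_of_dvd (prod_pos' k) (Finset.dvd_prod_of_mem (fun i => 𝔮 ^ (i + 2) - 1) (Finset.mem_range.2 hj))

theorem t_le {n t : ℕ} (ht : t ∣ Nat.gcd n (𝔮 - 1)) : t ≤ 𝔮 - 1 := by
  have hq := one_lt_q (F := F)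
  exact Nat.le_of_dvd (by omega) (ht.trans (Nat.gcd_dvd_right _ _))

theorem t_pos {n t : ℕ} (ht : t ∣ Nat.gcd n (𝔮 - 1)) : 0 < t := by
  have hq := one_lt_q (F := F)
  refine Nat.pos_of_ne_zero ?_
  rintro rfl
  have h1 := Nat.eq_zero_of_zero_dvd ht
  have h2 := Nat.gcd_eq_zero_iff.1 h1
  omega

/-- a character of degree divisible by `p` and at least `(q - 1) p` -/
theorem exists_big {n : ℕ} (hn : 3 ≤ n) {p : ℕ} (hp : p.Prime) (h5 : 5 ≤ p)
    (hd : p ∣ Nat.card (ProjectiveSpecialLinearGroup (Fin n) F)) :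
    ∃ φ : IrrCharacter (ProjectiveSpecialLinearGroup (Fin n) F),
      p ∣ charDegree (φ : ProjectiveSpecialLinearGroup (Fin n) F → ℂ) ∧
      (𝔮 - 1) * p ≤ charDegree (φ : ProjectiveSpecialLinearGroup (Fin n) F → ℂ) := by
  have hq := one_lt_q (F := F)
  have hC : ∀ m, 1 ≤ m → HasCusp F m := fun m hm => Cfsg.Agent.H113.PSL.Main.hasCusp F m hm
  -- case A
  have hA : IsA F n p → ∃ φ : IrrCharacter (ProjectiveSpecialLinearGroup (Fin n) F),
      p ∣ charDegree (φ : ProjectiveSpecialLinearGroup (Fin n) F → ℂ) ∧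
      (𝔮 - 1) * p ≤ charDegree (φ : ProjectiveSpecialLinearGroup (Fin n) F → ℂ) := by
    rintro ⟨i, hi, hin, hr⟩
    obtain ⟨φ, t, ht, hφ⟩ := exists_cusp (F := F) (n := n) (by omega) (hC n (by omega))
    have hP : ∏ i ∈ Finset.range (n - 1), (𝔮 ^ (i + 1) - 1) =
        (𝔮 - 1) * ∏ i ∈ Finset.range (n - 2), (𝔮 ^ (i + 2) - 1) := by
      obtain ⟨k, rfl⟩ : ∃ k, n = k + 2 := ⟨n - 2, by omega⟩
      change ∏ i ∈ Finset.range (k + 1), _ = _
      rw [Finset.prod_range_succ', mul_comm]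
      simp only [_root_.zero_add, _root_.pow_one, _root_.add_tsub_cancel_right]
    rw [hP] at hφ
    have hdvd := dvd_of_mul_eq (c := 𝔮 - 1) (by omega) (ht.trans (Nat.gcd_dvd_right _ _)) hφ
    -- an index at least two
    obtain ⟨j, hj2, hjn, hj⟩ : ∃ j, 2 ≤ j ∧ j < n ∧ p ∣ 𝔮 ^ j - 1 := by
      by_cases h1 : i = 1
      · subst h1
        rw [pow_one] at hr
        exact ⟨2, le_rfl, by omega, hr.trans (sub_one_dvd 2)⟩
      · exact ⟨i, by omega, hin, hr⟩
    have hmem : 𝔮 ^ j - 1 ∣ ∏ i ∈ Finset.range (n - 2), (𝔮 ^ (i + 2) - 1) := by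
      have h2 := Finset.dvd_prod_of_mem (fun j => 𝔮 ^ (j + 2) - 1)
        (Finset.mem_range.2 (show j - 2 < n - 2 by omega))
      have h3 : j - 2 + 2 = j := by omega
      simp only [h3] at h2
      exact h2
    refine ⟨φ, (hj.trans hmem).trans hdvd, ?_⟩
    have h1 := le_pow (F := F) hj2 hp hj
    have h2 := Nat.le_of_dvd (prod_pos' (F := F) (n - 2)) hmem
    refine Nat.le_of_mul_le_mul_right ?_ (t_pos ht)
    rw [hφ, mul_assoc]
    refine Nat.mul_le_mul_left _ (le_trans (Nat.mul_le_mul_left _ (t_le ht)) (h1.trans h2))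
  rcases cover hp hd with h | h | h
  · obtain ⟨φ, hφ⟩ := t3 (F := F) (n := n) (by omega)
    refine ⟨φ, ?_, ?_⟩
    · rw [hφ]; exact h.mul_right _
    · rw [hφ]
      have h1 : p ≤ 𝔮 := Nat.le_of_dvd (by omega) h
      have h2 : 𝔮 ≤ ∑ i ∈ Finset.range (n - 1), 𝔮 ^ i := by
        have := Finset.single_le_sum (f := fun i => 𝔮 ^ i) (fun i _ => Nat.zero_le _)
          (Finset.mem_range.2 (show 1 < n - 1 by omega))
        simpa only [_root_.ge_iff_le, _root_.pow_one] using this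
      calc (𝔮 - 1) * p ≤ 𝔮 * 𝔮 := Nat.mul_le_mul (by omega) h1
        _ ≤ _ := Nat.mul_le_mul_left _ h2
  · exact hA h
  · rcases h with h | ⟨i, hi, hin, h⟩
    swap
    · exact hA ⟨i, hi, by omega, h⟩
    by_cases h1 : p ∣ 𝔮 - 1
    · exact hA ⟨1, le_rfl, by omega, by rwa [pow_one]⟩
    obtain ⟨m, rfl⟩ : ∃ m, n = m + 1 := ⟨n - 1, by omega⟩
    obtain ⟨φ, t, ht, hφ⟩ := t2 (F := F) (m := m) (by omega) (hC m (by omega))
    have hdvd := dvd_of_mul_eq (c := 𝔮 - 1) (by omega) (ht.trans (Nat.gcd_dvd_right _ _)) hφ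
    rw [← geom, hp.dvd_mul] at h
    have h2 : p ∣ ∑ i ∈ Finset.range (m + 1), 𝔮 ^ i := h.resolve_right h1
    have hs : 0 < ∑ i ∈ Finset.range (m + 1), 𝔮 ^ i := by
      apply Finset.sum_pos (fun i _ => pow_pos (by omega) _)
      exact ⟨0, Finset.mem_range.2 (by omega)⟩
    refine ⟨φ, (h2.trans (Dvd.intro _ rfl)).trans hdvd, ?_⟩
    refine Nat.le_of_mul_le_mul_right ?_ (t_pos ht)
    rw [hφ, mul_assoc]
    apply Nat.mul_le_mul_left
    rcases Nat.lt_or_ge 2 m with hm | hm
    · refine Nat.mul_le_mul (Nat.le_of_dvd hs h2) ((t_le ht).trans ?_)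
      refine le_trans ?_ (le_prod (F := F) (k := m - 2) (j := 0) (by omega))
      refine Nat.sub_le_sub_right ?_ 1
      calc 𝔮 = 𝔮 ^ 1 := (pow_one _).symm
        _ ≤ 𝔮 ^ (0 + 2) := Nat.pow_le_pow_right (by omega) (by norm_num)
    · have hm2 : m = 2 := by omega
      subst hm2
      simp only [Nat.sub_self, Finset.range_zero, Finset.prod_empty, mul_one]
      have h3 : t ∣ 3 := ht.trans (Nat.gcd_dvd_left _ _)
      rcases (Nat.dvd_prime Nat.prime_three).1 h3 with rfl | rfl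
      · rw [mul_one]
        exact Nat.le_of_dvd hs h2
      · have h4 : 3 ∣ 𝔮 - 1 := ht.trans (Nat.gcd_dvd_right _ _)
        have h6 : 3 ∣ ∑ i ∈ Finset.range (2 + 1), 𝔮 ^ i := by
          simp only [Finset.sum_range_succ, Finset.sum_range_zero, zero_add, pow_zero, pow_one]
          obtain ⟨k, hk⟩ := h4
          have : 𝔮 = 3 * k + 1 := by omega
          rw [this]
          exact ⟨3 * k ^ 2 + 3 * k + 1, by ring⟩
        have h7 : Nat.Coprime p 3 := by
          rw [hp.coprime_iff_not_dvd]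
          intro h8
          have := Nat.le_of_dvd (by norm_num) h8
          omega
        exact Nat.le_of_dvd hs (h7.mul_dvd_of_dvd_of_dvd h2 h6)

/-- **`Good p (PSL_n(q))`, `n ≥ 3`.** -/
theorem good_psl {n : ℕ} (hn : 3 ≤ n) [IsSimpleGroup (Matrix.ProjectiveSpecialLinearGroup (Fin n) F)]
    (hna : ¬ IsMulCommutative (Matrix.ProjectiveSpecialLinearGroup (Fin n) F)) {p : ℕ} (hp : p.Prime) (h5 : 5 ≤ p)
    (hd : p ∣ Nat.card (Matrix.ProjectiveSpecialLinearGroup (Fin n) F))
    (_hOL : OutLin (Matrix.ProjectiveSpecialLinearGroup (Fin n) F)) :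
    Good p (Matrix.ProjectiveSpecialLinearGroup (Fin n) F) := by
  obtain ⟨φ, h1, h2⟩ := exists_big hn hp h5 hd
  have hq := one_lt_q (F := F)
  refine good_of hna φ h1 (c := 2 * (𝔮 - 1) - 1) ?_ ?_
  · have h3 : 2 * (𝔮 - 1) - 1 + 1 = 2 * (𝔮 - 1) := by omega
    rw [h3]
    exact card_out_lt hn
  · have h3 : 2 * (𝔮 - 1) - 1 + 1 = 2 * (𝔮 - 1) := by omega
    rw [h3, mul_assoc]
    exact Nat.mul_le_mul_left 2 h2

end Cfsg.Agent.H446.GoodPsl
end

-- part: H597/PsuGood
section
/-!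
# `Good p (PSU_n(q))`, `n ≥ 4` (S4831, task 1391)
-/

set_option autoImplicit false

namespace Cfsg.Agent.H597.PsuGood

open Cfsg Cfsg.Agent.H404.Avg

universe u

theorem OutIdx.mono {S : Type u} [Group S] {c d : ℕ} (h : OutIdx S c) (hcd : c ≤ d) : OutIdx S d := by
  obtain ⟨g, hg⟩ := h
  exact ⟨g, hg.trans hcd⟩

/-- A cyclic quotient of `Out S` with kernel of order `c`. -/
theorem outIdx_of_ker {S : Type u} [Group S] [Finite S] {m : ℕ} [NeZero m] (φ : Cfsg.Out S →* Multiplicative (ZMod m))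
    (hφ : Function.Surjective φ) : OutIdx S (Nat.card φ.ker) := by
  classical
  have : Finite (MulAut S) := Finite.of_injective (fun f : MulAut S => (f : S → S)) DFunLike.coe_injective
  obtain ⟨x, hx⟩ := hφ (Multiplicative.ofAdd 1)
  obtain ⟨g, rfl⟩ := QuotientGroup.mk_surjective x
  refine ⟨g, ?_⟩
  set mk : MulAut S →* Cfsg.Out S := QuotientGroup.mk' (Cfsg.Inn S) with hmk
  have h1 : ((MulAut.conj : S →* MulAut S).range ⊔ Subgroup.zpowers g).index =
      (Subgroup.zpowers (mk g)).index := by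
    have h2 : (MulAut.conj : S →* MulAut S).range ⊔ Subgroup.zpowers g =
        (Subgroup.zpowers (mk g)).comap mk := by
      rw [← MonoidHom.map_zpowers, Subgroup.comap_map_eq, sup_comm, hmk, QuotientGroup.ker_mk']
    rw [h2, Subgroup.index_comap_of_surjective _ (QuotientGroup.mk'_surjective _)]
  rw [h1]
  -- `zpowers ḡ ⊔ ker φ = ⊤`
  have h3 : Nat.card (Cfsg.Out S) = Nat.card φ.ker * m := by
    have h4 := Subgroup.card_mul_index φ.ker
    rw [Subgroup.index_ker, MonoidHom.range_eq_top.2 hφ, Subgroup.card_top] at h4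
    rw [← h4]
    congr 1
    show Nat.card (ZMod m) = m
    exact Nat.card_zmod m
  have h5 : m ∣ Nat.card (Subgroup.zpowers (mk g)) := by
    rw [Nat.card_zpowers]
    have h6 : orderOf (Multiplicative.ofAdd (1 : ZMod m)) = m := by
      rw [orderOf_ofAdd_eq_addOrderOf, ZMod.addOrderOf_one]
    have h7 : orderOf (φ (mk g)) ∣ orderOf (mk g) := orderOf_map_dvd φ (mk g)
    have h8 : φ (mk g) = Multiplicative.ofAdd 1 := hx
    rwa [h8, h6] at h7
  have h9 := Subgroup.card_mul_index (Subgroup.zpowers (mk g))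
  rw [h3] at h9
  have hm : 0 < m := Nat.pos_of_ne_zero (NeZero.ne m)
  have h10 : m ≤ Nat.card (Subgroup.zpowers (mk g)) := Nat.le_of_dvd Nat.card_pos h5
  have h11 : m * (Subgroup.zpowers (mk g)).index ≤ m * Nat.card φ.ker := by
    calc m * (Subgroup.zpowers (mk g)).index ≤ Nat.card (Subgroup.zpowers (mk g)) * (Subgroup.zpowers (mk g)).index :=
          Nat.mul_le_mul_right _ h10
      _ = Nat.card φ.ker * m := h9
      _ = m * Nat.card φ.ker := mul_comm _ _
  exact Nat.le_of_mul_le_mul_left h11 hm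



/-- target inequality for small `p` -/
theorem small_le {q n d p : ℕ} (hq : 3 ≤ q) (hn : 4 ≤ n) (hd : d ≤ q + 1) (hp : p ≤ q + 1) :
    (d + 1) * p ≤ 2 * ((q - 1) * q ^ (n - 2)) := by
  have h1 : (d + 1) * p ≤ (q + 2) * (q + 1) := Nat.mul_le_mul (by omega) hp
  have h2 : q ^ 2 ≤ q ^ (n - 2) := Nat.pow_le_pow_right (by omega) (by omega)
  obtain ⟨a, rfl⟩ : ∃ a, q = a + 3 := ⟨q - 3, by omega⟩
  have h3 : a + 3 - 1 = a + 2 := by omega
  rw [h3]
  have h4 : (a + 2) * (a + 3) ^ 2 ≤ (a + 2) * (a + 3) ^ (n - 2) := Nat.mul_le_mul_left _ h2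
  nlinarith only [h1, h4]

/-- odd exponents below `n` -/
theorem odd_le {q n d p m : ℕ} (hq : 3 ≤ q) (hn : 4 ≤ n) (hd : d ≤ q + 1) (hm : Odd m) (hmn : m + 1 ≤ n) (hp : p.Prime)
    (h : p ∣ q ^ m + 1) : (d + 1) * p ≤ 2 * ((q - 1) * q ^ (n - 2)) := by
  obtain ⟨M, hM⟩ : q + 1 ∣ q ^ m + 1 := by
    simpa using Odd.nat_add_dvd_pow_add_pow q 1 hm
  rw [hM, hp.dvd_mul] at h
  rcases h with h | h
  · exact small_le hq hn hd (Nat.le_of_dvd (by omega) h)
  · have hM0 : 0 < M := by
      rcases Nat.eq_zero_or_pos M with h0 | h0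
      · rw [h0] at hM
        omega
      · exact h0
    have h1 : p ≤ M := Nat.le_of_dvd hM0 h
    have h2 : (q + 1) * p ≤ q ^ m + 1 := hM ▸ Nat.mul_le_mul_left _ h1
    have h3 : q ^ m ≤ q ^ (n - 1) := Nat.pow_le_pow_right (by omega) (by omega)
    have h4 : q ^ (n - 1) = q * q ^ (n - 2) := by
      rw [← pow_succ']
      congr 1
      omega
    have h5 : q ^ 2 ≤ q ^ (n - 2) := Nat.pow_le_pow_right (by omega) (by omega)
    set t := q ^ (n - 2)
    have h6 : (q + 1) * p ≤ q * t + 1 := by omega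
    have h7 : (d + 1) * p ≤ (q + 2) * p := Nat.mul_le_mul_right _ (by omega)
    refine h7.trans ?_
    -- multiply by q + 1
    refine Nat.le_of_mul_le_mul_left ?_ (show 0 < q + 1 by omega)
    have h8 : (q + 1) * ((q + 2) * p) ≤ (q + 2) * (q * t + 1) := by
      calc (q + 1) * ((q + 2) * p) = (q + 2) * ((q + 1) * p) := by ring
        _ ≤ _ := Nat.mul_le_mul_left _ h6
    refine h8.trans ?_
    clear_value t
    obtain ⟨a, rfl⟩ : ∃ a, q = a + 3 := ⟨q - 3, by omega⟩
    have h9 : a + 3 - 1 = a + 2 := by omega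
    rw [h9]
    linarith only [h5, Nat.zero_le (a * t), Nat.zero_le (a * a * t), _root_.mul_self_nonneg (↑a : ℤ), _root_.Nat.cast_nonneg (α := ℤ) (a)]

/-- even exponents -/
theorem even_le {q n d p m : ℕ} (hq : 3 ≤ q) (hn : 4 ≤ n) (hnq : ¬ (n = 4 ∧ q ≤ 4)) (hd : d ≤ q + 1) (hm1 : 1 ≤ m)
    (hmn : 2 * m ≤ n) (hp : p.Prime) (h : p ∣ q ^ (2 * m) - 1) : (d + 1) * p ≤ 2 * ((q - 1) * q ^ (n - 2)) := by
  have h1 : q ^ (2 * m) - 1 = (q ^ m + 1) * (q ^ m - 1) := by
    rw [mul_comm 2 m, pow_mul]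
    have := Nat.sq_sub_sq (q ^ m) 1
    rw [one_pow] at this
    exact this
  have hqm : q ≤ q ^ m := Nat.le_self_pow (by omega) q
  have h2 : p ≤ q ^ m + 1 := by
    rw [h1, hp.dvd_mul] at h
    rcases h with h | h
    · exact Nat.le_of_dvd (by omega) h
    · exact (Nat.le_of_dvd (by omega) h).trans (by omega)
  by_cases hn4 : n = 4
  · subst hn4
    have hq5 : 5 ≤ q := by omega
    have h3 : q ^ m ≤ q ^ 2 := Nat.pow_le_pow_right (by omega) (by omega)
    have h4 : (d + 1) * p ≤ (q + 2) * (q ^ 2 + 1) := Nat.mul_le_mul (by omega) (by omega)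
    refine h4.trans ?_
    show (q + 2) * (q ^ 2 + 1) ≤ 2 * ((q - 1) * q ^ 2)
    obtain ⟨a, rfl⟩ : ∃ a, q = a + 5 := ⟨q - 5, by omega⟩
    have h5 : a + 5 - 1 = a + 4 := by omega
    rw [h5]
    linarith only [Nat.zero_le (a * a * a), _root_.mul_self_nonneg (↑a : ℤ), _root_.Nat.cast_nonneg (α := ℤ) (a)]
  · have h3 : q ^ (m + 1) ≤ q ^ (n - 2) := Nat.pow_le_pow_right (by omega) (by omega)
    have h4 : (d + 1) * p ≤ (q + 2) * (q ^ m + 1) := Nat.mul_le_mul (by omega) h2
    refine h4.trans ?_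
    have h5 : 2 * ((q - 1) * q ^ (m + 1)) ≤ 2 * ((q - 1) * q ^ (n - 2)) :=
      Nat.mul_le_mul_left _ (Nat.mul_le_mul_left _ h3)
    refine le_trans ?_ h5
    rw [pow_succ]
    set t := q ^ m
    clear_value t
    obtain ⟨a, rfl⟩ : ∃ a, q = a + 3 := ⟨q - 3, by omega⟩
    have h6 : a + 3 - 1 = a + 2 := by omega
    rw [h6]
    linarith only [hqm, Nat.zero_le (a * t), Nat.zero_le (a * a * t)]

/-- the top exponent, `n` odd -/
theorem top_le {q n d p : ℕ} (hq : 3 ≤ q) (hn : 4 ≤ n) (hd : d = Nat.gcd n (q + 1)) (hd4 : 4 ≤ d) (ho : Odd n)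
    (hp : p.Prime) (h : p ∣ q ^ n + 1) : (d + 1) * p ≤ 2 * ((q - 1) * q ^ (n - 2)) := by
  have hdq : d ∣ q + 1 := hd ▸ Nat.gcd_dvd_right _ _
  have hdn : d ∣ n := hd ▸ Nat.gcd_dvd_left _ _
  have hdle : d ≤ q + 1 := Nat.le_of_dvd (by omega) hdq
  by_cases hnp : n.Prime
  · have hdn' : d = n := ((Nat.dvd_prime hnp).1 hdn).resolve_left (by omega)
    obtain ⟨M, hM⟩ : q + 1 ∣ q ^ n + 1 := by
      simpa using Odd.nat_add_dvd_pow_add_pow q 1 ho
    rw [hM, hp.dvd_mul] at h
    by_cases hpq : p ∣ q + 1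
    · exact small_le hq hn hdle (Nat.le_of_dvd (by omega) hpq)
    have h1 : p ∣ M := h.resolve_left hpq
    have hM0 : 0 < M := by
      rcases Nat.eq_zero_or_pos M with h0 | h0
      · rw [h0] at hM
        omega
      · exact h0
    -- `n ∣ M`
    have h2 : n ∣ M := by
      have h3 : (((q + 1 : ℕ) : ℤ)) * (M : ℤ) = (q : ℤ) ^ n + 1 := by exact_mod_cast hM.symm
      have h4 : (q : ℤ) ^ n + 1 = ((q : ℤ) + 1) * ∑ i ∈ Finset.range n, (-1) ^ i * (q : ℤ) ^ (n - 1 - i) := by
        have h5 := Commute.geom_sum₂_mul (R := ℤ) (Commute.all (-1 : ℤ) (q : ℤ)) n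
        rw [Odd.neg_one_pow ho] at h5
        linear_combination h5
      have h5 : (M : ℤ) = ∑ i ∈ Finset.range n, (-1) ^ i * (q : ℤ) ^ (n - 1 - i) := by
        rw [h4] at h3
        have h6 : ((q : ℤ) + 1) ≠ 0 := by positivity
        push_cast at h3
        exact mul_left_cancel₀ h6 h3
      have h6 : ((M : ℤ) : ZMod n) = 0 := by
        rw [h5]
        push_cast
        have h7 : (q : ZMod n) = -1 := by
          have h8 : ((q + 1 : ℕ) : ZMod n) = 0 := (ZMod.natCast_eq_zero_iff _ _).2 (hdn' ▸ hdq)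
          push_cast at h8
          linear_combination h8
        rw [h7]
        have h8 : ∀ i ∈ Finset.range n, (-1 : ZMod n) ^ i * (-1) ^ (n - 1 - i) = 1 := by
          intro i hi
          rw [Finset.mem_range] at hi
          rw [← pow_add, show i + (n - 1 - i) = n - 1 by omega]
          obtain ⟨k, hk⟩ := ho
          rw [hk, Nat.add_sub_cancel, pow_mul]
          simp only [_root_.even_two, _root_.Even.neg_pow, _root_.one_pow]
        rw [Finset.sum_congr rfl h8]
        simp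
      rw [Int.cast_natCast, ZMod.natCast_eq_zero_iff] at h6
      exact h6
    have hpn : p ≠ n := fun h3 => hpq (h3 ▸ hdn' ▸ hdq)
    have h3 : n * p ∣ M := Nat.Coprime.mul_dvd_of_dvd_of_dvd ((Nat.coprime_primes hnp hp).2 (Ne.symm hpn)) h2 h1
    have h4 : n * p ≤ M := Nat.le_of_dvd hM0 h3
    have h5 : (q + 1) * (n * p) ≤ q ^ n + 1 := hM ▸ Nat.mul_le_mul_left _ h4
    have h6 : q ^ n = q * q * q ^ (n - 2) := by
      rw [mul_assoc, ← pow_succ', ← pow_succ']
      congr 1
      omega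
    rw [h6] at h5
    have ht : 1 ≤ q ^ (n - 2) := Nat.one_le_pow _ _ (by omega)
    rw [hdn']
    have hn5 : 5 ≤ n := by
      rcases ho with ⟨k, hk⟩
      omega
    have hq4 : 4 ≤ q := by
      have := Nat.le_of_dvd (by omega) hdq
      omega
    set t := q ^ (n - 2)
    clear_value t
    refine Nat.le_of_mul_le_mul_left ?_ (show 0 < (q + 1) * n by positivity)
    have h7 : (q + 1) * n * ((n + 1) * p) ≤ (n + 1) * (q * q * t + 1) := by
      calc (q + 1) * n * ((n + 1) * p) = (n + 1) * ((q + 1) * (n * p)) := by ring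
        _ ≤ _ := Nat.mul_le_mul_left _ h5
    refine h7.trans ?_
    obtain ⟨a, rfl⟩ : ∃ a, q = a + 4 := ⟨q - 4, by omega⟩
    obtain ⟨b, rfl⟩ : ∃ b, n = b + 5 := ⟨n - 5, by omega⟩
    obtain ⟨s, rfl⟩ : ∃ s, t = s + 1 := ⟨t - 1, by omega⟩
    have h8 : a + 4 - 1 = a + 3 := by omega
    rw [h8]
    have hz : (a + 4 + 1) * (b + 5) * (2 * ((a + 3) * (s + 1))) =
        (b + 5 + 1) * ((a + 4) * (a + 4) * (s + 1) + 1) +
        (a ^ 2 * b * s + a ^ 2 * b + 4 * a ^ 2 * s + 4 * a ^ 2 + 8 * a * b * s + 8 * a * b + 32 * a * s + 32 * a +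
          14 * b * s + 13 * b + 54 * s + 48) := by ring
    rw [hz]
    exact Nat.le_add_right _ _
  · -- composite
    set a := n.minFac with ha
    obtain ⟨b, hb⟩ : a ∣ n := Nat.minFac_dvd n
    have hap : a.Prime := Nat.minFac_prime (by omega)
    have hao : Odd a := Odd.of_dvd_nat ho ⟨b, hb⟩
    have hbo : Odd b := Odd.of_dvd_nat ho ⟨a, by rw [hb, mul_comm]⟩
    have hb1 : b ≠ 1 := by
      rintro rfl
      rw [mul_one] at hb
      exact hnp (hb ▸ hap)
    have ha3 : 3 ≤ a := by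
      have := hap.two_le
      rcases hao with ⟨k, hk⟩
      omega
    have hb3 : 3 ≤ b := by
      rcases hbo with ⟨k, hk⟩
      omega
    obtain ⟨M, hM⟩ : q ^ a + 1 ∣ q ^ n + 1 := by
      have := Odd.nat_add_dvd_pow_add_pow (q ^ a) 1 hbo
      rw [one_pow, ← pow_mul, ← hb] at this
      exact this
    have hM0 : 0 < M := by
      rcases Nat.eq_zero_or_pos M with h0 | h0
      · rw [h0] at hM
        omega
      · exact h0
    have key : p ≤ q ^ (n - 3) := by
      rw [hM, hp.dvd_mul] at h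
      rcases h with h | h
      · have h1 : p ≤ q ^ a + 1 := Nat.le_of_dvd (by omega) h
        have h2 : 1 ≤ q ^ a := Nat.one_le_pow _ _ (by omega)
        have h3 : q ^ (a + 1) ≤ q ^ (n - 3) := Nat.pow_le_pow_right (by omega) (by nlinarith only [hb, ha3, hb3, Nat.sub_add_cancel (show 3 ≤ n by omega)])
        rw [pow_succ] at h3
        nlinarith only [hq, h1, h2, h3]
      · have h1 : (q ^ a + 1) * p ≤ q ^ n + 1 := hM ▸ Nat.mul_le_mul_left _ (Nat.le_of_dvd hM0 h)
        have h2 : q ^ 3 ≤ q ^ a := Nat.pow_le_pow_right (by omega) ha3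
        have h3 : q ^ n = q ^ 3 * q ^ (n - 3) := by
          rw [← pow_add]
          congr 1
          omega
        have h4 : (q ^ 3 + 1) * p ≤ (q ^ a + 1) * p := Nat.mul_le_mul_right _ (by omega)
        have h5 : q ^ 3 * p + p ≤ q ^ 3 * q ^ (n - 3) + 1 := by
          rw [← h3]
          calc q ^ 3 * p + p = (q ^ 3 + 1) * p := by ring
            _ ≤ _ := h4.trans h1
        have h6 := hp.one_lt
        exact Nat.le_of_mul_le_mul_left (show q ^ 3 * p ≤ q ^ 3 * q ^ (n - 3) by omega) (by positivity)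
    have h1 : q ^ (n - 2) = q * q ^ (n - 3) := by
      rw [← pow_succ']
      congr 1
      omega
    rw [h1]
    set t := q ^ (n - 3)
    clear_value t
    calc (d + 1) * p ≤ (q + 2) * t := Nat.mul_le_mul (by omega) key
      _ ≤ (2 * ((q - 1) * q)) * t := by
        refine Nat.mul_le_mul_right _ ?_
        obtain ⟨a, rfl⟩ : ∃ a, q = a + 3 := ⟨q - 3, by omega⟩
        have h6 : a + 3 - 1 = a + 2 := by omega
        rw [h6]
        nlinarith only []
      _ = _ := by ring


/-- primes dividing `|PSU_n(q)|` -/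
theorem prime_le {F : Type*} [Field F] [Fintype F] {n q : ℕ} (hF : Fintype.card F = q ^ 2) (hn : 4 ≤ n) (hq : 3 ≤ q)
    (hnq : ¬ (n = 4 ∧ q ≤ 4)) (hd4 : 4 ≤ Nat.gcd n (q + 1)) {p : ℕ} (hp : p.Prime) (h : p ∣ Nat.card (Cfsg.PSU n F q)) :
    (Nat.gcd n (q + 1) + 1) * p ≤ 2 * ((q - 1) * q ^ (n - 2)) := by
  have hd : Nat.gcd n (q + 1) ≤ q + 1 := Nat.gcd_le_right _ (by omega)
  have h1 := Cfsg.Agent.S0280.result hF n (by omega)
  have h2 : p ∣ q ^ (n * (n - 1) / 2) * ∏ i ∈ Finset.range n, (if Even i then q ^ (i + 1) + 1 else q ^ (i + 1) - 1) := by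
    rw [← h1]
    exact Dvd.dvd.mul_left (Dvd.dvd.mul_left h _) _
  rw [hp.dvd_mul] at h2
  rcases h2 with h2 | h2
  · exact small_le hq hn hd ((Nat.le_of_dvd (by omega) (hp.dvd_of_dvd_pow h2)).trans (by omega))
  · obtain ⟨i, hi, h3⟩ := (Prime.dvd_finsetProd_iff hp.prime _).1 h2
    rw [Finset.mem_range] at hi
    by_cases he : Even i
    · rw [if_pos he] at h3
      by_cases hin : i + 1 = n
      · rw [hin] at h3
        exact top_le hq hn rfl hd4 (hin ▸ he.add_one) hp h3
      · exact odd_le hq hn hd he.add_one (by omega) hp h3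
    · rw [if_neg he] at h3
      rw [Nat.not_even_iff_odd] at he
      obtain ⟨k, hk⟩ := he
      refine even_le hq hn hnq hd (m := k + 1) (by omega) (by omega) hp ?_
      rwa [show 2 * (k + 1) = i + 1 by omega]

/-- **`Good p (PSU_n(q))`, `n ≥ 4`.** -/
theorem good_psu {F : Type u} [Field F] [Fintype F] {n q : ℕ} (hF : Fintype.card F = q ^ 2) (hn : 4 ≤ n)
    [IsSimpleGroup (Cfsg.PSU n F q)] (hna : ¬ IsMulCommutative (Cfsg.PSU n F q)) {p : ℕ} (hp : p.Prime) (_h5 : 5 ≤ p)
    (hd : p ∣ Nat.card (Cfsg.PSU n F q))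
    (hIM : ∃ χ : IrrCharacter (Cfsg.PSU n F q), p ∣ charDegree (χ : Cfsg.PSU n F q → ℂ))
    (hOL : OutLin (Cfsg.PSU n F q)) : Good p (Cfsg.PSU n F q) := by
  classical
  obtain ⟨r, _, k, hr, hk⟩ := FiniteField.card' F
  have : Fact r.Prime := ⟨hr⟩
  obtain ⟨f, -, hf⟩ : ∃ f ≤ (k : ℕ), q = r ^ f := (Nat.dvd_prime_pow hr).1 ⟨q, by rw [← hk, hF, sq]⟩
  have hq2 : 2 ≤ q := by
    have := Fintype.one_lt_card (α := F)
    rw [hF] at this
    by_contra hcon
    push Not at hcon
    interval_cases q <;> simp at this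
  have hf1 : 1 ≤ f := by
    rcases Nat.eq_zero_or_pos f with h0 | h0
    · rw [h0, pow_zero] at hf
      omega
    · exact h0
  have : NeZero (2 * f) := ⟨by omega⟩
  obtain ⟨φ, hφ, -, hφc⟩ := Cfsg.Agent.H183.OutPSU.out_psu hf1 hf hF (by omega) (by omega : ¬ (n = 3 ∧ q = 2))
  have hidx := outIdx_of_ker φ hφ
  rw [hφc] at hidx
  by_cases hd3 : Nat.gcd n (q + 1) ≤ 3
  · exact good_of_im hna hp hIM hOL (Or.inl (OutIdx.mono hidx hd3))
  push Not at hd3
  have hq3 : 3 ≤ q := by
    have := Nat.gcd_le_right n (show 0 < q + 1 by omega)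
    omega
  by_cases hnq : n = 4 ∧ q ≤ 4
  · obtain ⟨rfl, hq4⟩ := hnq
    have hq' : q = 3 := by
      rcases Nat.lt_or_ge q 4 with h | h
      · omega
      · obtain rfl : q = 4 := by omega
        exact absurd hd3 (by decide)
    subst hq'
    have hf' : f = 1 := by
      have h1 : Nat.Prime (r ^ f) := hf ▸ Nat.prime_three
      exact (Nat.Prime.eq_one_of_pow h1)
    refine good_of_im hna hp hIM hOL (Or.inr ?_)
    have h4 := Subgroup.card_mul_index φ.ker
    rw [Subgroup.index_ker, MonoidHom.range_eq_top.2 hφ, Subgroup.card_top, hφc] at h4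
    rw [← h4, hf']
    have h5 : Nat.card (Multiplicative (ZMod (2 * 1))) = 2 := Nat.card_zmod 2
    rw [h5]
    decide
  · obtain ⟨α, hα⟩ := hIM
    have hα1 : charDegree (α : Cfsg.PSU n F q → ℂ) ≠ 1 := by
      intro h1
      rw [h1] at hα
      exact hp.one_lt.not_ge (Nat.le_of_dvd one_pos hα)
    have h1 := Cfsg.Agent.H597.PsuDeg.md_psu hF (by omega) (MulEquiv.refl (Cfsg.PSU n F q)) α hα1
    refine good_of_idx hna α hα hidx ?_
    exact (prime_le hF hn hq3 hnq hd3 hp hd).trans (Nat.mul_le_mul_left _ h1)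

end Cfsg.Agent.H597.PsuGood
end

-- part: H211/Avg/OPlus
section
/-!
# `Good p S` for `S = PΩ⁺_{2m}(q)` (task 1392, for S4831)
-/

set_option autoImplicit false

open scoped ComplexConjugate
open Cfsg

namespace Cfsg.Agent.H211.Avg

open Cfsg.Agent.Characters Module Cfsg.Agent.H53.HC Cfsg.Agent.H33 Cfsg.Agent.H477.HC Cfsg.Agent.H404.Avg

universe u

/-- the character of `PΩ` below a Harish-Chandra character of the isometry group, with its degree -/
theorem exists_irr {ι : Type} [Fintype ι] [DecidableEq ι] {K : Type u} [Field K] [Finite K] (F : CForm K (ι → K))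
    (hB : ∀ u v, F.B u v = F.Q (u + v) - F.Q u - F.Q v) {k : ℕ} {W₀ : Submodule K (ι → K)} (hW₀ : W₀ ∈ F.Om k)
    {Z : Kˣ → Prop} {c : GL (Fin k) K → ℂ} (hc : Cus K k F.σ Z c)
    (hcen : ∀ z : Omega K F.Q, z ∈ Subgroup.center (Omega K F.Q) → ∃ a : Kˣ, Z a ∧ ∀ v, (omMat z).mulVec v = (a : K) • v) :
    ∃ α : IrrCharacter (POmega K F.Q), 0 < charDegree (α : POmega K F.Q → ℂ) ∧
      charDegree (α : POmega K F.Q → ℂ) ∣ dg F k ∧
      dg F k / charDegree (α : POmega K F.Q → ℂ) ∣ (Omega K F.Q).index := by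
  obtain ⟨χ, hχ, hχ1, hχz⟩ := om_char F hB hW₀ hc
  obtain ⟨θ, e, hθ, he, h3, h4, h5, h6⟩ := down_constituent (Omega K F.Q) hχ hχ1
  obtain ⟨η, hη, hη'⟩ := exists_quot (Subgroup.center (Omega K F.Q)) hθ fun z hzc => h6 z hzc (by
    obtain ⟨a, ha, h⟩ := hcen z hzc
    exact hχz z a ha h)
  have h7 : charDegree η = e := by
    apply Cfsg.Agent.Blocks.Basic.charDegree_of_eq
    rw [← he, ← hη' 1]
    rfl
  refine ⟨⟨η, hη⟩, ?_⟩
  change 0 < charDegree η ∧ charDegree η ∣ dg F k ∧ dg F k / charDegree η ∣ _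
  rw [h7]
  exact ⟨h5, h3, h4⟩

/-- consequences for the degree -/
theorem deg_facts {d e idx : ℕ} (he : 0 < e) (h1 : e ∣ d) (h2 : d / e ∣ idx) (h8 : idx ∣ 8) :
    d ≤ 8 * e ∧ ∀ p : ℕ, p.Prime → 5 ≤ p → p ∣ d → p ∣ e := by
  obtain ⟨f, rfl⟩ := h1
  rw [Nat.mul_div_cancel_left _ he] at h2
  have h3 : f ∣ 8 := h2.trans h8
  refine ⟨?_, fun p hp h5 hpd => ?_⟩
  · have := Nat.le_of_dvd (by norm_num) h3
    nlinarith
  · rcases hp.dvd_mul.1 hpd with h | h
    · exact h
    · have h4 : p ∣ 2 ^ 3 := h.trans h3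
      have := (Nat.prime_dvd_prime_iff_eq hp Nat.prime_two).1 (hp.dvd_of_dvd_pow h4)
      omega

theorem coprime_of_sub {r q i : ℕ} (hq : r ∣ q) (hi : 0 < i) (hr : r.Prime) (hq1 : 1 ≤ q) : Nat.Coprime r (q ^ i - 1) := by
  rw [Nat.Prime.coprime_iff_not_dvd hr]
  intro h
  have h1 : r ∣ q ^ i := hq.trans (dvd_pow_self q hi.ne')
  have h2 : 1 ≤ q ^ i := Nat.one_le_pow _ _ hq1
  have h3 : r ∣ 1 := by
    have := (Nat.dvd_sub h1 h)
    rwa [Nat.sub_sub_self h2] at this
  exact hr.one_lt.ne' (Nat.dvd_one.1 h3)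

theorem card_out_le {F : Type u} [Field F] [Fintype F] {r f m : ℕ} [Fact r.Prime] (hf : 1 ≤ f)
    (hF : Fintype.card F = r ^ f) (hm : 4 ≤ m)
    [IsSimpleGroup (Cfsg.POmega F (Cfsg.quadFormPlus m F))]
    (hna : ¬ IsMulCommutative (Cfsg.POmega F (Cfsg.quadFormPlus m F))) :
    Nat.card (Cfsg.Out (Cfsg.POmega F (Cfsg.quadFormPlus m F))) ≤ 24 * f := by
  rw [H934.OutB.card_out_of_aut hna (S0817.result r f hf hF m hm)]
  refine Nat.mul_le_mul_right _ ?_
  split_ifs <;> norm_num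

theorem num1 {q f p : ℕ} (hq : 2 ≤ q) (hf : f ≤ q) (Q : ℕ) (hQ : q ^ 3 ≤ Q) (hp : p ≤ Q + 1) :
    20 * f * p ≤ ((q ^ 2 - 1) * (q ^ 4 - 1)) * ((Q + 1) * (Q - 1)) := by
  have h2 : 3 ≤ q ^ 2 - 1 := by
    have : 2 ^ 2 ≤ q ^ 2 := Nat.pow_le_pow_left hq 2
    omega
  have h4 : 15 ≤ q ^ 4 - 1 := by
    have : 2 ^ 4 ≤ q ^ 4 := Nat.pow_le_pow_left hq 4
    omega
  have h3 : 4 * q ≤ q ^ 3 := by
    have : 2 ^ 2 ≤ q ^ 2 := Nat.pow_le_pow_left hq 2
    nlinarith only [hq, _root_.sq_nonneg (↑q : ℤ), _root_.Nat.cast_nonneg (α := ℤ) (q)]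
  have h5 : 20 * f ≤ 45 * (Q - 1) := by omega
  calc 20 * f * p ≤ (45 * (Q - 1)) * (Q + 1) := Nat.mul_le_mul h5 hp
    _ = (3 * 15) * ((Q + 1) * (Q - 1)) := by ring
    _ ≤ _ := Nat.mul_le_mul_right _ (Nat.mul_le_mul h2 h4)

theorem num2 {q f p : ℕ} (hq : 2 ≤ q) (hf : f ≤ q) (Q R : ℕ) (hQ : q ^ 3 ≤ Q) (hp : p ≤ R) :
    20 * f * p * (Q - 1) ≤ R * (q ^ 1 + 1) * ((q ^ 4 - 1) * ((Q + 1) * (Q - 1))) := by
  have h4 : 15 ≤ q ^ 4 - 1 := by
    have : 2 ^ 4 ≤ q ^ 4 := Nat.pow_le_pow_left hq 4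
    omega
  have h3 : 4 * q ≤ q ^ 3 := by
    have : 2 ^ 2 ≤ q ^ 2 := Nat.pow_le_pow_left hq 2
    nlinarith only [hq, _root_.sq_nonneg (↑q : ℤ), _root_.Nat.cast_nonneg (α := ℤ) (q)]
  have h5 : 20 * f ≤ 3 * (15 * (Q + 1)) := by omega
  calc 20 * f * p * (Q - 1) ≤ (3 * (15 * (Q + 1))) * R * (Q - 1) :=
        Nat.mul_le_mul_right _ (Nat.mul_le_mul h5 hp)
    _ = R * 3 * (15 * ((Q + 1) * (Q - 1))) := by ring
    _ ≤ _ := Nat.mul_le_mul (Nat.mul_le_mul_left _ (by rw [pow_one]; omega)) (Nat.mul_le_mul_right _ h4)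

theorem good_plus_cross {K : Type u} [Field K] [Fintype K] {r f m : ℕ} [Fact r.Prime] [CharP K r] (hf : 1 ≤ f)
    (hK : Fintype.card K = r ^ f) (hm : 4 ≤ m)
    [IsSimpleGroup (Cfsg.POmega K (Cfsg.quadFormPlus m K))]
    (hna : ¬ IsMulCommutative (Cfsg.POmega K (Cfsg.quadFormPlus m K))) {p : ℕ} (hp : p.Prime) (h5 : 5 ≤ p)
    (hpr : p ≠ r) (hd : p ∣ Nat.card (Cfsg.POmega K (Cfsg.quadFormPlus m K))) :
    Good p (Cfsg.POmega K (Cfsg.quadFormPlus m K)) := by
  classical
  have hr : r.Prime := Fact.out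
  have hs : Nat.card K = r ^ f := by rw [Nat.card_eq_fintype_card, hK]
  obtain ⟨q, hq⟩ : ∃ q, q = Nat.card K := ⟨_, rfl⟩
  have hq2 : 2 ≤ Nat.card K := Finite.one_lt_card
  have hfq : f ≤ Nat.card K := by
    rw [hs]
    exact (Nat.lt_pow_self hr.one_lt).le
  have hrq : r ∣ Nat.card K := by rw [hs]; exact dvd_pow_self r (by omega)
  have hpq : ¬ p ∣ Nat.card K := by
    rw [hs]; intro h; exact hpr ((Nat.prime_dvd_prime_iff_eq hp hr).1 (hp.dvd_of_dvd_pow h))
  have hd1 : p ∣ Nat.card (isometryGroup K (quadFormPlus m K)) :=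
    hd.trans ((Subgroup.card_quotient_dvd_card _).trans (Subgroup.card_subgroup_dvd_card _))
  have hd2 : p ∣ Nat.card (CForm.plusF K m).iso := by
    rwa [← Nat.card_congr (isoQuad (CForm.plusF K m) (plus_hB K m)).toEquiv]
  rw [card_plusF K (by omega)] at hd2
  have hout := card_out_le (r := r) hf hK hm hna
  have hc : Nat.card (Cfsg.Out (Cfsg.POmega K (Cfsg.quadFormPlus m K))) < ((5 * f - 1) + 1) ^ 2 := by
    rw [Nat.sub_add_cancel (by omega)]
    nlinarith only [hf, hout]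
  -- the conclusion from a divisor of the degree
  have key : ∀ (k n : ℕ), k + n = m → 3 ≤ k → p ∣ dg (CForm.plusF K (k + n)) k →
      20 * f * p ≤ dg (CForm.plusF K (k + n)) k → Good p (POmega K (quadFormPlus m K)) := by
    rintro k n rfl hk hdeg hle
    obtain ⟨c, hc'⟩ := exists_cus_sq K rfl k (by omega) (fun _ => hk) (fun _ => hk) (fun _ => by omega)
    obtain ⟨⟨W₀, hW₀⟩, -⟩ := CForm.plusF_frame (K := K) (p := r) k n
    obtain ⟨α, h1, h2, h3⟩ := exists_irr (CForm.plusF K (k + n)) (plus_hB K (k + n)) hW₀ hc'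
      (fun z hz => scal_of (cen_plus K (by omega) z hz))
    obtain ⟨h6, h7⟩ := deg_facts h1 h2 h3 (plus_idx K hm)
    refine good_of hna α (h7 p hp h5 hdeg) hc ?_
    rw [Nat.sub_add_cancel (by omega)]
    have h8 : 20 * f * p = 4 * (5 * f * p) := by ring
    have h9 : 5 * f * p ≤ 2 * charDegree (α : POmega K (CForm.plusF K (k + n)).Q → ℂ) := by omega
    exact h9
  have hcop : ∀ e i, 0 < i → Nat.Coprime (Nat.card K ^ i - 1) (r ^ e) := fun e i hi =>
    (Nat.Coprime.pow_left e (coprime_of_sub hrq hi hr (by omega))).symm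
  have hpos : ∀ i, 0 < i → 0 < Nat.card K ^ i - 1 := fun i hi => by
    have := Nat.one_lt_pow hi.ne' hq2
    omega
  have hcube : Nat.card K ^ 3 ≤ Nat.card K ^ (m - 1) := Nat.pow_le_pow_right (by omega) (by omega)
  by_cases hA : p ∣ ∏ i ∈ Finset.range (m - 1), (Nat.card K ^ (2 * (i + 1)) - 1)
  · obtain ⟨e, he⟩ := plus_dvd_top K (p := r) (m := m) (by omega)
    have h1 : ∏ i ∈ Finset.range (m - 1), (Nat.card K ^ (2 * (i + 1)) - 1) ∣ dg (CForm.plusF K (m + 0)) m :=
      (Nat.Coprime.prod_left fun i _ => hcop e _ (by omega)).dvd_of_dvd_mul_left he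
    have h0 : 0 < dg (CForm.plusF K (m + 0)) m := by
      obtain ⟨c, hc'⟩ := exists_cus_sq K rfl m (by omega) (fun _ => by omega) (fun _ => by omega) (fun _ => by omega)
      obtain ⟨⟨W₀, hW₀⟩, -⟩ := CForm.plusF_frame (K := K) (p := r) m 0
      obtain ⟨χ, hχ, hχ1, -⟩ := om_char (CForm.plusF K (m + 0)) (plus_hB K (m + 0)) hW₀ hc'
      have := Core.isIrr_apply_one_ne_zero hχ
      rw [hχ1] at this
      exact Nat.pos_of_ne_zero fun h => this (by rw [h]; simp)
    refine key m 0 (Nat.add_zero m) (by omega) (hA.trans h1) (le_trans ?_ (Nat.le_of_dvd h0 h1))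
    have hple : p ≤ Nat.card K ^ (m - 1) + 1 := by
      obtain ⟨i, hi, hi'⟩ := (Prime.dvd_finsetProd_iff hp.prime _).1 hA
      rw [Finset.mem_range] at hi
      have h2 : Nat.card K ^ (i + 1) ≤ Nat.card K ^ (m - 1) := Nat.pow_le_pow_right (by omega) (by omega)
      rw [sq_sub] at hi'
      rcases hp.dvd_mul.1 hi' with h | h
      · have := Nat.le_of_dvd (by omega) h
        omega
      · have := Nat.le_of_dvd (hpos _ (by omega)) h
        omega
    have h2 : ∏ i ∈ Finset.range (m - 1), (Nat.card K ^ (2 * (i + 1)) - 1) =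
        (∏ i ∈ Finset.range (m - 2), (Nat.card K ^ (2 * (i + 1)) - 1)) *
          ((Nat.card K ^ (m - 1) + 1) * (Nat.card K ^ (m - 1) - 1)) := by
      obtain ⟨j, rfl⟩ : ∃ j, m = j + 2 := ⟨m - 2, by omega⟩
      rw [show j + 2 - 1 = j + 1 by omega, show j + 2 - 2 = j by omega, Finset.prod_range_succ, sq_sub]
    have h3 : (Nat.card K ^ 2 - 1) * (Nat.card K ^ 4 - 1) ≤
        ∏ i ∈ Finset.range (m - 2), (Nat.card K ^ (2 * (i + 1)) - 1) := by
      rw [← Finset.prod_range_mul_prod_Ico _ (show 2 ≤ m - 2 by omega), Finset.prod_range_succ, Finset.prod_range_one]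
      exact Nat.le_mul_of_pos_right _ (Finset.prod_pos fun i _ => hpos _ (by omega))
    rw [h2]
    exact (num1 hq2 hfq _ hcube hple).trans (Nat.mul_le_mul_right _ h3)
  · have hA2 : ∀ i, i < m - 1 → ¬ p ∣ Nat.card K ^ (2 * (i + 1)) - 1 := fun i hi h =>
      hA (h.trans (Finset.dvd_prod_of_mem (fun i => Nat.card K ^ (2 * (i + 1)) - 1) (Finset.mem_range.2 hi)))
    have hB : p ∣ Nat.card K ^ m - 1 := by
      rcases hp.dvd_mul.1 hd2 with h | h
      · rcases hp.dvd_mul.1 h with h' | h'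
        · rcases hp.dvd_mul.1 h' with h'' | h''
          · have := (Nat.prime_dvd_prime_iff_eq hp Nat.prime_two).1 h''
            omega
          · exact absurd (hp.dvd_of_dvd_pow h'') hpq
        · exact h'
      · exact absurd h hA
    have hm1 : m - 1 + 1 = m := by omega
    obtain ⟨e', he'⟩ := plus_dvd K (p := r) (k := m - 1) (n := 1) (by omega) le_rfl
    have hc1 : Nat.Coprime (Nat.card K ^ 1 + 1) (r ^ e') := by
      have h8 := hcop e' 2 (by omega)
      rw [show 2 = 2 * 1 by norm_num, sq_sub] at h8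
      exact h8.coprime_mul_right
    have h6 : (Nat.card K ^ (m - 1 + 1) - 1) * (Nat.card K ^ 1 + 1) *
        ∏ i ∈ Finset.Ico 1 (m - 1 + 1 - 1), (Nat.card K ^ (2 * (i + 1)) - 1) ∣
        dg (CForm.plusF K (m - 1 + 1)) (m - 1) * (Nat.card K ^ (m - 1) - 1) :=
      Nat.Coprime.dvd_of_dvd_mul_left (((hcop e' _ (by omega)).mul_left hc1).mul_left
        (Nat.Coprime.prod_left fun i _ => hcop e' _ (by omega))) he'
    have h0 : 0 < dg (CForm.plusF K (m - 1 + 1)) (m - 1) := by
      obtain ⟨c, hc'⟩ := exists_cus_sq K rfl (m - 1) (by omega) (fun _ => by omega) (fun _ => by omega) (fun _ => by omega)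
      obtain ⟨⟨W₀, hW₀⟩, -⟩ := CForm.plusF_frame (K := K) (p := r) (m - 1) 1
      obtain ⟨χ, hχ, hχ1, -⟩ := om_char (CForm.plusF K (m - 1 + 1)) (plus_hB K (m - 1 + 1)) hW₀ hc'
      have := Core.isIrr_apply_one_ne_zero hχ
      rw [hχ1] at this
      exact Nat.pos_of_ne_zero fun h => this (by rw [h]; simp)
    have hQ : 0 < Nat.card K ^ (m - 1) - 1 := hpos _ (by omega)
    refine key (m - 1) 1 hm1 (by omega) ?_ ?_
    · have h7 : p ∣ dg (CForm.plusF K (m - 1 + 1)) (m - 1) * (Nat.card K ^ (m - 1) - 1) := by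
        refine Dvd.dvd.trans ?_ h6
        rw [mul_assoc]
        refine Dvd.dvd.mul_right ?_ _
        rw [hm1]
        exact hB
      refine (hp.dvd_mul.1 h7).resolve_right fun h => ?_
      apply hA2 (m - 2) (by omega)
      have h9 : m - 2 + 1 = m - 1 := by omega
      rw [h9]
      exact h.trans (pow_sub_dvd _ _)
    · have h7 := Nat.le_of_dvd (Nat.mul_pos h0 hQ) h6
      refine Nat.le_of_mul_le_mul_right ?_ hQ
      refine le_trans ?_ h7
      rw [hm1]
      have h2 : ∏ i ∈ Finset.Ico 1 (m - 1), (Nat.card K ^ (2 * (i + 1)) - 1) =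
          (∏ i ∈ Finset.Ico 1 (m - 2), (Nat.card K ^ (2 * (i + 1)) - 1)) *
            ((Nat.card K ^ (m - 1) + 1) * (Nat.card K ^ (m - 1) - 1)) := by
        obtain ⟨j, rfl⟩ : ∃ j, m = j + 2 := ⟨m - 2, by omega⟩
        rw [show j + 2 - 1 = j + 1 by omega, show j + 2 - 2 = j by omega,
          Finset.prod_Ico_succ_top (by omega), sq_sub]
      have h3 : Nat.card K ^ 4 - 1 ≤ ∏ i ∈ Finset.Ico 1 (m - 2), (Nat.card K ^ (2 * (i + 1)) - 1) := by
        rw [Finset.prod_eq_prod_Ico_succ_bot (show 1 < m - 2 by omega)]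
        exact Nat.le_mul_of_pos_right _ (Finset.prod_pos fun i _ => hpos _ (by omega))
      rw [h2]
      refine (num2 hq2 hfq _ (Nat.card K ^ m - 1) hcube (Nat.le_of_dvd (hpos _ (by omega)) hB)).trans ?_
      exact Nat.mul_le_mul_left _ (Nat.mul_le_mul_right _ h3)

theorem good_plus_char {K : Type u} [Field K] [Fintype K] {p f m : ℕ} (hp : p.Prime) (hf : 1 ≤ f)
    (hK : Fintype.card K = p ^ f) [CharP K p] (hm : 4 ≤ m)
    [IsSimpleGroup (Cfsg.POmega K (Cfsg.quadFormPlus m K))]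
    (hna : ¬ IsMulCommutative (Cfsg.POmega K (Cfsg.quadFormPlus m K))) :
    Good p (Cfsg.POmega K (Cfsg.quadFormPlus m K)) := by
  classical
  have : Fact p.Prime := ⟨hp⟩
  obtain ⟨K₀, _, _, ⟨e⟩⟩ := PermutationGroups.FieldCoord.exists_small_field K
  have hch : CharP K₀ p := ((e : K₀ →+* K).charP_iff e.injective p).2 inferInstance
  obtain ⟨e'⟩ := UGT.U2.Rec.Congr.nonempty_POmega (ι := Fin m ⊕ Fin m) (Q := quadFormPlus m K₀) (Q' := quadFormPlus m K)
    e (fun v => by simp only [quadFormPlus, map_sum, map_mul, _root_.Function.comp_apply])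
  have hL : IsLieTypeChar p (Cfsg.POmega K (Cfsg.quadFormPlus m K)) :=
    Or.inr (Or.inr (Or.inr (Or.inr (Or.inl ⟨K₀, inferInstance, inferInstance, inferInstance, m, hm,
      ⟨e'.symm⟩⟩))))
  obtain ⟨χ, hχ, h1, -⟩ := H167.StChar.hasSt_of_lie hp hL
  have hdeg : charDegree χ = p ^ (Nat.card (Cfsg.POmega K (Cfsg.quadFormPlus m K))).factorization p :=
    Cfsg.Agent.Blocks.Basic.charDegree_of_eq h1
  have hcard := S0293.result (F := K) rfl m hm
  have h12 : p ^ (12 * f) ∣ Nat.card (Cfsg.POmega K (Cfsg.quadFormPlus m K)) := by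
    have h2 : p ^ (12 * f) ∣ Nat.gcd 4 (Fintype.card K ^ m - 1) *
        Nat.card (Cfsg.POmega K (Cfsg.quadFormPlus m K)) := by
      rw [hcard, mul_assoc]
      refine Dvd.dvd.mul_right ?_ _
      rw [hK, ← pow_mul]
      refine pow_dvd_pow p ?_
      have : 4 * 3 ≤ m * (m - 1) := Nat.mul_le_mul hm (by omega)
      nlinarith only [this]
    refine Nat.Coprime.dvd_of_dvd_mul_left ?_ h2
    refine Nat.Coprime.pow_left _ ?_
    refine Nat.Coprime.coprime_dvd_right (Nat.gcd_dvd_right _ _) ?_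
    exact coprime_of_sub (by rw [hK]; exact dvd_pow_self p (by omega)) (by omega) hp Fintype.card_pos
  have hle : 12 * f ≤ (Nat.card (Cfsg.POmega K (Cfsg.quadFormPlus m K))).factorization p :=
    (hp.pow_dvd_iff_le_factorization Nat.card_pos.ne').1 h12
  have hout := card_out_le (r := p) hf hK hm hna
  refine good_of hna ⟨χ, hχ⟩ (c := 5 * f - 1) ?_ ?_ ?_
  · change p ∣ charDegree χ
    rw [hdeg]
    exact dvd_pow_self p (by omega)
  · rw [Nat.sub_add_cancel (by omega)]
    nlinarith only [hf, hout]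
  · change _ ≤ 2 * charDegree χ
    rw [hdeg, Nat.sub_add_cancel (by omega)]
    have h3 : p ^ (12 * f) ≤ p ^ (Nat.card (Cfsg.POmega K (Cfsg.quadFormPlus m K))).factorization p :=
      Nat.pow_le_pow_right hp.pos hle
    have h4 : f < 2 ^ f := Nat.lt_pow_self (by norm_num)
    have h5 : 2 ^ f ≤ p ^ f := Nat.pow_le_pow_left hp.two_le f
    have h6 : p ≤ p ^ f := Nat.le_self_pow (by omega) p
    have h7 : p ^ (12 * f) = p ^ f * p ^ f * (p ^ f) ^ 10 := by ring
    have h8 : 2 ^ 10 ≤ (p ^ f) ^ 10 := Nat.pow_le_pow_left (by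
      have : 2 ^ 1 ≤ 2 ^ f := Nat.pow_le_pow_right (by norm_num) hf
      omega) 10
    have h9 : f * p ≤ p ^ f * p ^ f := Nat.mul_le_mul (by omega) h6
    have h10 : 5 * f * p = 5 * (f * p) := by ring
    nlinarith only [h3, h7, h8, h9]

/-- **`Good p S` for `S = PΩ⁺_{2m}(q)`** -/
theorem good_omega_plus' {F : Type u} [Field F] [Fintype F] {m : ℕ} (hm : 4 ≤ m)
    [IsSimpleGroup (Cfsg.POmega F (Cfsg.quadFormPlus m F))]
    (hna : ¬ IsMulCommutative (Cfsg.POmega F (Cfsg.quadFormPlus m F))) {p : ℕ} (hp : p.Prime) (h5 : 5 ≤ p)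
    (hd : p ∣ Nat.card (Cfsg.POmega F (Cfsg.quadFormPlus m F))) :
    Good p (Cfsg.POmega F (Cfsg.quadFormPlus m F)) := by
  obtain ⟨r, hr⟩ := CharP.exists F
  have hpr : r.Prime := (CharP.char_is_prime_or_zero F r).resolve_right (CharP.char_ne_zero_of_finite F r)
  have : Fact r.Prime := ⟨hpr⟩
  obtain ⟨n, -, hn⟩ := FiniteField.card F r
  by_cases h : p = r
  · subst h
    exact good_plus_char hp n.2 hn hm hna
  · exact good_plus_cross (r := r) n.2 hn hm hna hp h5 h hd

end Cfsg.Agent.H211.Avg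
end

-- part: H208/AvgE6
section
/-!
# Task 1393: `Good p S` for `S = E₆(q)` (helper208, for S4831)

`good_e6_of`: from the big character of `E₆(q)` (degree divisible by every prime divisor of `|S|` but the
characteristic).
-/

set_option autoImplicit false

namespace Cfsg.Agent.H208.AvgE6

open Cfsg
open Cfsg.Agent.H404.Avg
open Cfsg.Agent.H53.HC (Big)

universe u

theorem sq_lt_two_pow (n : ℕ) (h : 5 ≤ n) : n ^ 2 < 2 ^ n := by
  induction n, h using Nat.le_induction with
  | base => norm_num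
  | succ n hn ih =>
    rw [pow_succ 2 n]
    nlinarith

/-- the characteristic -/
theorem good_char {F : Type} [Field F] [Fintype F] {r f : ℕ} [Fact r.Prime] [CharP F r] (hf : 1 ≤ f)
    (hF : Fintype.card F = r ^ f) [IsSimpleGroup ↥(Lie.chevE6.group F)]
    (hna : ¬ IsMulCommutative ↥(Lie.chevE6.group F)) : Good r ↥(Lie.chevE6.group F) := by
  have hr : r.Prime := Fact.out
  have hfin : Finite ↥(Lie.chevE6.group F) := by
    classical
    have : Finite (GL Lie.chevE6.Idx F) := by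
      have : Finite (Matrix Lie.chevE6.Idx Lie.chevE6.Idx F) := inferInstance
      infer_instance
    infer_instance
  have hL : IsLieTypeChar r ↥(Lie.chevE6.group F) :=
    Or.inr (Or.inr (Or.inr (Or.inr (Or.inr (Or.inr (Or.inl ⟨F, inferInstance, inferInstance, inferInstance,
      Or.inr (Or.inr (Or.inl ⟨MulEquiv.refl _⟩))⟩))))))
  obtain ⟨χ, hχ, h1, -⟩ := Cfsg.Agent.H167.StChar.hasSt_of_lie hr hL
  have hout := Cfsg.Agent.S2123.result (F := F) r f hF
  have hcard := Cfsg.Agent.S1063.result (F := F) hF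
  have hq2 : 2 ≤ r ^ f := by
    calc 2 ≤ r := hr.two_le
      _ = r ^ 1 := (pow_one r).symm
      _ ≤ r ^ f := Nat.pow_le_pow_right hr.pos hf
  -- `r ^ (36 f)` divides the order
  have hdvd : r ^ (f * 36) ∣ Nat.card ↥(Lie.chevE6.group F) := by
    have h2 : r ^ (f * 36) ∣ Nat.gcd 3 (r ^ f - 1) * Nat.card ↥(Lie.chevE6.group F) := by
      rw [hcard, pow_mul]
      exact ((((((dvd_refl _).mul_right _).mul_right _).mul_right _).mul_right _).mul_right _).mul_right _
    refine Nat.Coprime.dvd_of_dvd_mul_left ?_ h2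
    refine Nat.Coprime.pow_left _ ?_
    refine (Nat.Prime.coprime_iff_not_dvd hr).2 fun h3 => ?_
    have h4 : r ∣ r ^ f - 1 := h3.trans (Nat.gcd_dvd_right _ _)
    have h5 : r ∣ r ^ f := dvd_pow_self r (by omega)
    have h6 := Nat.dvd_sub h5 h4
    rw [Nat.sub_sub_self (by omega)] at h6
    exact hr.one_lt.ne' (Nat.dvd_one.1 h6)
  have hle : f * 36 ≤ (Nat.card ↥(Lie.chevE6.group F)).factorization r :=
    (Nat.Prime.pow_dvd_iff_le_factorization hr Nat.card_pos.ne').1 hdvd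
  have hdeg : charDegree χ = r ^ (Nat.card ↥(Lie.chevE6.group F)).factorization r :=
    Cfsg.Agent.H670.PSing.charDegree_eq_of h1
  have hg3 : Nat.gcd 3 (r ^ f - 1) ≤ 3 := Nat.gcd_le_left _ (by norm_num)
  -- `c + 1 = 2 ^ (6 f)`
  have hc1 : 1 ≤ 2 ^ (6 * f) := Nat.one_le_two_pow
  have hc : 2 ^ (6 * f) - 1 + 1 = 2 ^ (6 * f) := by omega
  refine good_of hna ⟨χ, hχ⟩ (c := 2 ^ (6 * f) - 1) ?_ ?_ ?_
  · show r ∣ charDegree χ
    rw [hdeg]
    exact dvd_pow_self r (by omega)
  · rw [hout, hc]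
    have h2 := sq_lt_two_pow (6 * f) (by omega)
    have h3 : 2 * Nat.gcd 3 (r ^ f - 1) * f ≤ 6 * f := by nlinarith only [hg3]
    nlinarith only [hf, h2, h3]
  · show (2 ^ (6 * f) - 1 + 1) * r ≤ 2 * charDegree χ
    rw [hc, hdeg]
    calc 2 ^ (6 * f) * r ≤ r ^ (6 * f) * r := Nat.mul_le_mul_right _ (Nat.pow_le_pow_left hr.two_le _)
      _ = r ^ (6 * f + 1) := (pow_succ _ _).symm
      _ ≤ r ^ (Nat.card ↥(Lie.chevE6.group F)).factorization r := Nat.pow_le_pow_right hr.pos (by omega)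
      _ ≤ _ := by omega

/-- a primitive prime divisor, not dividing 3 -/
theorem exists_l {r f n : ℕ} (hr : r.Prime) (hf : 1 ≤ f) (hn : 8 ≤ n) : ∃ l : ℕ, l.Prime ∧ f * n < l ∧ l ≠ r ∧
    ∀ m, l ∣ r ^ m - 1 ↔ f * n ∣ m := by
  have h1 : 8 ≤ f * n := by nlinarith
  obtain ⟨l, hl, hd, hl1, hlr⟩ := Cfsg.Agent.Lib.Zsigmondy.exists_primitive hr.two_le (n := f * n) (by omega) (by omega)
    (by omega)
  refine ⟨l, hl, ?_, ?_, hd⟩
  · have := hl.two_le
    have := Nat.le_of_dvd (by omega) hl1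
    omega
  · rintro rfl
    exact hlr dvd_rfl

theorem dvd_of_dvd_pow {r f l k : ℕ} (hl : l.Prime) (hl3 : 3 < l) {F : Type} [Field F] [Fintype F]
    (hF : Fintype.card F = r ^ f) (hk : k = 8 ∨ k = 12) (h : l ∣ (r ^ f) ^ k - 1) :
    l ∣ Nat.card ↥(Lie.chevE6.group F) := by
  have hcard := Cfsg.Agent.S1063.result (F := F) hF
  have h2 : l ∣ Nat.gcd 3 (r ^ f - 1) * Nat.card ↥(Lie.chevE6.group F) := by
    rw [hcard]
    rcases hk with rfl | rfl
    · exact ((h.mul_left _).mul_right _).mul_right _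
    · exact h.mul_left _
  rcases hl.dvd_mul.1 h2 with h3 | h3
  · have := Nat.le_of_dvd (by norm_num) (h3.trans (Nat.gcd_dvd_left _ _))
    omega
  · exact h3

/-- the other primes, from the big character -/
theorem good_cross {F : Type} [Field F] [Fintype F] {r f : ℕ} [Fact r.Prime] [CharP F r] (hf : 1 ≤ f)
    (hF : Fintype.card F = r ^ f) [IsSimpleGroup ↥(Lie.chevE6.group F)]
    (hna : ¬ IsMulCommutative ↥(Lie.chevE6.group F)) (hB : Big r ↥(Lie.chevE6.group F)) {p : ℕ} (hp : p.Prime)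
    (hpr : p ≠ r) (hd : p ∣ Nat.card ↥(Lie.chevE6.group F)) : Good p ↥(Lie.chevE6.group F) := by
  have hr : r.Prime := Fact.out
  have hfin : Finite ↥(Lie.chevE6.group F) := by
    classical
    have : Finite (GL Lie.chevE6.Idx F) := by
      have : Finite (Matrix Lie.chevE6.Idx Lie.chevE6.Idx F) := inferInstance
      infer_instance
    infer_instance
  have hout := Cfsg.Agent.S2123.result (F := F) r f hF
  -- a large prime `l ≠ p`
  obtain ⟨l, hl, hl1, hlr, hlp, hlS⟩ : ∃ l : ℕ, l.Prime ∧ 8 * f < l ∧ l ≠ r ∧ l ≠ p ∧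
      l ∣ Nat.card ↥(Lie.chevE6.group F) := by
    obtain ⟨l, hl, h1, h2, h3⟩ := exists_l hr hf (n := 8) le_rfl
    by_cases h4 : l = p
    · obtain ⟨l', hl', h1', h2', h3'⟩ := exists_l hr hf (n := 12) (by norm_num)
      refine ⟨l', hl', by omega, h2', ?_, ?_⟩
      · rintro rfl
        subst h4
        have h5 : f * 12 ∣ f * 8 := (h3' _).1 ((h3 (f * 8)).2 dvd_rfl)
        have := Nat.le_of_dvd (by omega) h5
        omega
      · refine dvd_of_dvd_pow hl' (by omega) hF (Or.inr rfl) ?_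
        rw [← pow_mul, h3']
    · refine ⟨l, hl, by omega, h2, h4, ?_⟩
      refine dvd_of_dvd_pow hl (by omega) hF (Or.inl rfl) ?_
      rw [← pow_mul, h3]
  obtain ⟨χ, hχ⟩ := hB.exists_irr
  have hdvd1 := hχ p hp hd hpr
  have hdvd2 := hχ l hl hlS hlr
  have hdvd : p * l ∣ charDegree (χ : ↥(Lie.chevE6.group F) → ℂ) :=
    Nat.Coprime.mul_dvd_of_dvd_of_dvd ((Nat.coprime_primes hp hl).2 hlp.symm) hdvd1 hdvd2
  have hpos : 0 < charDegree (χ : ↥(Lie.chevE6.group F) → ℂ) := Cfsg.Agent.Blocks.Basic.charDegree_pos χ.2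
  have hle := Nat.le_of_dvd hpos hdvd
  have hg3 : Nat.gcd 3 (r ^ f - 1) ≤ 3 := Nat.gcd_le_left _ (by norm_num)
  have hc : 2 * l - 1 + 1 = 2 * l := by omega
  refine good_of hna χ (c := 2 * l - 1) (hχ p hp hd hpr) ?_ ?_
  · rw [hout, hc]
    have h3 : 2 * Nat.gcd 3 (r ^ f - 1) * f ≤ 6 * f := by nlinarith only [hg3]
    nlinarith only [hl1, h3]
  · rw [hc]
    linarith only [hle]

/-- **`E₆(q)`**, from the big characters. -/
theorem good_e6_of {S : Type u} [Group S] [Finite S] [IsSimpleGroup S] (hna : ¬ IsMulCommutative S)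
    (h : Cfsg.Lie.IsoChevE6 S)
    (hB : ∀ (F : Type) [Field F] [Fintype F] (r : ℕ) [CharP F r], Big r ↥(Lie.chevE6.group F))
    {p : ℕ} (hp : p.Prime) (hd : p ∣ Nat.card S) : Good p S := by
  obtain ⟨F, _, _, ⟨e⟩⟩ := h
  have hs : IsSimpleGroup ↥(Lie.chevE6.group F) := e.symm.isSimpleGroup
  have hna' : ¬ IsMulCommutative ↥(Lie.chevE6.group F) := fun h => hna ⟨⟨fun a b => e.injective (by
    rw [map_mul, map_mul]; exact h.is_comm.comm _ _)⟩⟩
  obtain ⟨r, hr⟩ := CharP.exists F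
  obtain ⟨⟨f, hf⟩, hrp, hF⟩ := FiniteField.card F r
  have : Fact r.Prime := ⟨hrp⟩
  rw [Nat.card_congr e.toEquiv] at hd
  refine Good.congr ?_ e.symm
  by_cases hpr : p = r
  · subst hpr
    exact good_char (f := f) hf (by simpa using hF) hna'
  · exact good_cross (r := r) (f := f) hf (by simpa using hF) hna' (hB F r) hp hpr hd

end Cfsg.Agent.H208.AvgE6
end

-- part: H272/GoodAll
section
/-!
# `Good p S` for every known simple group, `p ≥ 5` (helper272, for S4831)
-/

set_option autoImplicit false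

namespace Cfsg.Agent.H272.GoodAll

open Cfsg Cfsg.Agent.H404.Avg Cfsg.Agent.H954.OutLinB Cfsg.Agent.H934.OutB

universe u v

variable {G : Type u} [Group G]

open Cfsg.Agent.H53.HC Cfsg.Agent.H53.HC.ExcRows Cfsg.Agent.H53.HC.ExcIM Cfsg.Agent.H35.ExcIdx Cfsg.Lie in
/-- the big character of `E6` -/
theorem big_E6 (F : Type) [Field F] [Fintype F] (r : ℕ) [CharP F r] :
    Cfsg.Agent.H53.HC.Big r ↥(Lie.chevE6.group F) := by
  obtain ⟨f, hr, hF⟩ := FiniteField.card F r
  have hf := f.ne_zero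
  have := finite_group (K := F) chevE6
  have D := data_E6_3 hr hf hF
  have hB : BigF r (r ^ (f : ℕ)) ↥(chevE6.group F) := ExcRows.big_E6 hr hf hF (in_A2 D (by decide +kernel) rfl)
    (in_pair D (by decide +kernel)) (in_node D 1 3 (by decide +kernel))
  exact hB.big

/-- The row `E6`. -/
theorem good_e6 {S : Type u} [Group S] [Finite S] [IsSimpleGroup S] (hna : ¬ IsMulCommutative S)
    (h : Cfsg.Lie.IsoChevE6 S) {p : ℕ} (hp : p.Prime) (hd : p ∣ Nat.card S) : Good p S :=
  Cfsg.Agent.H208.AvgE6.good_e6_of hna h (fun F _ _ r _ => big_E6 F r) hp hd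

/-- Transport of a character of degree divisible by `p`. -/
theorem im_congr {X : Type v} [Group X] (e : G ≃* X) {p : ℕ}
    (h : ∃ χ : IrrCharacter G, p ∣ charDegree (χ : G → ℂ)) : ∃ χ : IrrCharacter X, p ∣ charDegree (χ : X → ℂ) := by
  obtain ⟨χ, hχ⟩ := h
  refine ⟨⟨(χ : G → ℂ) ∘ e.symm, Cfsg.Agent.Characters.Core.isIrr_comp e.symm.toMonoidHom e.symm.surjective χ.2⟩, ?_⟩
  have h1 := Cfsg.Agent.Blocks.Basic.irr_one_eq_charDegree χ.2
  have h2 := Cfsg.Agent.Blocks.Basic.irr_one_eq_charDegree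
    (Cfsg.Agent.Characters.Core.isIrr_comp e.symm.toMonoidHom e.symm.surjective χ.2)
  have h3 : charDegree ((χ : G → ℂ) ∘ e.symm) = charDegree (χ : G → ℂ) := by
    have h4 : ((charDegree ((χ : G → ℂ) ∘ e.symm) : ℕ) : ℂ) = (charDegree (χ : G → ℂ) : ℕ) := by
      rw [← h1]
      refine h2.symm.trans ?_
      simp only [_root_.MulEquiv.toMonoidHom_eq_coe, _root_.MonoidHom.coe_coe, _root_.Function.comp_apply, _root_.map_one]
    exact_mod_cast h4
  show p ∣ charDegree ((χ : G → ℂ) ∘ e.symm)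
  rw [h3]
  exact hχ

/-- Groups with an outer automorphism group of order at most fifteen. -/
theorem small [Finite G] [IsSimpleGroup G] (hna : ¬ IsMulCommutative G) {p : ℕ} (hp : p.Prime)
    (hIM : ∃ χ : IrrCharacter G, p ∣ charDegree (χ : G → ℂ)) (hOL : OutLin G) {X : Type v} [Group X]
    (h : Nat.card (Cfsg.Out X) ≤ 15) (e : Nonempty (G ≃* X)) : Good p G := by
  obtain ⟨e⟩ := e
  refine good_of_im hna hp hIM hOL (Or.inr ?_)
  rwa [card_out_congr e]

theorem good_alternating [Finite G] [IsSimpleGroup G] (hna : ¬ IsMulCommutative G) {p : ℕ} (hp : p.Prime)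
    (hIM : ∃ χ : IrrCharacter G, p ∣ charDegree (χ : G → ℂ)) (hOL : OutLin G) (h : Cfsg.IsAlternating G) :
    Good p G := by
  obtain ⟨n, hn, ⟨e⟩⟩ := h
  rcases eq_or_ne n 6 with rfl | h6
  · have : Fact (Nat.Prime 3) := ⟨by norm_num⟩
    have : Fintype (GaloisField 3 2) := Fintype.ofFinite _
    have hF : Fintype.card (GaloisField 3 2) = 9 := by
      rw [← Nat.card_eq_fintype_card, GaloisField.card 3 2 (by norm_num)]
      norm_num
    obtain ⟨e'⟩ := Cfsg.Agent.S0254.result hF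
    have h1 := Cfsg.Agent.H352.OutIdx.idx_psl_two (F := GaloisField 3 2) (by rw [hF]; norm_num)
    exact good_of_im hna hp hIM hOL (Or.inl ((Cfsg.Agent.H352.OutIdx.mono h1 (by norm_num)).congr (e.trans e'.symm).symm))
  · have := simple_of e
    have hna' := not_comm_of hna e
    have : Nontrivial (Fin n) := Fin.nontrivial_iff_two_le.2 (by omega)
    refine small hna hp hIM hOL ?_ ⟨e⟩
    have h2 := card_out_of_aut hna' (n := 2) (by
      have h1 := Nat.card_congr (Equiv.ofBijective _ (Cfsg.Agent.S2119.result n (by omega) h6))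
      rw [← h1, Nat.card_eq_fintype_card, Nat.card_eq_fintype_card, two_mul_card_alternatingGroup])
    omega

theorem good_tits [Finite G] [IsSimpleGroup G] (hna : ¬ IsMulCommutative G) {p : ℕ} (hp : p.Prime)
    (hIM : ∃ χ : IrrCharacter G, p ∣ charDegree (χ : G → ℂ)) (hOL : OutLin G) (h : Cfsg.Lie.IsoTits G) :
    Good p G := by
  obtain ⟨e⟩ := h
  obtain ⟨e'⟩ := Cfsg.Agent.TitsK.exists_equiv
  have hfin : Finite Cfsg.Agent.FourTwo.Base.LL := by infer_instance
  have h1 : Nat.card (Cfsg.Out ↥Cfsg.Agent.TitsK.TT) ∣ 2 := Cfsg.Agent.TitsK.tdata.index_inn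
  exact small hna hp hIM hOL ((Nat.le_of_dvd (by norm_num) h1).trans (by norm_num)) ⟨e.trans e'⟩

theorem good_sporadic [Finite G] [IsSimpleGroup G] (hna : ¬ IsMulCommutative G) {p : ℕ} (hp : p.Prime)
    (hIM : ∃ χ : IrrCharacter G, p ∣ charDegree (χ : G → ℂ)) (hOL : OutLin G) (h : Cfsg.IsSporadicGroup G) :
    Good p G := by
  rcases h with h | h | h | h | h | h | h | h | h | h | h | h | h | h | h | h | h | h | h | h | h | h | h | h | h | h
  · exact small hna hp hIM hOL (le_of_eq_of_le (Cfsg.Agent.S2060.result) (by norm_num)) h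
  · exact small hna hp hIM hOL (le_of_eq_of_le (Cfsg.Agent.S2061.result) (by norm_num)) h
  · exact small hna hp hIM hOL (le_of_eq_of_le (Cfsg.Agent.S2062.result) (by norm_num)) h
  · exact small hna hp hIM hOL (le_of_eq_of_le (Cfsg.Agent.S2063.result) (by norm_num)) h
  · exact small hna hp hIM hOL (le_of_eq_of_le (Cfsg.Agent.S2064.result) (by norm_num)) h
  · exact small hna hp hIM hOL (le_of_eq_of_le (Cfsg.Agent.S2065.result) (by norm_num)) h
  · exact small hna hp hIM hOL (le_of_eq_of_le (Cfsg.Agent.S2066.result) (by norm_num)) h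
  · obtain ⟨F, _, _, ω, hF, hω, e⟩ := h
    exact small hna hp hIM hOL (le_of_eq_of_le (Cfsg.Agent.S2067.result hF ω hω) (by norm_num)) e
  · exact small hna hp hIM hOL (le_of_eq_of_le (Cfsg.Agent.S2068.result) (by norm_num)) h
  · exact small hna hp hIM hOL (le_of_eq_of_le (Cfsg.Agent.S2069.result) (by norm_num)) h
  · exact small hna hp hIM hOL (le_of_eq_of_le (Cfsg.Agent.S2070.result) (by norm_num)) h
  · exact small hna hp hIM hOL (le_of_eq_of_le (Cfsg.Agent.S2071.result) (by norm_num)) h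
  · exact small hna hp hIM hOL (le_of_eq_of_le (Cfsg.Agent.S2073.result) (by norm_num)) h
  · exact small hna hp hIM hOL (le_of_eq_of_le (Cfsg.Agent.S2072.result) (by norm_num)) h
  · exact small hna hp hIM hOL (le_of_eq_of_le (Cfsg.Agent.S2074.result) (by norm_num)) h
  · exact small hna hp hIM hOL (le_of_eq_of_le (Cfsg.Agent.S2075.result) (by norm_num)) h
  · exact small hna hp hIM hOL (le_of_eq_of_le (Cfsg.Agent.S2077.result) (by norm_num)) h
  · exact small hna hp hIM hOL (le_of_eq_of_le (Cfsg.Agent.S2078.result) (by norm_num)) h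
  · exact small hna hp hIM hOL (le_of_eq_of_le (Cfsg.Agent.S2076.result) (by norm_num)) h
  · exact small hna hp hIM hOL (le_of_eq_of_le (Cfsg.Agent.S2079.result) (by norm_num)) h
  · exact small hna hp hIM hOL (le_of_eq_of_le (Cfsg.Agent.S2080.result) (by norm_num)) h
  · exact small hna hp hIM hOL (le_of_eq_of_le (Cfsg.Agent.S2081.result) (by norm_num)) h
  · exact small hna hp hIM hOL (le_of_eq_of_le (Cfsg.Agent.S2082.result) (by norm_num)) h
  · exact small hna hp hIM hOL (le_of_eq_of_le (Cfsg.Agent.S2083.result) (by norm_num)) h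
  · exact small hna hp hIM hOL (le_of_eq_of_le (Cfsg.Agent.S2084.result) (by norm_num)) h
  · exact small hna hp hIM hOL (le_of_eq_of_le (Cfsg.Agent.S2085.result) (by norm_num)) h

/-- **`Good p S`** for every known simple group. -/
theorem good_all {p : ℕ} (hp : p.Prime) (h5 : 5 ≤ p) (hIM' : Cfsg.Agent.H685.Acd.IMp.{u} p)
    (hOL' : ∀ (S : Type u) [Group S] [Finite S] [IsSimpleGroup S], ¬ IsMulCommutative S → OutLin S)
    (hK : ∀ (X : Type u) [Group X] [Finite X] [IsSimpleGroup X], Cfsg.IsKnownSimple' X)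
    (S : Type u) [Group S] [Finite S] [IsSimpleGroup S] (hna : ¬ IsMulCommutative S) (hd : p ∣ Nat.card S) :
    Good p S := by
  have hIM := hIM' S hna hd
  have hOL := hOL' S hna
  have idx : ∀ {c : ℕ}, OutIdx S c → c ≤ 3 → Good p S := fun h hc =>
    good_of_im hna hp hIM hOL (Or.inl (Cfsg.Agent.H352.OutIdx.mono h hc))
  rcases hK S with h | h | h | h | h | h | h | h | h | h
  · exfalso
    apply hna
    have : Fact (Nat.card S).Prime := ⟨h⟩
    have : IsCyclic S := isCyclic_of_prime_card rfl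
    infer_instance
  · exact good_alternating hna hp hIM hOL h
  · obtain ⟨F, _, _, n, hn, h4, ⟨e⟩⟩ := h
    have := simple_of e
    have hna' := not_comm_of hna e
    rcases Nat.lt_or_ge n 3 with h3 | h3
    · obtain rfl : n = 2 := by omega
      exact idx ((Cfsg.Agent.H352.OutIdx.idx_psl_two (h4 rfl)).congr e.symm) (by norm_num)
    · exact (Cfsg.Agent.H446.GoodPsl.good_psl h3 hna' hp h5 (by rwa [← Nat.card_congr e.toEquiv])
        (hOL.congr e)).congr e.symm
  · obtain ⟨F, _, _, m, hm, h3, ⟨e⟩⟩ := h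
    exact idx ((Cfsg.Agent.H352.OutIdx.idx_psp hm h3 (simple_of e) (not_comm_of hna e)).congr e.symm) (by norm_num)
  · obtain ⟨F, _, _, n, q, hF, hn, h32, ⟨e⟩⟩ := h
    have := simple_of e
    have hna' := not_comm_of hna e
    rcases Nat.lt_or_ge n 4 with h4 | h4
    · obtain rfl : n = 3 := by omega
      have hq : 2 < q := by
        have h1 : 1 < Fintype.card F := Fintype.one_lt_card
        rw [hF] at h1
        have h2 : q ≠ 0 := by
          rintro rfl
          norm_num at h1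
        have h3 : q ≠ 1 := by
          rintro rfl
          norm_num at h1
        have h5 : q ≠ 2 := fun h => h32 ⟨rfl, h⟩
        omega
      exact idx ((Cfsg.Agent.H352.OutIdx.idx_psu_three hF hq).congr e.symm) (by norm_num)
    · have hd' : p ∣ Nat.card (Cfsg.PSU n F q) := by rwa [← Nat.card_congr e.toEquiv]
      have : Finite (Cfsg.PSU n F q) := Finite.of_equiv _ e.toEquiv
      exact (Cfsg.Agent.H597.PsuGood.good_psu hF h4 hna' hp h5 hd' (im_congr e hIM) (hOL.congr e)).congr e.symm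
  · obtain ⟨F, _, _, m, hm, ho, ⟨e⟩⟩ := h
    exact idx ((Cfsg.Agent.H352.OutIdx.idx_omega_odd hm ho).congr e.symm) (by norm_num)
  · obtain ⟨F, _, _, m, hm, ⟨e⟩⟩ := h
    have := simple_of e
    exact (Cfsg.Agent.H211.Avg.good_omega_plus' hm (not_comm_of hna e) hp h5
      (by rwa [← Nat.card_congr e.toEquiv])).congr e.symm
  · obtain ⟨F, _, _, m, a, b, hm, hab, ⟨e⟩⟩ := h
    exact idx ((Cfsg.Agent.H352.OutIdx.idx_omega_minus hm a b hab).congr e.symm) (by norm_num)
  · rcases h with h | h | h | h | h | h | h | h | h | h | h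
    · exact idx (Cfsg.Agent.H679.OutIdxExc.idx_g2 h) (by norm_num)
    · exact idx (Cfsg.Agent.H679.OutIdxExc.idx_f4 h) (by norm_num)
    · exact good_e6 hna h hp hd
    · exact idx (Cfsg.Agent.H679.OutIdxExc.idx_e7 h) (by norm_num)
    · exact idx (Cfsg.Agent.H679.OutIdxExc.idx_e8 h) (by norm_num)
    · exact idx (Cfsg.Agent.H679.OutIdxExc.idx_2e6 h) (by norm_num)
    · exact idx (Cfsg.Agent.H446.OutIdxB.idx_3d4 h) (by norm_num)
    · exact idx (Cfsg.Agent.H446.OutIdxB.idx_sz h) (by norm_num)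
    · exact idx (Cfsg.Agent.H446.OutIdxB.idx_ree h) (by norm_num)
    · exact idx (Cfsg.Agent.H446.OutIdxB.idx_2f4 h) (by norm_num)
    · exact good_tits hna hp hIM hOL h
  · exact good_sporadic hna hp hIM hOL h

end Cfsg.Agent.H272.GoodAll
end

-- part: H404/Avg/Final
section
/-!
# S4831 from Ito-Michler for simple groups (helper404)
-/

set_option autoImplicit false

namespace Cfsg.Agent.H404.Avg

open Cfsg

universe u

theorem inp_of {p : ℕ} [hp : Fact p.Prime]
    (hK : ∀ (X : Type u) [Group X] [Finite X] [IsSimpleGroup X], Cfsg.IsKnownSimple' X)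
    (hK0 : ∀ (X : Type) [Group X] [Finite X] [IsSimpleGroup X], Cfsg.IsKnownSimple' X)
    (hIM : Cfsg.Agent.H671.H5.FactIM.{u}) : Inp.{u} p where
  im := fun S _ _ _ hna hd => hIM S hna p hp.out hd
  ol := fun S _ _ _ hna => Cfsg.Agent.H954.OutAllL.ol hna (hK S)
  ol0 := fun S _ _ _ hna => Cfsg.Agent.H954.OutAllL.ol hna (hK0 S)
  out := Cfsg.Agent.H954.OutAllD.outDeg hK
  ext := Cfsg.Agent.H671.FactRows.factExt hK0
  good := fun h5 S _ _ _ hna hd => Cfsg.Agent.H272.GoodAll.good_all hp.out h5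
    (fun S _ _ _ hna hd => hIM S hna p hp.out hd)
    (fun S _ _ _ hna => Cfsg.Agent.H954.OutAllL.ol hna (hK S)) hK S hna hd

/-- **S4831 from Ito-Michler for simple groups.** -/
theorem final (hK : ∀ (X : Type u) [Group X] [Finite X] [IsSimpleGroup X], Cfsg.IsKnownSimple' X)
    (hK0 : ∀ (X : Type) [Group X] [Finite X] [IsSimpleGroup X], Cfsg.IsKnownSimple' X)
    (hIM : Cfsg.Agent.H671.H5.FactIM.{u}) {G : Type u} [Group G] [Finite G] (p : ℕ)
    [hp : Fact p.Prime] (hacd : (p = 2 → 2 * (∑ᶠ χ : {χ : Cfsg.IrrCharacter G // Cfsg.charDegree (χ : G → ℂ) = 1 ∨ p ∣ Cfsg.charDegree (χ : G → ℂ)}, Cfsg.charDegree (χ.1 : G → ℂ)) < 5 * Nat.card {χ : Cfsg.IrrCharacter G // Cfsg.charDegree (χ : G → ℂ) = 1 ∨ p ∣ Cfsg.charDegree (χ : G → ℂ)}) ∧ (p = 3 → 3 * (∑ᶠ χ : {χ : Cfsg.IrrCharacter G // Cfsg.charDegree (χ : G → ℂ) = 1 ∨ p ∣ Cfsg.charDegree (χ : G → ℂ)}, Cfsg.charDegree (χ.1 : G → ℂ)) < 7 * Nat.card {χ : Cfsg.IrrCharacter G // Cfsg.charDegree (χ : G → ℂ)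 = 1 ∨ p ∣ Cfsg.charDegree (χ : G → ℂ)}) ∧ (5 ≤ p → 2 * (∑ᶠ χ : {χ : Cfsg.IrrCharacter G // Cfsg.charDegree (χ : G → ℂ) = 1 ∨ p ∣ Cfsg.charDegree (χ : G → ℂ)}, Cfsg.charDegree (χ.1 : G → ℂ)) < (p + 1) * Nat.card {χ : Cfsg.IrrCharacter G // Cfsg.charDegree (χ : G → ℂ) = 1 ∨ p ∣ Cfsg.charDegree (χ : G → ℂ)})) :
    Group.IsSolvable ↥(Subgroup.closure {g : G | ∃ k : ℕ, orderOf g = p ^ k}) := by
  by_contra hns
  have hI : Inp.{u} p := inp_of hK hK0 hIM
  have hp2 := hp.out.two_le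
  have hodd : ∀ {A B : ℕ}, ((p = 3 ∧ A = 3 ∧ B = 7) ∨ (5 ≤ p ∧ A = 2 ∧ B = p + 1)) → B ≤ A * p →
      ¬ (A * (∑ᶠ χ : {χ : IrrCharacter G // charDegree (χ : G → ℂ) = 1 ∨
        p ∣ charDegree (χ : G → ℂ)}, charDegree (χ.1 : G → ℂ)) < B *
        Nat.card {χ : IrrCharacter G // charDegree (χ : G → ℂ) = 1 ∨
          p ∣ charDegree (χ : G → ℂ)}) := by
    intro A B hAB hle h
    have h1 := lt_of_avg hp2 hle h
    have h2 := odd_main hAB hI (Nat.card G) G le_rfl hns
    exact absurd h1 (not_lt.2 h2)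
  rcases Nat.lt_or_ge p 5 with h | h
  · have h4 : p ≠ 4 := by
      rintro rfl
      exact absurd hp.out (by norm_num)
    rcases (by omega : p = 2 ∨ p = 3) with h2 | h3
    · subst h2
      have h1 := Cfsg.Agent.H595.AvgTwo.two_main hI.im hI.ol hns
      exact absurd (hacd.1 rfl) (not_lt.2 h1)
    · exact hodd (Or.inl ⟨h3, rfl, rfl⟩) (by omega) (hacd.2.1 h3)
  · exact hodd (Or.inr ⟨h, rfl, rfl⟩) (by omega) (hacd.2.2 h)

end Cfsg.Agent.H404.Avg
end

private theorem dce_adef7de1319a : _root_.True := by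
  try have : _root_.True := by simp only [_root_.Cfsg.Agent.H69.OutTwD4.st.eq_1]
  exact _root_.True.intro
end
end
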